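import Cfsg.Agent.H20.FreeAbelian.Family
import Cfsg.Agent.H23.Stable
import Cfsg.Agent.H17.MajorPairs

/-!
# Sums over the pairs of a block with abelian defect group and free inertial action
-/

set_option autoImplicit false
set_option linter.style.haveILetI false
set_option linter.unusedSectionVars false

open Cfsg Finset
open scoped MonoidAlgebra ComplexConjugate

namespace H20.FAb

universe u

variable {M : Ideal AlgInt} [hMp : M.IsPrime] {G : Type u} [Group G] [Fintype G]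
variable {p : ℕ} [hp : Fact p.Prime] [CharP (H20.k M) p] [IsAlgClosed (H20.k M)]
variable [∀ R : Subgroup G, Fintype R]
variable {B : Set (IrrCharacter G)} {P : Subgroup G} {f₀ : (H20.k M)[G]}

local notation "kG" => MonoidAlgebra (H20.k M) G

theorem le_cent_zpowers (hab : ∀ a ∈ P, ∀ b ∈ P, a * b = b * a) {y : G} (hy : y ∈ P) :
    P ≤ Subgroup.centralizer (Subgroup.zpowers y : Set G) :=
  (H19.AbelianLocal.le_centralizer hab).trans
    (H23.centralizer_anti (Subgroup.zpowers_le.2 hy))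

/-- Fusion below the maximal pair. -/
theorem exists_fuse (hB : IsPBlock M B) (hab : ∀ a ∈ P, ∀ b ∈ P, a * b = b * a)
    (hmax : H23.IsMax p (H23.eB M B) P f₀) {y g : G} {b : kG} (hy : y ∈ P)
    (h1 : H23.Le p (Subgroup.zpowers y, b) (P, f₀))
    (h2 : H23.Le p (Subgroup.zpowers (g * y * g⁻¹), H23.cj g b) (P, f₀)) :
    ∃ t ∈ H23.stab P f₀, t * y * t⁻¹ = g * y * g⁻¹ := by
  have hy' : g * y * g⁻¹ ∈ P := H23.mem_of_le h2
  obtain ⟨t, ht, he⟩ := H17.Major.exists_stab_conj hB hmax h1 h2 (le_cent_zpowers hab hy)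
    (le_cent_zpowers hab hy') (x := g) (H23.cjS_zpowers g y) rfl
  exact ⟨t, ht, he y (Subgroup.mem_zpowers y)⟩

theorem stable_of_invariant (hB : IsPBlock M B) (hab : ∀ a ∈ P, ∀ b ∈ P, a * b = b * a)
    (hmax : H23.IsMax p (H23.eB M B) P f₀) {lam : G → ℂ}
    (hinv : ∀ t ∈ H23.stab P f₀, ∀ y ∈ P, lam (t * y * t⁻¹) = lam y) :
    H23.Stable p P f₀ lam := fun y hy g b h1 h2 => by
  obtain ⟨t, ht, he⟩ := exists_fuse hB hab hmax hy h1 h2
  rw [← he]
  exact hinv t ht y hy

open scoped Classical in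
/-- A sum over the pairs of the block as a sum over `P`. -/
theorem sum_pairs_free (hB : IsPBlock M B) (hab : ∀ a ∈ P, ∀ b ∈ P, a * b = b * a)
    (hmax : H23.IsMax p (H23.eB M B) P f₀)
    (hfree : ∀ g ∈ H23.stab P f₀, ∀ x ∈ P, x ≠ 1 → g * x * g⁻¹ = x →
      g ∈ Subgroup.centralizer (P : Set G))
    (Φ : G → kG → ℂ) (hΦ : H23.HInv Φ)
    (h0 : ∀ u b, ¬ H23.InBlk (H23.eB M B) (Subgroup.zpowers u) b → Φ u b = 0)
    (h1 : ∀ b, Φ 1 b = 0) (bu : P → kG)
    (hbu : ∀ y : P, H23.Le p (Subgroup.zpowers (y : G), bu y) (P, f₀)) :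
    (Fintype.card (Cos p P f₀) : ℂ) *
        ∑ u ∈ Finset.univ.filter (fun u : G => ∃ j : ℕ, orderOf u = p ^ j),
          ∑ b ∈ H23.Bls M u, Φ u b =
      ∑ y : P, ((Nat.card G : ℂ) /
        (Nat.card (Subgroup.centralizer (Subgroup.zpowers (y : G) : Set G)) : ℂ)) *
        Φ y (bu y) := by
  let Cu : G → Subgroup G := fun u => Subgroup.centralizer (Subgroup.zpowers u : Set G)
  set T := H23.stab P f₀ with hT
  let S : Finset (Σ _ : G, kG) :=
    (Finset.univ.filter (fun u : G => ∃ j : ℕ, orderOf u = p ^ j)).sigma fun u =>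
      (H23.Bls M u).filter fun b => u ≠ 1 ∧ H23.InBlk (H23.eB M B) (Subgroup.zpowers u) b
  have hS : ∑ u ∈ Finset.univ.filter (fun u : G => ∃ j : ℕ, orderOf u = p ^ j),
      ∑ b ∈ H23.Bls M u, Φ u b = ∑ a ∈ S, Φ a.1 a.2 := by
    rw [Finset.sum_sigma]
    refine Finset.sum_congr rfl fun u _ => (Finset.sum_filter_of_ne fun b _ hb => ?_).symm
    refine ⟨fun h => hb (by rw [h, h1]), ?_⟩
    by_contra h
    exact hb (h0 u b h)
  have hbp : ∀ y : P, bu y ∈ H23.Bls M (y : G) := fun y =>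
    H23.mem_Bls.2 ((hbu y).pair_left p hmax.1).2
  let D : Finset (P × G) := univ.filter fun a => a.1 ≠ 1
  let pr : P × G → (Σ _ : G, kG) := fun a => ⟨a.2 * (a.1 : G) * a.2⁻¹, H23.cj a.2 (bu a.1)⟩
  have hmaps : ∀ a ∈ D, pr a ∈ S := by
    intro a ha
    simp only [D, mem_filter, mem_univ, true_and] at ha
    simp only [S, pr, Finset.mem_sigma, Finset.mem_filter, Finset.mem_univ, true_and]
    refine ⟨?_, H23.cj_mem_Bls (hbp a.1) a.2, fun h => ha ?_, ?_⟩
    · obtain ⟨j, hj⟩ := IsPGroup.iff_orderOf.1 hmax.1.1 a.1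
      refine ⟨j, ?_⟩
      rw [show a.2 * (a.1 : G) * a.2⁻¹ = MulAut.conj a.2 (a.1 : G) from rfl, MulEquiv.orderOf_eq,
        Subgroup.orderOf_coe, hj]
    · have h' : (a.1 : G) = 1 := by
        have := congrArg (fun z => a.2⁻¹ * z * a.2) h
        simpa [mul_assoc] using this
      exact Subtype.ext h'
    · rw [← H23.cjS_zpowers]
      exact H23.inBlk_cj (H23.cidem_eB hB).fix
        ((H23.Le.inBlk_iff p (hbu a.1) (H23.cidem_eB hB)).1 hmax.2.1) a.2
  have hCP : ∀ y : G, (Nat.card (Cu y) : ℂ) ≠ 0 := fun y =>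
    Nat.cast_ne_zero.2 Nat.card_pos.ne'
  let w : P → ℂ := fun y => (Nat.card (Cu (y : G)) : ℂ)⁻¹
  have hfib : ∀ s ∈ S, ∑ a ∈ D.filter (fun a : P × G => pr a = s), w a.1 =
      (Fintype.card (Cos p P f₀) : ℂ) := by
    rintro ⟨u, b⟩ hs
    simp only [S, Finset.mem_sigma, Finset.mem_filter, Finset.mem_univ, true_and] at hs
    obtain ⟨hu, hb, hu1, hbin⟩ := hs
    obtain ⟨x0, hx0⟩ := H23.exists_below hB hmax hu hb hbin
    have hle := H23.le_pull hx0
    set y0 : P := ⟨x0⁻¹ * u * x0, H23.mem_of_le hle⟩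
    have hy0 : (y0 : G) = x0⁻¹ * u * x0 := rfl
    have hy01 : (y0 : G) ≠ 1 := fun h => hu1 (by
      have := congrArg (fun z => x0 * z * x0⁻¹) (hy0.symm.trans h)
      simpa [mul_assoc] using this)
    have hb0 : bu y0 = H23.cj x0⁻¹ b := H23.le_unique p hmax.1 (hbu y0) hle
    have hfix : ∀ c ∈ Cu (y0 : G), H23.cj c (bu y0) = bu y0 := fun c hc =>
      H23.isFix_iff_cj.1 (H23.mem_Bls.1 (hbp y0)).cidem.fix c hc
    have hmemC : ∀ c : G, c ∈ Cu (y0 : G) ↔ c * (y0 : G) = (y0 : G) * c := fun c => by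
      simp only [Cu]
      rw [H23.centralizer_zpowers, Subgroup.mem_centralizer_singleton_iff]
    have hconjT : ∀ t ∈ T, ∀ y' : P, t * y' * t⁻¹ = y0 → H23.cj t (bu y') = bu y0 := by
      intro t ht y' he
      refine H23.le_unique p hmax.1 ?_ (hbu y0)
      have h2 := (hbu y').cj p t
      rwa [H23.cjS_zpowers, he, H23.cjS_eq_self ht.1, ht.2] at h2
    have hr : ∀ x : Cos p P f₀, ((x.out : T) : G)⁻¹ * y0 * (x.out : T) ∈ P := fun x => by
      simpa using (Subgroup.mem_normalizer_iff.1 (inv_mem x.out.2.1) (y0 : G)).1 y0.2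
    let Z : Cos p P f₀ × Cu (y0 : G) → P × G := fun z =>
      (⟨_, hr z.1⟩, x0 * (z.2 : G) * ((z.1.out : T) : G))
    have hset : D.filter (fun a : P × G => pr a = ⟨u, b⟩) = univ.image Z := by
      ext a
      simp only [D, mem_filter, mem_univ, true_and, mem_image, pr, Sigma.mk.inj_iff, heq_eq_eq]
      constructor
      · rintro ⟨ha1, h2, h3⟩
        have e1 : x0⁻¹ * a.2 * (a.1 : G) * (x0⁻¹ * a.2)⁻¹ = y0 := by rw [hy0, ← h2]; group
        have e2 : H23.cj (x0⁻¹ * a.2) (bu a.1) = bu y0 := by rw [hb0, ← h3, H23.cj_cj]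
        obtain ⟨t, ht, hte⟩ := exists_fuse hB hab hmax a.1.2 (hbu a.1)
          (g := x0⁻¹ * a.2) (by rw [e1, e2]; exact hbu y0)
        set x : Cos p P f₀ := QuotientGroup.mk (⟨t, ht⟩ : T) with hx
        obtain ⟨c, hc⟩ := QuotientGroup.mk_out_eq_mul
          ((Subgroup.centralizer (P : Set G)).subgroupOf T) (⟨t, ht⟩ : T)
        set r : G := ((x.out : T) : G) with hr'
        have hrt : r = t * ((c : T) : G) := by rw [hr', hx, hc]; rfl
        have hcy := Subgroup.mem_centralizer_iff.1 (Subgroup.mem_subgroupOf.1 c.2) (a.1 : G) a.1.2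
        have hry : r * (a.1 : G) * r⁻¹ = y0 := by
          rw [hrt, show t * ((c : T) : G) * (a.1 : G) * (t * ((c : T) : G))⁻¹ =
            t * (((c : T) : G) * (a.1 : G) * ((c : T) : G)⁻¹) * t⁻¹ by group, ← hcy,
            mul_inv_cancel_right, hte, e1]
        have hcm : x0⁻¹ * a.2 * r⁻¹ ∈ Cu (y0 : G) := by
          rw [hmemC]
          calc x0⁻¹ * a.2 * r⁻¹ * y0 = x0⁻¹ * a.2 * (a.1 : G) * (x0⁻¹ * a.2)⁻¹ *
              (x0⁻¹ * a.2 * r⁻¹) := by rw [← hry]; group
            _ = _ := by rw [e1]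
        refine ⟨(x, ⟨_, hcm⟩), Prod.ext (Subtype.ext ?_) ?_⟩
        · show r⁻¹ * (y0 : G) * r = a.1
          rw [← hry]; group
        · show x0 * (x0⁻¹ * a.2 * r⁻¹) * r = a.2
          group
      · rintro ⟨⟨x, c⟩, rfl⟩
        set r : G := ((x.out : T) : G) with hr'
        have hc := (hmemC c).1 c.2
        refine ⟨fun h => hy01 ?_, ?_, ?_⟩
        · have h' : r⁻¹ * (y0 : G) * r = 1 := congrArg Subtype.val h
          calc (y0 : G) = r * (r⁻¹ * (y0 : G) * r) * r⁻¹ := by group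
            _ = 1 := by rw [h']; group
        · show x0 * (c : G) * r * (r⁻¹ * (y0 : G) * r) * (x0 * (c : G) * r)⁻¹ = u
          calc _ = x0 * ((c : G) * y0 * (c : G)⁻¹) * x0⁻¹ := by group
            _ = x0 * (y0 : G) * x0⁻¹ := by rw [hc, mul_inv_cancel_right]
            _ = u := by rw [hy0]; group
        · show H23.cj (x0 * (c : G) * r) _ = b
          rw [← H23.cj_cj, hconjT r x.out.2 _ (by
            show r * (r⁻¹ * (y0 : G) * r) * r⁻¹ = y0
            group), ← H23.cj_cj, hfix _ c.2, hb0, H23.cj_cancel_inv]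
    have hinj : Function.Injective Z := by
      rintro ⟨x, c⟩ ⟨x', c'⟩ h
      have h1' : ((x.out : T) : G)⁻¹ * y0 * (x.out : T) = ((x'.out : T) : G)⁻¹ * y0 * (x'.out : T) :=
        congrArg Subtype.val (Prod.mk_inj.1 h).1
      have h2' : x0 * (c : G) * ((x.out : T) : G) = x0 * (c' : G) * ((x'.out : T) : G) :=
        (Prod.mk_inj.1 h).2
      set r : G := ((x.out : T) : G)
      set r' : G := ((x'.out : T) : G)
      have hxx : x = x' := by
        rw [← QuotientGroup.out_eq' x, ← QuotientGroup.out_eq' x']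
        refine QuotientGroup.eq.2 (Subgroup.mem_subgroupOf.2 ?_)
        show r⁻¹ * r' ∈ Subgroup.centralizer (P : Set G)
        refine hfree _ (mul_mem (inv_mem x.out.2) x'.out.2) _ (hr x') (fun h => hy01 ?_) ?_
        · calc (y0 : G) = r' * (r'⁻¹ * (y0 : G) * r') * r'⁻¹ := by group
            _ = 1 := by rw [h]; group
        · calc r⁻¹ * r' * (r'⁻¹ * (y0 : G) * r') * (r⁻¹ * r')⁻¹ = r⁻¹ * y0 * r := by group
            _ = _ := h1'
      subst hxx
      exact Prod.ext rfl (Subtype.ext (mul_left_cancel (mul_right_cancel h2')))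
    have hw : ∀ a ∈ univ.image Z, w a.1 = w y0 := by
      intro a ha
      obtain ⟨⟨x, c⟩, -, rfl⟩ := mem_image.1 ha
      simp only [w, Cu]
      congr 2
      show Nat.card (Subgroup.centralizer (Subgroup.zpowers
        (((x.out : T) : G)⁻¹ * y0 * (x.out : T)) : Set G)) = _
      rw [← H23.card_cjS ((x.out : T) : G), H23.cjS_centralizer, H23.cjS_zpowers]
      rw [show ((x.out : T) : G) * (((x.out : T) : G)⁻¹ * y0 * (x.out : T)) *
        ((x.out : T) : G)⁻¹ = y0 by group]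
    rw [hset, Finset.sum_congr rfl hw, Finset.sum_const, Finset.card_image_of_injective _ hinj,
      card_univ, Fintype.card_prod, nsmul_eq_mul, Nat.cast_mul,
      ← Nat.card_eq_fintype_card (α := Cu (y0 : G))]
    simp only [w]
    rw [mul_assoc, mul_inv_cancel₀ (hCP _), mul_one]
  rw [hS, Finset.mul_sum]
  calc ∑ a ∈ S, (Fintype.card (Cos p P f₀) : ℂ) * Φ a.1 a.2
      = ∑ s ∈ S, ∑ a ∈ D.filter (fun a : P × G => pr a = s), w a.1 * Φ s.1 s.2 :=
        Finset.sum_congr rfl fun s hs => by rw [← Finset.sum_mul, hfib s hs]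
    _ = ∑ a ∈ D, w a.1 * Φ (a.1 : G) (bu a.1) := by
        rw [← Finset.sum_fiberwise_of_maps_to hmaps fun a : P × G => w a.1 * Φ (a.1 : G) (bu a.1)]
        refine Finset.sum_congr rfl fun s _ => Finset.sum_congr rfl fun a ha => ?_
        rw [← (Finset.mem_filter.1 ha).2]
        simp only [pr]
        rw [hΦ]
    _ = ∑ a : P × G, w a.1 * Φ (a.1 : G) (bu a.1) := by
        refine Finset.sum_subset (Finset.subset_univ _) fun a _ ha => ?_
        simp only [D, mem_filter, mem_univ, true_and, not_not] at ha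
        rw [ha, Subgroup.coe_one, h1, mul_zero]
    _ = _ := by
        rw [Fintype.sum_prod_type]
        refine Finset.sum_congr rfl fun y _ => ?_
        simp only [w, Cu, Finset.sum_const, Finset.card_univ, nsmul_eq_mul,
          Nat.card_eq_fintype_card, div_eq_mul_inv]
        ring

open scoped Classical in
/-- The inner product of a star of a function vanishing at one with another star. -/
theorem classInner_starFn_free (hM : IsPModular p M) (hB : IsPBlock M B)
    (hab : ∀ a ∈ P, ∀ b ∈ P, a * b = b * a) (hmax : H23.IsMax p (H23.eB M B) P f₀)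
    (hfree : ∀ g ∈ H23.stab P f₀, ∀ x ∈ P, x ≠ 1 → g * x * g⁻¹ = x →
      g ∈ Subgroup.centralizer (P : Set G))
    {lam : G → ℂ} (hl : H23.Stable p P f₀ lam) (hl1 : lam 1 = 0)
    (h' : G → kG → ℂ) (hh' : H23.HInv h') (χ ψ : IrrCharacter G) (bu : P → kG)
    (hbu : ∀ y : P, H23.Le p (Subgroup.zpowers (y : G), bu y) (P, f₀)) :
    (Fintype.card (Cos p P f₀) : ℂ) *
        classInner (H23.starFn p (H23.hStar p P f₀ lam) χ) (H23.starFn p h' ψ) =
      ∑ y : P, lam y * conj (h' y (bu y)) * H23.pairC p (y : G) (bu y) χ ψ := by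
  classical
  set Φ : G → kG → ℂ := fun u b => H23.hStar p P f₀ lam u b * conj (h' u b) *
    ((Nat.card (Subgroup.centralizer (Subgroup.zpowers u : Set G)) : ℂ) * H23.pairC p u b χ ψ)
    with hΦdef
  have hΦ : H23.HInv Φ := fun x u b => by
    simp only [hΦdef, H23.hInv_hStar hl x u b, hh' x u b, H23.pairC_cj]
    rw [← H23.cjS_zpowers, ← H23.cjS_centralizer, H23.card_cjS]
  have h1 : ∀ b, Φ 1 b = 0 := fun b => by
    have : H23.hStar p P f₀ lam 1 b = 0 := by
      unfold H23.hStar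
      split_ifs with h
      · rw [mul_one, inv_mul_cancel, hl1]
      · rfl
    simp only [hΦdef, this, zero_mul]
  have h := sum_pairs_free hB hab hmax hfree Φ hΦ
    (fun u b hn => by simp only [hΦdef, H23.hStar_eq_zero hB hmax hn, zero_mul]) h1 bu hbu
  rw [H23.classInner_starFn hM]
  show (Fintype.card (Cos p P f₀) : ℂ) * ((Nat.card G : ℂ)⁻¹ *
    ∑ u ∈ Finset.univ.filter (fun u : G => ∃ j : ℕ, orderOf u = p ^ j),
      ∑ b ∈ H23.Bls M u, Φ u b) = _
  rw [mul_left_comm, h, Finset.mul_sum]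
  refine Finset.sum_congr rfl fun y _ => ?_
  have hC : (Nat.card (Subgroup.centralizer (Subgroup.zpowers (y : G) : Set G)) : ℂ) ≠ 0 :=
    Nat.cast_ne_zero.2 Nat.card_pos.ne'
  have hG0 : (Nat.card G : ℂ) ≠ 0 := Nat.cast_ne_zero.2 Nat.card_pos.ne'
  simp only [hΦdef, H23.hStar_below hl (hbu y)]
  field_simp

theorem hInv_one : H23.HInv (fun (_ : G) (_ : kG) => (1 : ℂ)) := fun _ _ _ => rfl

/-- The star of the constant one is the identity. -/
theorem starFn_const (χ : IrrCharacter G) :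
    H23.starFn p (fun (_ : G) (_ : kG) => (1 : ℂ)) χ = (χ : G → ℂ) := by
  classical
  funext g
  rw [H23.starFn_eq]
  have hid : ∀ b ∈ H23.Bls M (H20.pPart p g), H23.IsId g b := fun b hb =>
    ⟨(H23.mem_Bls.1 hb).cidem.idem,
      H23.isFix_iff_cj.1 (H23.mem_Bls.1 hb).cidem.fix g (H23.mem_centralizer_pPart g)⟩
  have horth : ∀ b ∈ H23.Bls M (H20.pPart p g), ∀ b' ∈ H23.Bls M (H20.pPart p g),
      b ≠ b' → b * b' = 0 := fun b hb b' hb' hne => by
    by_contra h
    exact hne ((H23.mem_Bls.1 hb).eq_of_mul_ne_zero (H23.mem_Bls.1 hb') h)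
  simp only [one_mul]
  rw [← H23.T_sum χ _ (fun b => b) hid horth, H23.sum_Bls, H23.T_one]

end H20.FAb
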