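import Cfsg.Agent.H20.Coherence
import Mathlib.Data.Fintype.EquivFin

/-!
# Integer vectors with Gram matrix `e J + I`
-/

set_option autoImplicit false

namespace H20.FAb

/-- The quadratic form of a chain, doubled, as a sum of squares. -/
theorem chain_identity (f : ℕ → ℤ) (m : ℕ) :
    2 * ((∑ i ∈ Finset.range (m + 1), f i * f i) - ∑ i ∈ Finset.range m, f i * f (i + 1)) =
      f 0 * f 0 + f m * f m +
        ∑ i ∈ Finset.range m, (f i - f (i + 1)) * (f i - f (i + 1)) := by
  induction m with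
  | zero => simp; ring
  | succ m ih =>
    rw [Finset.sum_range_succ _ (m + 1), Finset.sum_range_succ (fun i => f i * f (i + 1)) m,
      Finset.sum_range_succ (fun i => (f i - f (i + 1)) * (f i - f (i + 1))) m]
    linear_combination ih

/-- The chain form is positive. -/
theorem one_le_chain (f : ℕ → ℤ) {m i : ℕ} (hi : i ≤ m) (hf : f i ≠ 0) :
    1 ≤ (∑ i ∈ Finset.range (m + 1), f i * f i) - ∑ i ∈ Finset.range m, f i * f (i + 1) := by
  have h := chain_identity f m
  have hs : 0 ≤ ∑ i ∈ Finset.range m, (f i - f (i + 1)) * (f i - f (i + 1)) :=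
    Finset.sum_nonneg fun j _ => mul_self_nonneg _
  by_contra hlt
  have h0 : f 0 = 0 := by
    have := mul_self_nonneg (f m)
    exact mul_self_eq_zero.1 (le_antisymm (by linarith) (mul_self_nonneg _))
  have hsum : ∑ i ∈ Finset.range m, (f i - f (i + 1)) * (f i - f (i + 1)) = 0 := by
    have := mul_self_nonneg (f m)
    have := mul_self_nonneg (f 0)
    linarith
  have hd : ∀ j < m, f j = f (j + 1) := fun j hj => sub_eq_zero.1 (mul_self_eq_zero.1
    ((Finset.sum_eq_zero_iff_of_nonneg fun j _ => mul_self_nonneg _).1 hsum j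
      (Finset.mem_range.2 hj)))
  have hall : ∀ j ≤ m, f j = 0 := by
    intro j
    induction j with
    | zero => intro _; exact h0
    | succ j ih => intro hj; rw [← hd j (by omega), ih (by omega)]
  exact hf (hall i hi)

variable {ι X : Type*} [Fintype ι] [Fintype X] [DecidableEq ι] (v : ι → X → ℤ) (e : ℕ)

/-- At most `card ι + e` coordinates. -/
theorem card_le_add (hgram : ∀ i j, ∑ x, v i x * v j x = (e : ℤ) + if i = j then 1 else 0)
    (hne : ∀ x, ∃ i, v i x ≠ 0) (hι : 0 < Fintype.card ι) :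
    Fintype.card X ≤ Fintype.card ι + e := by
  classical
  obtain ⟨m, hm⟩ := Nat.exists_eq_succ_of_ne_zero hι.ne'
  let E : ι ≃ Fin (m + 1) := Fintype.equivFinOfCardEq hm
  let f : X → ℕ → ℤ := fun x j => if h : j < m + 1 then v (E.symm ⟨j, h⟩) x else 0
  have hdot : ∀ i j (hi : i < m + 1) (hj : j < m + 1),
      ∑ x, f x i * f x j = (e : ℤ) + if i = j then 1 else 0 := by
    intro i j hi hj
    simp only [f, dif_pos hi, dif_pos hj, hgram, EmbeddingLike.apply_eq_iff_eq, Fin.mk.injEq]
  have h1 : ∀ x, (1 : ℤ) ≤ (∑ i ∈ Finset.range (m + 1), f x i * f x i) -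
      ∑ i ∈ Finset.range m, f x i * f x (i + 1) := by
    intro x
    obtain ⟨i, hi⟩ := hne x
    refine one_le_chain (f x) (i := E i) (Nat.le_of_lt_succ (E i).2) ?_
    simp only [f, dif_pos (E i).2, Equiv.symm_apply_apply, Fin.eta]
    exact hi
  have h2 := Finset.sum_le_sum (s := (Finset.univ : Finset X)) fun x _ => h1 x
  rw [Finset.sum_sub_distrib, Finset.sum_comm (t := Finset.range (m + 1)),
    Finset.sum_comm (t := Finset.range m),
    Finset.sum_congr rfl fun i hi => hdot i i (Finset.mem_range.1 hi) (Finset.mem_range.1 hi),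
    Finset.sum_congr rfl fun i hi => hdot i (i + 1) (Nat.lt_succ_of_lt (Finset.mem_range.1 hi))
      (Nat.succ_lt_succ (Finset.mem_range.1 hi))] at h2
  simp only [if_true, Nat.succ_ne_self, (Nat.lt_succ_self _).ne, if_false, add_zero,
    Finset.sum_const, Finset.card_range, Finset.card_univ, nsmul_eq_mul, mul_one] at h2
  have h3 : ((Fintype.card X : ℕ) : ℤ) ≤ ((Fintype.card ι + e : ℕ) : ℤ) := by
    rw [hm]; push_cast at h2 ⊢; linarith
  exact_mod_cast h3

/-- A sum of nonzero squares exceeding the number of terms exceeds it by at least three. -/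
theorem sq_sum_gap {s : Finset X} {b : X → ℤ} (hb : ∀ x ∈ s, b x ≠ 0) :
    ∑ x ∈ s, b x * b x = s.card ∨ (s.card : ℤ) + 3 ≤ ∑ x ∈ s, b x * b x := by
  classical
  by_cases h : ∀ x ∈ s, b x * b x = 1
  · left; rw [Finset.sum_congr rfl h]; simp
  · right
    push Not at h
    obtain ⟨x, hx, h1⟩ := h
    have hx2 : 4 ≤ b x * b x := by
      have hne := hb x hx
      have hne1 : b x ≠ 1 := fun h' => h1 (by rw [h']; norm_num)
      have hne2 : b x ≠ -1 := fun h' => h1 (by rw [h']; norm_num)
      rcases show b x ≤ -2 ∨ 2 ≤ b x by omega with h' | h' <;> nlinarith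
    rw [← Finset.add_sum_erase s _ hx, ← Finset.card_erase_add_one hx]
    have h2 : ((s.erase x).card : ℤ) ≤ ∑ y ∈ s.erase x, b y * b y := by
      rw [Finset.card_eq_sum_ones, Nat.cast_sum]
      refine Finset.sum_le_sum fun y hy => ?_
      have := hb y (Finset.mem_of_mem_erase hy)
      have := mul_self_pos.2 this
      push_cast
      omega
    push_cast
    linarith

/-- The possible shapes for `e ≤ 3`. -/
theorem shape (deg : X → ℤ) (hdeg : ∀ x, 0 < deg x)
    (hgram : ∀ i j, ∑ x, v i x * v j x = (e : ℤ) + if i = j then 1 else 0)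
    (horth : ∀ i, ∑ x, v i x * deg x = 0)
    (hne : ∀ x, ∃ i, v i x ≠ 0) (hι : 0 < Fintype.card ι) (he1 : 1 ≤ e) (he : e ≤ 3) {l : ℕ}
    (hk : Fintype.card X = l + Fintype.card ι) (hl : 1 ≤ l) :
    l = e ∨ (e = 2 ∧ Fintype.card ι = 3 ∧ l = 1) ∨ (e = 3 ∧ Fintype.card ι = 4 ∧ l = 1) ∨
      (e = 3 ∧ Fintype.card ι = 3 ∧ l = 2) := by
  classical
  have hle : l ≤ e := by
    have := card_le_add v e hgram hne hι
    omega
  rcases Nat.lt_or_ge (Fintype.card ι) 2 with ht | ht
  · -- a single vector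
    left
    obtain ⟨i₀, hi₀⟩ := Fintype.card_eq_one_iff.1 (show Fintype.card ι = 1 by omega)
    have hnz : ∀ x ∈ (Finset.univ : Finset X), v i₀ x ≠ 0 := fun x _ => by
      obtain ⟨i, hi⟩ := hne x
      rwa [hi₀ i] at hi
    have hsum := hgram i₀ i₀
    rw [if_pos rfl] at hsum
    rcases sq_sum_gap hnz with h | h <;> rw [hsum, Finset.card_univ, hk] at h <;>
      push_cast at h <;> omega
  obtain ⟨δ, Y, b, hδ, hY, hvb, hbY⟩ := H20.Coherence.coherent v hdeg (e : ℤ) hgram
    (fun i j => by simp only [sub_mul, Finset.sum_sub_distrib, horth, sub_self]) ht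
  obtain ⟨i₀, i₁, hi⟩ := Fintype.exists_pair_of_one_lt_card (α := ι) (by omega)
  set O : Finset X := (Finset.univ.image Y)ᶜ with hO
  have hOnz : ∀ x ∈ O, b x ≠ 0 := by
    intro x hx hbx
    obtain ⟨i, hi⟩ := hne x
    refine hi ?_
    have hxi : x ≠ Y i := fun h => (Finset.mem_compl.1 hx) (Finset.mem_image.2
      ⟨i, Finset.mem_univ _, h.symm⟩)
    rw [hvb, hbx, if_neg hxi, mul_zero, zero_add]
  have hOcard : O.card = l := by
    rw [hO, Finset.card_compl, Finset.card_image_of_injective _ hY, Finset.card_univ, hk]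
    omega
  have hY' : Y i₁ ≠ Y i₀ := fun h => hi (hY h).symm
  have hg : (e : ℤ) = (∑ x, b x * b x) + 2 * (δ * b (Y i₀)) := by
    have h := hgram i₀ i₁
    rw [if_neg hi, add_zero] at h
    rw [← h]
    simp only [hvb, add_mul, mul_add, Finset.sum_add_distrib, mul_ite, mul_one, mul_zero, ite_mul,
      zero_mul, Finset.sum_ite_eq', Finset.mem_univ, if_true, if_neg hY']
    rw [hbY i₁ i₀]
    ring
  have hsplit : ∑ x, b x * b x =
      (Fintype.card ι : ℤ) * (b (Y i₀) * b (Y i₀)) + ∑ x ∈ O, b x * b x := by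
    rw [← Finset.sum_add_sum_compl (Finset.univ.image Y), hO,
      Finset.sum_image (fun a _ c _ h => hY h),
      Finset.sum_congr rfl (fun i _ => by rw [hbY i i₀]), Finset.sum_const, Finset.card_univ,
      nsmul_eq_mul]
  rw [hsplit] at hg
  set g : ℤ := δ * b (Y i₀) with hgdef
  have hgg : b (Y i₀) * b (Y i₀) = g * g := by
    rcases hδ with rfl | rfl <;> simp [hgdef]
  rw [hgg] at hg
  set S : ℤ := ∑ x ∈ O, b x * b x with hS
  have hgap := sq_sum_gap hOnz
  rw [hOcard, ← hS] at hgap
  have ht' : (2 : ℤ) ≤ (Fintype.card ι : ℤ) := by exact_mod_cast ht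
  have hS1 : (1 : ℤ) ≤ S := by rcases hgap with h | h <;> omega
  have he' : (e : ℤ) ≤ 3 := by exact_mod_cast he
  have hgb : g = 0 ∨ g = -1 := by
    by_contra hc
    rcases show g ≤ -2 ∨ 1 ≤ g by omega with h | h <;>
      nlinarith [mul_le_mul_of_nonneg_right ht' (mul_self_nonneg g)]
  rcases hgb with h | h <;> rw [h] at hg <;> norm_num at hg
  · rcases hgap with h' | h' <;> omega
  · rcases hgap with h' | h' <;> omega

end H20.FAb
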