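import Cfsg.Agent.H20.FreeAbelian.Lattice
import Cfsg.Agent.H20.FreeAbelian.Combinatorics
import Cfsg.Agent.H20.SmallBlocks

/-!
# Counting the characters of a block with free abelian inertial action
-/

set_option autoImplicit false
set_option linter.style.haveILetI false
set_option linter.unusedSectionVars false

open Cfsg Finset
open scoped MonoidAlgebra

namespace H20.FAb

universe u

variable {M : Ideal AlgInt} [hMp : M.IsPrime] {G : Type u} [Group G] [Fintype G]
variable {p : ℕ} [hp : Fact p.Prime] [CharP (H20.k M) p] [IsAlgClosed (H20.k M)]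
variable [∀ R : Subgroup G, Fintype R]
variable {B : Set (IrrCharacter G)} {P : Subgroup G} {f₀ : (H20.k M)[G]}

/-- `k(B) ≤ t + e`, and the possible exceptions to equality for `e ≤ 3`. -/
theorem counts (hM : IsPModular p M) (hB : IsPBlock M B)
    (hab : ∀ a ∈ P, ∀ b ∈ P, a * b = b * a) (hmax : H23.IsMax p (H23.eB M B) P f₀)
    (hfree : ∀ g ∈ H23.stab P f₀, ∀ x ∈ P, x ≠ 1 → g * x * g⁻¹ = x →
      g ∈ Subgroup.centralizer (P : Set G)) (hP1 : P ≠ ⊥) :
    ∃ t : ℕ, Nat.card B = blockRank p B + t ∧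
      t * (Subgroup.centralizer (P : Set G)).relIndex (H23.stab P f₀) + 1 = Nat.card P ∧
      1 ≤ blockRank p B ∧
      blockRank p B ≤ (Subgroup.centralizer (P : Set G)).relIndex (H23.stab P f₀) ∧
      ((Subgroup.centralizer (P : Set G)).relIndex (H23.stab P f₀) ≤ 3 →
        blockRank p B = (Subgroup.centralizer (P : Set G)).relIndex (H23.stab P f₀) ∨
        ((Subgroup.centralizer (P : Set G)).relIndex (H23.stab P f₀) = 3 ∧ blockRank p B = 1 ∧
          Nat.card P = 13 ∧ Nat.card B = 5)) := by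
  classical
  haveI : Fintype B := Fintype.ofFinite _
  have hn : (Subgroup.centralizer (P : Set G)).relIndex (H23.stab P f₀) =
      Fintype.card (Cos p P f₀) := Nat.card_eq_fintype_card (α := Cos p P f₀)
  obtain ⟨t, hkt, ht⟩ := H19.AbelianFree.card_formula hM hB hab hmax hfree
  obtain ⟨ι, hι, v, hcard, hgram, horth, hne⟩ := exists_lattice hM hB hab hmax hfree hP1
  rw [hn] at ht ⊢
  set n := Fintype.card (Cos p P f₀) with hn'
  have hn1 : 1 ≤ n := Fintype.card_pos
  have hti : t = Fintype.card ι := Nat.eq_of_mul_eq_mul_right hn1 (by omega)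
  have hP2 := (Subgroup.one_lt_card_iff_ne_bot _).2 hP1
  have hι0 : 0 < Fintype.card ι := by
    rcases Nat.eq_zero_or_pos (Fintype.card ι) with h | h
    · rw [h, zero_mul] at hcard; omega
    · exact h
  have hl1 : 1 ≤ blockRank p B := H19.CentralRank.one_le_blockRank (H20.block_nonempty hB)
  have hk := card_le_add v n hgram hne hι0
  rw [Nat.card_eq_fintype_card] at hkt
  refine ⟨t, by rwa [Nat.card_eq_fintype_card], ht, hl1, by omega, fun he => ?_⟩
  have hdeg : ∀ x : B, (0 : ℤ) < (charDegree (x.1 : G → ℂ) : ℤ) := fun x => by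
    exact_mod_cast Nat.pos_of_ne_zero (fun h => by
      have := H12.irr_apply_one_ne_zero x.1
      rw [H22.irr_one_eq_charDegree, h, Nat.cast_zero] at this
      exact this rfl)
  rcases shape v n (fun x : B => (charDegree (x.1 : G → ℂ) : ℤ)) hdeg hgram horth hne hι0 hn1 he
    (hkt.trans (by rw [hti])) hl1 with h | ⟨he2, hi3, hl⟩ | ⟨he3, hi4, hl⟩ | ⟨he3, hi3, hl⟩
  · exact Or.inl h
  · exfalso
    have hP7 : Nat.card P = 7 := by rw [← hcard, hi3, he2]
    obtain ⟨k, hk'⟩ := IsPGroup.iff_card.1 hmax.1.1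
    have h23 := (H20.SmallBlocks.nilpotent_of_small hM hB (H23.isDefectGroup_of_isMax hB hmax) hP1
      hl (by rw [Nat.card_eq_fintype_card]; omega)).2.2
    rw [hP7] at hk'
    have hpd : p ∣ 7 := by
      rcases k with _ | k
      · simp at hk'
      · rw [hk', pow_succ]; exact dvd_mul_left _ _
    rcases h23 with rfl | rfl <;> norm_num at hpd
  · exact Or.inr ⟨he3, hl, by rw [← hcard, hi4, he3],
      by rw [Nat.card_eq_fintype_card]; omega⟩
  · exfalso
    obtain ⟨k, hk'⟩ := IsPGroup.iff_card.1 hmax.1.1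
    have hP10 : Nat.card P = 10 := by rw [← hcard, hi3, he3]
    rw [hP10] at hk'
    have h2 : 2 ∣ p ^ k := by rw [← hk']; norm_num
    have h5 : 5 ∣ p ^ k := by rw [← hk']; norm_num
    have hp2 := (Nat.prime_dvd_prime_iff_eq Nat.prime_two hp.out).1
      (Nat.prime_two.dvd_of_dvd_pow h2)
    have hp5 := (Nat.prime_dvd_prime_iff_eq Nat.prime_five hp.out).1
      (Nat.prime_five.dvd_of_dvd_pow h5)
    omega

end H20.FAb
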