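import Cfsg.Agent.H20.FreeAbelian.Uniserial
import Cfsg.Agent.H20.FreeAbelian.Counting
import Cfsg.Agent.H20.SmallBlocks

/-!
# No block with one Brauer character, defect group of order thirteen and inertial index three
-/

set_option autoImplicit false
set_option linter.style.haveILetI false
set_option linter.unusedSectionVars false

open Cfsg Finset
open scoped MonoidAlgebra

namespace H20.FAb

universe u

/-- The fourth power of a Gauss period minus its value at one. -/
theorem period_pow_four {R : Type*} [CommRing R] (h13 : (13 : R) = 0) (x : R) :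
    ∃ Q : R, (x + x ^ 3 + x ^ 9 - 3) ^ 4 =
      9 * ∑ i ∈ range 13, x ^ i + (x ^ 13 - 1) * Q := by
  refine ⟨-72 - 32 * x ^ 2 + 12 * x ^ 3 + 4 * x ^ 4 + 58 * x ^ 5 - 36 * x ^ 6 + 6 * x ^ 7 -
    36 * x ^ 8 + 12 * x ^ 9 + x ^ 10 + 6 * x ^ 11 - 12 * x ^ 14 + 4 * x ^ 15 + 4 * x ^ 17 +
    x ^ 23, ?_⟩
  simp only [sum_range_succ, sum_range_zero]
  linear_combination (-9 * x + x ^ 2 - 9 * x ^ 3 + 8 * x ^ 4 + x ^ 5 + x ^ 6 - 3 * x ^ 7 -
    3 * x ^ 8 - 9 * x ^ 9 + 8 * x ^ 10 - 3 * x ^ 11 + 8 * x ^ 12) * h13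

variable {M : Ideal AlgInt} [hMp : M.IsPrime] {G : Type u} [Group G] [Fintype G]
variable {p : ℕ} [hp : Fact p.Prime] [CharP (H20.k M) p] [IsAlgClosed (H20.k M)]
variable [∀ R : Subgroup G, Fintype R]
variable {B : Set (IrrCharacter G)} {P : Subgroup G} {f₀ : (H20.k M)[G]}

local notation "kG" => MonoidAlgebra (H20.k M) G

/-- Multiples of the sum of a subgroup do not kill a block of the centraliser. -/
theorem sum_mul_blk_ne_zero (hM : IsPModular p M) (hmax : H23.IsPair p P f₀) {u : G}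
    (hu : u ∈ P) (hord : orderOf u = p) :
    (∑ i ∈ range p, (MonoidAlgebra.single u (1 : H20.k M) : kG) ^ i) * f₀ ≠ 0 := by
  classical
  obtain ⟨c, hc, rfl⟩ := H23.exists_of_isPair hmax
  obtain ⟨g, hg⟩ := H23.exists_coeff_ne_zero hmax.2.ne_zero
  have hgC : g ∈ Subgroup.centralizer (P : Set G) := by
    by_contra h
    exact hg (H23.supp_eG _ c g h)
  have hreg : ∀ h : G, (H23.eG M (Subgroup.centralizer (P : Set G)) c).coeff h ≠ 0 →
      h ∈ Subgroup.centralizer (P : Set G) ∧ ¬ p ∣ orderOf h := by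
    intro h hh
    have hC : h ∈ Subgroup.centralizer (P : Set G) := by
      by_contra h'
      exact hh (H23.supp_eG _ c h h')
    refine ⟨hC, ?_⟩
    have := H20.regular_of_coeff_ne_zero hM hc.2
      (g := (⟨h, hC⟩ : Subgroup.centralizer (P : Set G)))
      (by rw [← H23.res_eG, H23.coeff_res]; exact hh)
    rwa [← Subgroup.orderOf_coe] at this
  intro h0
  refine hg ?_
  have h1 : ((∑ i ∈ range p, (MonoidAlgebra.single u (1 : H20.k M) : kG) ^ i) *
      H23.eG M (Subgroup.centralizer (P : Set G)) c).coeff g =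
        (H23.eG M (Subgroup.centralizer (P : Set G)) c).coeff g := by
    simp only [sum_mul, MonoidAlgebra.single_pow, one_pow, MonoidAlgebra.coeff_sum,
      Finsupp.finsetSum_apply, MonoidAlgebra.coeff_single_mul_apply, one_mul]
    rw [sum_eq_single 0]
    · simp
    · intro i hi hi0
      by_contra hne
      obtain ⟨-, hreg'⟩ := hreg _ hne
      have hcomm : Commute (u ^ i)⁻¹ g :=
        (Subgroup.mem_centralizer_iff.1 hgC _ (P.inv_mem (P.pow_mem hu i)))
      have hpow : ((u ^ i)⁻¹ * g) ^ orderOf g = (u ^ (i * orderOf g))⁻¹ := by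
        rw [hcomm.mul_pow, pow_orderOf_eq_one, mul_one, inv_pow, ← pow_mul]
      have hgreg := (hreg g hg).2
      have hne1 : ¬ p ∣ i * orderOf g := by
        rintro h
        rcases hp.out.dvd_mul.1 h with h | h
        · exact hi0 (Nat.eq_zero_of_dvd_of_lt h (mem_range.1 hi))
        · exact hgreg h
      apply hreg'
      have hord' : orderOf (((u ^ i)⁻¹ * g) ^ orderOf g) = p := by
        rw [hpow, orderOf_inv, Nat.Coprime.orderOf_pow, hord]
        rw [hord]
        exact hp.out.coprime_iff_not_dvd.2 hne1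
      exact hord'.symm.dvd.trans (orderOf_pow_dvd _)
    · exact fun h => absurd (mem_range.2 hp.out.pos) h
  rw [← h1, h0]
  rfl

/-- A central element with Brauer image the Gauss period on the maximal pair. -/
theorem exists_period_lift (hB : IsPBlock M B) (hmax : H23.IsMax p (H23.eB M B) P f₀)
    {η : kG} (hηC : H23.Supp (Subgroup.centralizer (P : Set G)) η)
    (hηT : ∀ t ∈ H23.stab P f₀, H23.cj t η = η) :
    ∃ z : kG, H23.IsFix ⊤ z ∧ H23.Br P z * f₀ = η * f₀ := by
  classical
  set N := Subgroup.normalizer (P : Set G)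
  set C := Subgroup.centralizer (P : Set G)
  set T := H23.stab P f₀
  haveI : Fintype (N ⧸ T.subgroupOf N) := Fintype.ofFinite _
  have hf := hmax.1.2
  set w0 : kG := η * f₀ with hw0
  have hw0T : ∀ t ∈ T, H23.cj t w0 = w0 := fun t ht => by rw [hw0, map_mul, hηT t ht, ht.2]
  let y : kG := ∑ x : N ⧸ T.subgroupOf N, H23.cj ((x.out : N) : G) w0
  have hyN : H23.IsFix N y := by
    refine H23.isFix_iff_cj.2 fun n hn => ?_
    simp only [y, map_sum]
    refine Fintype.sum_equiv (MulAction.toPerm (⟨n, hn⟩ : N)) _ _ fun x => ?_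
    simp only [MulAction.toPerm_apply, H23.cj_cj]
    set x' : N ⧸ T.subgroupOf N := (⟨n, hn⟩ : N) • x with hx'
    have hq : (QuotientGroup.mk x'.out : N ⧸ T.subgroupOf N) =
        QuotientGroup.mk ((⟨n, hn⟩ : N) * x.out) := by
      rw [QuotientGroup.out_eq', hx']
      conv_lhs => rw [← QuotientGroup.out_eq' x]
      rfl
    have ht := Subgroup.mem_subgroupOf.1 (QuotientGroup.eq.1 hq)
    conv_lhs =>
      rw [show n * ((x.out : N) : G) = (x'.out : G) *
          (((x'.out)⁻¹ * ((⟨n, hn⟩ : N) * x.out) : N) : G) by push_cast; group,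
        ← H23.cj_cj, hw0T _ ht]
  have hys : H23.Supp C y := by
    refine H23.supp_sum _ fun x _ => ?_
    have h1 := (hηC.mul hf.cidem.supp).cj ((x.out : N) : G)
    rwa [show Subgroup.map _ C = C from H23.cjS_normalizer_centralizer le_rfl x.out.2] at h1
  have hfy : f₀ * y = w0 := by
    simp only [y, mul_sum]
    rw [sum_eq_single ((1 : N) : N ⧸ T.subgroupOf N)]
    · have ht : (((((1 : N) : N ⧸ T.subgroupOf N)).out : N) : G) ∈ T := by
        have := QuotientGroup.eq.1 (QuotientGroup.out_eq' ((1 : N) : N ⧸ T.subgroupOf N)).symm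
        simpa using Subgroup.mem_subgroupOf.1 this
      rw [hw0T _ ht, hw0, ← mul_assoc, H23.CIdem.comm hf.cidem.fix hf.cidem.supp hηC, mul_assoc,
        hf.cidem.idem]
    · intro x _ hx
      have hblk := hf.cj ((x.out : N) : G)
      rw [show Subgroup.map _ C = C from H23.cjS_normalizer_centralizer le_rfl x.out.2] at hblk
      have hne : f₀ ≠ H23.cj ((x.out : N) : G) f₀ := by
        intro h
        refine hx ?_
        rw [← QuotientGroup.out_eq' x]
        refine QuotientGroup.eq.2 (Subgroup.mem_subgroupOf.2 ?_)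
        simpa using inv_mem (show ((x.out : N) : G) ∈ T from ⟨x.out.2, h.symm⟩)
      have h1 := (hηC.cj ((x.out : N) : G))
      rw [show Subgroup.map _ C = C from H23.cjS_normalizer_centralizer le_rfl x.out.2] at h1
      rw [hw0, map_mul, ← mul_assoc, H23.CIdem.comm hf.cidem.fix hf.cidem.supp h1, mul_assoc,
        hf.mul_ne hblk hne, mul_zero]
    · exact fun h => absurd (mem_univ _) h
  have hE := H23.cidem_eB (M := M) hB
  have hEd := (hmax.exists_orbit p (H23.isBlk_eB hB)).1
  have hBs : H23.Supp C (H23.Br P (H23.eB M B)) := H23.supp_Br P _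
  have hBf : H23.IsFix N (H23.Br P (H23.eB M B)) := (H23.isFix_Br (H := N) (hE.fix.mono le_top)).mono (le_inf le_rfl le_rfl)
  have hBd : H23.DefLE p N P (H23.Br P (H23.eB M B)) := by
    intro g hg S hS hSN hSg
    have hgC : g ∈ C := by
      by_contra h
      exact hg (H23.coeff_Br_of_notMem _ h)
    rw [H23.coeff_Br_of_mem _ hgC] at hg
    have hR : IsPGroup p (S ⊔ P : Subgroup G) := hS.to_sup_of_normal_right' hmax.1.1 hSN
    obtain ⟨x, -, hx⟩ := hEd g hg _ hR le_top (sup_le hSg (H23.le_centralizer_singleton hgC))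
    have heq : P = S ⊔ P := Subgroup.eq_of_le_of_card_ge le_sup_right
      ((Subgroup.card_le_of_le hx).trans_eq (H23.card_cjS x P))
    refine ⟨1, one_mem _, ?_⟩
    rw [H23.cjS_one, heq]
    exact le_sup_left
  obtain ⟨z, hzf, -, hzb⟩ := H23.exists_lift p hmax.1.1 (hBs.mul hys) (hBf.mul hyN)
    (hBd.mul p hBf hyN)
  refine ⟨z, hzf, ?_⟩
  rw [← H23.CIdem.comm hf.cidem.fix hf.cidem.supp (H23.supp_Br P z), hzb, ← mul_assoc,
    show f₀ * H23.Br P (H23.eB M B) = f₀ from hmax.2.1, hfy]

set_option maxHeartbeats 1600000 in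
/-- The exceptional configuration does not occur. -/
theorem exclusion13 (hM : IsPModular p M) (hB : IsPBlock M B)
    (hmax : H23.IsMax p (H23.eB M B) P f₀)
    (he : (Subgroup.centralizer (P : Set G)).relIndex (H23.stab P f₀) = 3)
    (hl : blockRank p B = 1) (hP : Nat.card P = 13) (hk : Nat.card B = 5) : False := by
  classical
  haveI : Fact (Nat.Prime 13) := ⟨by norm_num⟩
  obtain ⟨n, hn⟩ := IsPGroup.iff_card.1 hmax.1.1
  have hp13 : p = 13 := by
    rcases n with _ | n
    · rw [hP, pow_zero] at hn; omega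
    · exact (Nat.prime_dvd_prime_iff_eq hp.out (by norm_num)).1
        (by rw [← hP, hn, pow_succ]; exact dvd_mul_left _ _)
  obtain ⟨u0, hu0⟩ := (isCyclic_of_prime_card (α := P) (p := 13) hP).exists_generator
  set u : G := (u0 : G) with hu
  have huP : u ∈ P := u0.2
  have hord : orderOf u = 13 := by
    rw [hu, Subgroup.orderOf_coe, orderOf_eq_card_of_forall_mem_zpowers hu0, hP]
  have hPu : ∀ y ∈ P, ∃ a < 13, u ^ a = y := by
    intro y hy
    obtain ⟨a, ha, hay⟩ := Finset.mem_image.1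
      (mem_zpowers_iff_mem_range_orderOf.1 (hu0 ⟨y, hy⟩))
    refine ⟨a, ?_, by rw [hu, ← Subgroup.coe_pow, hay]⟩
    rw [← Subgroup.orderOf_coe, ← hu, hord] at ha
    exact mem_range.1 ha
  have hf := hmax.1.2
  set C := Subgroup.centralizer (P : Set G) with hC
  set T := H23.stab P f₀ with hT
  -- the exponents of the stabiliser
  haveI : (C.subgroupOf T).Normal := by
    refine ⟨fun c hc t => ?_⟩
    rw [Subgroup.mem_subgroupOf] at hc ⊢
    exact (H23.conj_mem_centralizer_iff t.2.1 _).2 hc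
  have hexp : ∀ t ∈ T, ∃ a : ℕ, (a = 1 ∨ a = 3 ∨ a = 9) ∧ t * u * t⁻¹ = u ^ a := by
    intro t ht
    obtain ⟨a, ha, hat⟩ := hPu _ ((Subgroup.mem_normalizer_iff.1 ht.1 u).1 huP)
    refine ⟨a, ?_, hat.symm⟩
    have hconj : ∀ r : ℕ, t ^ r * u * (t ^ r)⁻¹ = u ^ a ^ r := by
      intro r
      induction r with
      | zero => simp
      | succ r ih =>
        calc t ^ (r + 1) * u * (t ^ (r + 1))⁻¹ = t * (t ^ r * u * (t ^ r)⁻¹) * t⁻¹ := by
              rw [pow_succ']; group
          _ = (t * u * t⁻¹) ^ a ^ r := by rw [ih, conj_pow]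
          _ = _ := by rw [← hat, ← pow_mul, pow_succ']
    have hidx : (C.subgroupOf T).index = 3 := he
    have h3 : t ^ 3 ∈ C := by
      have := Subgroup.pow_index_mem (C.subgroupOf T) ⟨t, ht⟩
      rw [hidx, Subgroup.mem_subgroupOf] at this
      simpa using this
    have h4 := hconj 3
    rw [← Subgroup.mem_centralizer_iff.1 h3 u huP, mul_inv_cancel_right] at h4
    have h5 : a ^ 3 % 13 = 1 := by
      have h6 : u ^ 1 = u ^ a ^ 3 := by rw [pow_one]; exact h4
      rw [pow_eq_pow_iff_modEq, hord] at h6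
      exact h6.symm
    interval_cases a <;> simp at h5 <;> simp
  -- the period
  set U : kG := MonoidAlgebra.single u 1 with hU
  have hUn : ∀ r : ℕ, U ^ r = MonoidAlgebra.single (u ^ r) 1 := fun r => by
    rw [hU, MonoidAlgebra.single_pow, one_pow]
  set η : kG := U + U ^ 3 + U ^ 9 with hη
  have huC : ∀ r : ℕ, H23.Supp C (U ^ r) := by
    intro r g hg
    rw [hUn, MonoidAlgebra.coeff_single, Finsupp.single_apply, if_neg]
    rintro rfl
    refine hg (Subgroup.mem_centralizer_iff.2 fun y hy => ?_)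
    obtain ⟨a, -, rfl⟩ := hPu y hy
    rw [← pow_add, ← pow_add, add_comm]
  have hηC : H23.Supp C η := by
    have := ((huC 1).add (huC 3)).add (huC 9)
    rwa [pow_one] at this
  have hU13 : U ^ 13 = 1 := by
    rw [hUn, ← hord, pow_orderOf_eq_one, MonoidAlgebra.one_def]
  have hcjU : ∀ (t : G) (a : ℕ), t * u * t⁻¹ = u ^ a → H23.cj t U = U ^ a := by
    intro t a ha
    rw [hUn, ← ha, hU]
    simp [H23.cj]
  have hηT : ∀ t ∈ T, H23.cj t η = η := by
    intro t ht
    obtain ⟨a, ha, hat⟩ := hexp t ht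
    simp only [hη, map_add, map_pow, hcjU t a hat, ← pow_mul]
    rcases ha with rfl | rfl | rfl
    · simp
    · rw [show 3 * 9 = 13 + 13 + 1 from rfl, pow_add, pow_add, hU13, one_mul, one_mul, pow_one,
        show 3 * 3 = 9 from rfl]
      abel
    · rw [show 9 * 3 = 13 + 13 + 1 from rfl, show 9 * 9 = 13 * 6 + 3 from rfl, pow_add _ (13 * 6),
        pow_mul, hU13, one_pow, one_mul, pow_add, pow_add, hU13, one_mul, one_mul, pow_one]
      abel
  obtain ⟨z, hzf, hzb⟩ := exists_period_lift hB hmax hηC hηT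
  -- the corner
  obtain ⟨i, hi, hiB, ⟨c, hc, hdim⟩, m, x, y, hgen⟩ :=
    BasicAlg.exists_generator hM hB (H23.isDefectGroup_of_isMax hB hmax) hl
  have hcod := BasicAlg.finrank_le_comm_add hB hi.idem hiB hgen
  rw [hk] at hcod
  have hzc : ∀ a : kG, z * a = a * z := fun a => by
    have hcen : z ∈ Subalgebra.center (H20.k M) kG :=
      H23.mem_center_iff_coeff.2 fun x g => hzf x (Subgroup.mem_top x) g
    exact (Subalgebra.mem_center_iff.1 hcen a).symm
  obtain ⟨μ, hμ⟩ := hi.exists_scalar (k := H20.k M) (x := z * i)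
    (by rw [← mul_assoc, ← hzc, mul_assoc, hi.idem]) (by rw [mul_assoc, hi.idem])
  set z' : kG := z - μ • 1 with hz'
  have hz'c : ∀ a : kG, z' * a = a * z' := fun a => by
    rw [hz', sub_mul, mul_sub, hzc, smul_one_mul, mul_smul_comm, mul_one]
  have hz'f : H23.IsFix P z' := by
    refine H23.mem_fixSub.1 ((H23.fixSub (H20.k M) P).sub_mem (H23.mem_fixSub.2 (hzf.mono le_top))
      ((H23.fixSub (H20.k M) P).smul_mem (Subalgebra.one_mem _) μ))
  set ζ : kG := η - μ • 1 with hζ
  have hcf : ∀ a : kG, H23.Supp C a → f₀ * a = a * f₀ := fun a ha =>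
    H23.CIdem.comm hf.cidem.fix hf.cidem.supp ha
  have hbr : ∀ r : ℕ, H23.IsFix P (z' ^ r) ∧ H23.Br P (z' ^ r) * f₀ = ζ ^ r * f₀ := by
    intro r
    induction r with
    | zero => exact ⟨by rw [pow_zero]; exact H23.isFix_one P, by rw [pow_zero, H23.Br_one, pow_zero]⟩
    | succ r ih =>
      refine ⟨by rw [pow_succ]; exact ih.1.mul hz'f, ?_⟩
      have h1 : H23.Br P z' * f₀ = ζ * f₀ := by
        have : H23.Br P z' = H23.Br P z - μ • 1 := by
          rw [hz', H23.Br, map_sub, map_sub, map_smul, map_smul, H23.res_one, map_one]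
          rfl
        rw [this, sub_mul, hzb, hζ, sub_mul]
      have hζC : H23.Supp C ζ := hηC.sub fun g hg => by
        rw [MonoidAlgebra.one_def, MonoidAlgebra.smul_single', mul_one, MonoidAlgebra.coeff_single,
          Finsupp.single_apply, if_neg]
        rintro rfl
        exact hg (one_mem C)
      calc H23.Br P (z' ^ (r + 1)) * f₀ = H23.Br P (z' ^ r) * (H23.Br P z' * f₀) := by
            rw [pow_succ, H23.Br_mul hmax.1.1 ih.1 hz'f, mul_assoc]
        _ = H23.Br P (z' ^ r) * f₀ * ζ := by rw [h1, ← hcf ζ hζC, mul_assoc]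
        _ = ζ ^ (r + 1) * f₀ := by rw [ih.2, mul_assoc, hcf ζ hζC, ← mul_assoc, ← pow_succ]
  -- the fourth power does not vanish
  have hw4 : z' ^ 4 * i ≠ 0 := by
    intro h0
    have hcomm : ∀ a : kG, z' ^ 4 * a = a * z' ^ 4 := fun a =>
      (Commute.pow_left (hz'c a) 4).eq
    have hE : z' ^ 4 * H23.eB M B = 0 := by
      show z' ^ 4 * H20.eRed M B = 0
      rw [hgen, mul_sum]
      refine sum_eq_zero fun l _ => ?_
      rw [← mul_assoc, ← mul_assoc, hcomm (x l), mul_assoc (x l), h0, mul_zero, zero_mul]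
    have h1 : ζ ^ 4 * f₀ = 0 := by
      have hEf : H23.Br P (H23.eB M B) * f₀ = f₀ := by
        rw [← hcf _ (H23.supp_Br P _)]
        exact hmax.2.1
      calc ζ ^ 4 * f₀ = H23.Br P (z' ^ 4) * (H23.Br P (H23.eB M B) * f₀) := by
            rw [hEf, (hbr 4).2]
        _ = H23.Br P (z' ^ 4 * H23.eB M B) * f₀ := by
            rw [H23.Br_mul hmax.1.1 (hbr 4).1 ((H23.cidem_eB hB).fix.mono le_top), mul_assoc]
        _ = 0 := by rw [hE, H23.Br_zero, zero_mul]
    have hS := sum_mul_blk_ne_zero hM hmax.1 huP (by rw [hord, hp13])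
    rw [hp13, ← hU] at hS
    set Su : kG := ∑ r ∈ range 13, U ^ r with hS'
    have hS'U : ∀ r : ℕ, Su * U ^ r = Su := by
      have h1 : Su * U = Su := by
        have := geom_sum_mul U 13
        rwa [hU13, sub_self, mul_sub, mul_one, sub_eq_zero] at this
      intro r
      induction r with
      | zero => rw [pow_zero, mul_one]
      | succ r ih => rw [pow_succ, ← mul_assoc, ih, h1]
    have hS'ζ : ∀ r : ℕ, Su * ζ ^ r = ((3 : H20.k M) - μ) ^ r • Su := by
      have h1 : Su * ζ = ((3 : H20.k M) - μ) • Su := by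
        have h' := hS'U 1
        rw [pow_one] at h'
        rw [hζ, hη, mul_sub, mul_add, mul_add, h', hS'U, hS'U, mul_smul_comm, mul_one, sub_smul,
          show (3 : H20.k M) = 1 + 1 + 1 by norm_num, add_smul, add_smul, one_smul]
      intro r
      induction r with
      | zero => rw [pow_zero, mul_one, pow_zero, one_smul]
      | succ r ih => rw [pow_succ, ← mul_assoc, ih, smul_mul_assoc, h1, smul_smul, pow_succ]
    by_cases hμ3 : μ = 3
    · have h13 : ((13 : ℕ) : H20.k M) = 0 := by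
        rw [CharP.cast_eq_zero_iff (H20.k M) p, hp13]
      obtain ⟨Q, hQ⟩ := period_pow_four (R := Polynomial (H20.k M))
        (by rw [← Nat.cast_ofNat, ← map_natCast (Polynomial.C), h13, map_zero]) Polynomial.X
      have h2 := congrArg (Polynomial.aeval U) hQ
      simp only [map_pow, map_sub, map_add, map_mul, map_ofNat, map_sum, map_one,
        Polynomial.aeval_X, hU13, sub_self, zero_mul, add_zero] at h2
      have h3 : ζ ^ 4 = 9 * Su := by
        rw [← h2, hζ, hη, hμ3, ofNat_smul_eq_nsmul (H20.k M), nsmul_eq_mul, mul_one, Nat.cast_ofNat]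
      rw [h3, mul_assoc] at h1
      have h9 : ((9 : ℕ) : H20.k M) ≠ 0 := by
        rw [Ne, CharP.cast_eq_zero_iff (H20.k M) p, hp13]
        norm_num
      refine hS ((smul_eq_zero.1 ?_).resolve_left h9)
      rw [Nat.cast_smul_eq_nsmul, nsmul_eq_mul, Nat.cast_ofNat]
      exact h1
    · refine hS ((smul_eq_zero.1 ?_).resolve_left
        (pow_ne_zero 4 (sub_ne_zero.2 (Ne.symm hμ3))))
      rw [← smul_mul_assoc, ← hS'ζ 4, mul_assoc, h1, mul_zero]
  -- conclude
  have hwmem : z' * i ∈ LocalAlg.corner (H20.k M) i :=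
    (LocalAlg.mem_corner hi.idem).2 ⟨by rw [← mul_assoc, ← hz'c, mul_assoc, hi.idem],
      by rw [mul_assoc, hi.idem]⟩
  have hpow : ∀ r : ℕ, (z' * i) ^ (r + 1) = z' ^ (r + 1) * i := by
    intro r
    induction r with
    | zero => simp
    | succ r ih =>
      rw [pow_succ, ih, mul_assoc, ← mul_assoc i, ← hz'c i, mul_assoc z', hi.idem, ← mul_assoc,
        ← pow_succ]
  have h5 : Module.finrank (H20.k M) (LocalAlg.corner (H20.k M) i) ≤ 5 := by
    refine LocalAlg.finrank_le_five hi (SmallBlocks.tau (M := M))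
      (fun a _ b _ => SmallBlocks.tau_comm a b) (fun a ha ha0 => ?_) hcod hwmem ?_ ?_
      (by rw [hpow 3]; exact hw4)
    · obtain ⟨g, hg⟩ := H23.exists_coeff_ne_zero ha0
      obtain ⟨h1, h2⟩ := (LocalAlg.mem_corner hi.idem).1 ha
      refine ⟨i * MonoidAlgebra.single g⁻¹ 1 * i, ⟨_, rfl⟩, ?_⟩
      rw [← mul_assoc, ← mul_assoc, h2, SmallBlocks.tau_comm, ← mul_assoc, h1]
      show (a * MonoidAlgebra.single g⁻¹ (1 : H20.k M)).coeff 1 ≠ 0
      rw [H20.coeff_mul_single_one, inv_inv, one_mul]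
      exact hg
    · intro a ha
      obtain ⟨h1, h2⟩ := (LocalAlg.mem_corner hi.idem).1 ha
      rw [mul_assoc z' i a, h1, hz'c i, ← mul_assoc, h2, hz'c]
    · rwa [show z' * i = z * i - μ • i by rw [hz', sub_mul, smul_one_mul]]
  rw [hdim, hP] at h5
  have : 1 ≤ c ^ 2 := Nat.one_le_pow _ _ (Nat.pos_of_ne_zero hc)
  nlinarith

end H20.FAb
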