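import Cfsg.Agent.H20.FreeAbelian.Source

/-!
# The characters of the defect group attached to the conjugates of a source idempotent
-/

set_option autoImplicit false
set_option linter.style.haveILetI false
set_option linter.unusedSectionVars false

open Cfsg Finset
open scoped MonoidAlgebra ComplexConjugate

namespace H20.FAb

universe u

variable {M : Ideal AlgInt} [hMp : M.IsPrime] {G : Type u} [Group G] [Fintype G]
variable {p : ℕ} [hp : Fact p.Prime] [CharP (H20.k M) p] [IsAlgClosed (H20.k M)]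
variable [∀ R : Subgroup G, Fintype R]
variable {B : Set (IrrCharacter G)} {P : Subgroup G} {f₀ : (H20.k M)[G]}

local notation "kG" => MonoidAlgebra (H20.k M) G

/-- The cosets of the centraliser of `P` in the stabiliser of the maximal pair. -/
abbrev Cos (p : ℕ) [Fact p.Prime] [CharP (H20.k M) p] (P : Subgroup G) (f₀ : (H20.k M)[G]) :
    Type u :=
  (H23.stab P f₀) ⧸ (Subgroup.centralizer (P : Set G)).subgroupOf (H23.stab P f₀)

/-- The conjugate of `q` at a coset. -/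
noncomputable def conjAt (q : kG) (x : Cos p P f₀) : kG :=
  H23.cj (((x.out : H23.stab P f₀) : G)) q

noncomputable instance : Fintype (Cos p P f₀) := Fintype.ofFinite _

/-- The value at `u` on the family. -/
noncomputable def Dg (P : Subgroup G) (f₀ q : kG) (χ : IrrCharacter G) (u : G) : ℂ :=
  ∑ x : Cos p P f₀, H23.T χ u (conjAt (p := p) q x)

/-- The multiplicity at a local block. -/
noncomputable def mR (q : kG) {R : Subgroup G} (L : Loc p M P f₀ R) : ℂ :=
  ∑ x : Cos p P f₀, H23.T L.θ 1 (H23.res (Cz R) (H23.Br R (conjAt (p := p) q x)))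

/-- The value at `s` on the family of a local block. -/
noncomputable def Dl (q : kG) {Q : Subgroup G} (L : Loc p M P f₀ Q) (s : Cz Q) : ℂ :=
  ∑ x : Cos p P f₀, H23.T L.θ s (H23.res (Cz Q) (H23.Br Q (conjAt (p := p) q x)))

theorem IsCharacter.fsum {A : Type*} [Group A] [Fintype A] {ι : Type*} [Fintype ι]
    (f : ι → A → ℂ) (h : ∀ i, IsCharacter A (f i)) : IsCharacter A (fun a => ∑ i, f i a) := by
  convert H12.IsCharacter.sum univ f (fun i _ => h i) using 1
  funext a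
  simp [Finset.sum_apply]

variable {q : (H20.k M)[G]}

theorem conjAt_idem (hqq : q * q = q) (x : Cos p P f₀) :
    conjAt (p := p) q x * conjAt (p := p) q x = conjAt (p := p) q x := by
  rw [conjAt, ← map_mul, hqq]

theorem conjAt_fix (hq : H23.IsFix P q) (x : Cos p P f₀) :
    H23.IsFix P (conjAt (p := p) q x) :=
  isFix_cj_stab hq x.out.2.1

theorem conjAt_coh (hq : Coh p P f₀ q) (x : Cos p P f₀) : Coh p P f₀ (conjAt (p := p) q x) :=
  coh_cj hq x.out.2

theorem isCharacter_Dg (hqq : q * q = q) (hqP : H23.IsFix P q) (χ : IrrCharacter G) :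
    IsCharacter P (fun y : P => Dg (p := p) P f₀ q χ (y : G)) :=
  IsCharacter.fsum (fun x (y : P) => H23.T χ (y : G) (conjAt (p := p) q x)) fun x =>
    isCharacter_T χ P (conjAt_idem hqq x) (conjAt_fix hqP x)

/-- The family is stable under the stabiliser. -/
theorem Dg_stab (χ : IrrCharacter G) {t : G} (ht : t ∈ H23.stab P f₀) {u : G} (hu : u ∈ P) :
    Dg (p := p) P f₀ q χ (t * u * t⁻¹) = Dg (p := p) P f₀ q χ u := by
  classical
  set T := H23.stab P f₀
  set S := (Subgroup.centralizer (P : Set G)).subgroupOf T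
  refine Fintype.sum_equiv (MulAction.toPerm (⟨t, ht⟩⁻¹ : T)) _ _ fun x => ?_
  simp only [MulAction.toPerm_apply, conjAt]
  set y : Cos p P f₀ := (⟨t, ht⟩⁻¹ : T) • x with hy
  obtain ⟨c, hc⟩ := QuotientGroup.mk_out_eq_mul S ((⟨t, ht⟩⁻¹ : T) * x.out)
  have hy' : (QuotientGroup.mk ((⟨t, ht⟩⁻¹ : T) * x.out) : T ⧸ S) = y := by
    rw [hy]
    conv_rhs => rw [← QuotientGroup.out_eq' x]
    rfl
  rw [hy'] at hc
  set r : G := ((y.out : T) : G) with hr
  have hcC : ((c : T) : G) ∈ Subgroup.centralizer (P : Set G) :=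
    Subgroup.mem_subgroupOf.1 c.2
  have hxr : ((x.out : T) : G) = t * r * ((c : T) : G)⁻¹ := by
    rw [hr, hc]
    simp only [Subgroup.coe_mul, Subgroup.coe_inv]
    group
  rw [hxr, ← H23.cj_cj (t * r), ← H23.cj_cj t, H23.T_cj_any]
  set d := ((c : T) : G)⁻¹ with hd
  have hdC : d ∈ Subgroup.centralizer (P : Set G) := inv_mem hcC
  have hrT : r ∈ T := y.out.2
  have hw : r⁻¹ * u * r ∈ P := by
    simpa using (Subgroup.mem_normalizer_iff.1 (inv_mem hrT).1 u).1 hu
  have e1 : ∀ a : kG, H23.T χ u (H23.cj r a) = H23.T χ (r⁻¹ * u * r) a := fun a => by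
    conv_lhs => rw [show u = r * (r⁻¹ * u * r) * r⁻¹ by group]
    exact H23.T_cj_any χ r _ a
  rw [e1, e1]
  have hdw : d * (r⁻¹ * u * r) * d⁻¹ = r⁻¹ * u * r := by
    rw [← Subgroup.mem_centralizer_iff.1 hdC _ hw, mul_inv_cancel_right]
  conv_lhs => rw [← hdw]
  exact H23.T_cj_any χ d _ q

theorem local_idem (hqq : q * q = q) (hqP : H23.IsFix P q) (hq : Coh p P f₀ q) {R : Subgroup G}
    (hR : R ≤ P) (L : Loc p M P f₀ R) (x : Cos p P f₀) :
    let a := H23.res (Cz R) (H23.Br R (conjAt (p := p) q x))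
    a * a = a ∧ a * H20.eRed M L.β = a := by
  intro a
  have hfix : H23.IsFix R (conjAt (p := p) q x) := (conjAt_fix hqP x).mono hR
  refine ⟨?_, ?_⟩
  · rw [← H23.res_mul (H23.supp_Br R _) (H23.supp_Br R _),
      ← H23.Br_mul L.nsub.fst.1 hfix hfix, conjAt_idem hqq x]
  · rw [← H23.res_eG, ← H23.res_mul (H23.supp_Br R _) (H23.supp_eG _ _),
      conjAt_coh hq x R _ (Relation.ReflTransGen.single L.nsub)]

theorem mR_nat (hqq : q * q = q) (hqP : H23.IsFix P q) {R : Subgroup G}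
    (hR : R ≤ P) (L : Loc p M P f₀ R) :
    ∃ n : ℕ, mR (p := p) q L = n := by
  classical
  have h : ∀ x : Cos p P f₀, ∃ n : ℕ,
      H23.T L.θ 1 (H23.res (Cz R) (H23.Br R (conjAt (p := p) q x))) = n := fun x => by
    have hfix : H23.IsFix R (conjAt (p := p) q x) := (conjAt_fix hqP x).mono hR
    obtain ⟨n, hn, -⟩ := redC_T_one L.θ
      (a := H23.res (Cz R) (H23.Br R (conjAt (p := p) q x))) (by
        rw [← H23.res_mul (H23.supp_Br R _) (H23.supp_Br R _),
          ← H23.Br_mul L.nsub.fst.1 hfix hfix, conjAt_idem hqq x])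
    exact ⟨n, hn⟩
  choose n hn using h
  exact ⟨∑ x, n x, by rw [mR, Nat.cast_sum]; exact sum_congr rfl fun x _ => hn x⟩

/-- On the section of `u` the values are a multiple of the multiplicity. -/
theorem exists_global (hM : IsPModular p M) (hab : ∀ a ∈ P, ∀ b ∈ P, a * b = b * a)
    (hPp : IsPGroup p P) (hqq : q * q = q) (hqP : H23.IsFix P q) (hq : Coh p P f₀ q) {u : G}
    (hu : u ∈ P) (L : Loc p M P f₀ (Subgroup.zpowers u)) :
    ∃ δ : IrrCharacter G → ℂ, ∀ χ : IrrCharacter G, IsIntegral ℤ (δ χ) ∧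
      Dg (p := p) P f₀ q χ u = δ χ * mR (p := p) q L ∧
      ∀ ψ : IrrCharacter G, (Nat.card P : ℂ) *
        H23.pairC p u (H23.eG M (Cz (Subgroup.zpowers u)) L.β) χ ψ = δ χ * conj (δ ψ) := by
  classical
  obtain ⟨δ, hδ⟩ := exists_global_delta hM hab hu hPp L
  refine ⟨δ, fun χ => ⟨(hδ χ).1, ?_, (hδ χ).2.2⟩⟩
  rw [Dg, mR, mul_sum]
  refine sum_congr rfl fun x => fun _ => ?_
  obtain ⟨ha, haβ⟩ := local_idem hqq hqP hq (Subgroup.zpowers_le.2 hu) L x
  obtain ⟨n, hn, hT⟩ := (hδ χ).2.1 _ ha haβ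
  rw [hn, ← hT]
  have hid : H23.IsId u (conjAt (p := p) q x) :=
    ⟨conjAt_idem hqq x, H23.isFix_iff_cj.1 (conjAt_fix hqP x) u hu⟩
  rw [H23.T_Br hM χ hid, H20.pPart_eq_self (H23.exists_orderOf_of_mem hPp hu)]
  congr 1
  exact (H23.emb_res (H23.supp_Br _ _)).symm

theorem isCharacter_Dl (hqq : q * q = q) (hqP : H23.IsFix P q) {Q : Subgroup G} (hQ : Q ≤ P)
    (hPH : P ≤ Cz Q) (L : Loc p M P f₀ Q) :
    IsCharacter P (fun y : P => Dl (p := p) q L ⟨(y : G), hPH y.2⟩) := by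
  classical
  refine IsCharacter.fsum (fun x (y : P) =>
    H23.T L.θ ⟨(y : G), hPH y.2⟩ (H23.res (Cz Q) (H23.Br Q (conjAt (p := p) q x)))) fun x => ?_
  set a := H23.res (Cz Q) (H23.Br Q (conjAt (p := p) q x)) with ha
  have hfix : H23.IsFix Q (conjAt (p := p) q x) := (conjAt_fix hqP x).mono hQ
  have haa : a * a = a := by
    rw [ha, ← H23.res_mul (H23.supp_Br Q _) (H23.supp_Br Q _),
      ← H23.Br_mul L.nsub.fst.1 hfix hfix, conjAt_idem hqq x]
  have hafix : H23.IsFix (P.subgroupOf (Cz Q)) a := fun y hy g => by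
    rw [ha, H23.coeff_res, H23.coeff_res]
    exact ((H23.isFix_Br (conjAt_fix hqP x)).mono
      (le_inf le_rfl (hPH.trans (Subgroup.centralizer_le_normalizer _)))) y hy g
  let φ : P →* P.subgroupOf (Cz Q) :=
    MonoidHom.mk' (fun y => ⟨⟨(y : G), hPH y.2⟩, y.2⟩) fun _ _ => rfl
  exact H12.IsCharacter.comp (isCharacter_T L.θ (P.subgroupOf (Cz Q)) haa hafix) φ

theorem Dl_one {Q : Subgroup G} (L : Loc p M P f₀ Q) : Dl (p := p) q L 1 = mR (p := p) q L := rfl

/-- The values of a local family are units times the multiplicities. -/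
theorem Dl_value (hM : IsPModular p M) (hab : ∀ a ∈ P, ∀ b ∈ P, a * b = b * a)
    (hmax : H23.IsMax p (H23.eB M B) P f₀) (hqq : q * q = q) (hqP : H23.IsFix P q)
    (hq : Coh p P f₀ q) {Q R : Subgroup G} (hQ : Q ≤ P) (LQ : Loc p M P f₀ Q)
    (LR : Loc p M P f₀ R) {s : G} (hs : s ∈ P) (hQR : R = Q ⊔ Subgroup.zpowers s)
    (hsH : s ∈ Cz Q) :
    ∃ δ : ℂ, IsIntegral ℤ δ ∧ δ * conj δ = 1 ∧
      Dl (p := p) q LQ ⟨s, hsH⟩ = δ * mR (p := p) q LR := by
  classical
  have hRP : R ≤ P := hQR ▸ sup_le hQ (Subgroup.zpowers_le.2 hs)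
  have hKH : Cz R ≤ Cz Q := H23.centralizer_anti (hQR ▸ le_sup_left)
  obtain ⟨δ, hint, hδ1, hδ⟩ := exists_local_delta hM hab hmax LQ LR hs hQR hQ hKH hsH
  refine ⟨δ, hint, hδ1, ?_⟩
  rw [Dl, mR, mul_sum]
  refine sum_congr rfl fun x => fun _ => ?_
  obtain ⟨ha, haβ⟩ := local_idem hqq hqP hq hRP LR x
  obtain ⟨n, hn, hT⟩ := hδ _ ha haβ
  rw [hn, ← hT]
  set s' : Cz Q := ⟨s, hsH⟩
  set b := conjAt (p := p) q x with hb
  have hPH : P ≤ Cz Q := (H19.AbelianLocal.le_centralizer hab).trans (H23.centralizer_anti hQ)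
  have hid : H23.IsId s' (H23.res (Cz Q) (H23.Br Q b)) := by
    have hfix : H23.IsFix Q b := (conjAt_fix hqP x).mono hQ
    refine ⟨by rw [← H23.res_mul (H23.supp_Br Q _) (H23.supp_Br Q _),
      ← H23.Br_mul LQ.nsub.fst.1 hfix hfix, conjAt_idem hqq x], ?_⟩
    ext g
    rw [H23.coeff_cj, H23.coeff_res, H23.coeff_res]
    have h := H23.isFix_Br (conjAt_fix hqP x) s ⟨hs,
      (hPH.trans (Subgroup.centralizer_le_normalizer _)) hs⟩
      (((s'⁻¹ * g * s' : Cz Q) : G))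
    rw [show s * ((s'⁻¹ * g * s' : Cz Q) : G) * s⁻¹ = (g : G) by
      simp only [Subgroup.coe_mul, Subgroup.coe_inv, s']; group] at h
    exact h.symm
  obtain ⟨j, hj⟩ := H23.exists_orderOf_of_mem hmax.1.1 hs
  have hzs : Subgroup.zpowers s' = (Subgroup.zpowers s).subgroupOf (Cz Q) := by
    ext y
    simp only [Subgroup.mem_subgroupOf, Subgroup.mem_zpowers_iff, Subtype.ext_iff,
      Subgroup.coe_zpow, s']
  rw [H23.T_Br hM LQ.θ hid, H20.pPart_eq_self ⟨j, by rwa [Subgroup.orderOf_mk]⟩, hzs,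
    H23.res_Br (Subgroup.zpowers_le.2 hsH), Br_sup, ← hQR, mk_inclusion hKH (H23.supp_Br _ _)]

/-- The degree of the family of a character of height zero is prime to `p`. -/
theorem exists_degree (hqq : q * q = q) (hqP : H23.IsFix P q) (hPp : IsPGroup p P)
    (χ₀ : IrrCharacter G) (hτ : H22.HZ.tau χ₀ (H23.Br P q) ≠ 0)
    (he : ¬ p ∣ Fintype.card (Cos p P f₀)) :
    ∃ n : ℕ, Dg (p := p) P f₀ q χ₀ 1 = n ∧ ¬ p ∣ n := by
  classical
  choose n hn hτn using fun x : Cos p P f₀ => redC_T_one χ₀ (conjAt_idem (q := q) hqq x)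
  refine ⟨∑ x, n x, by rw [Dg, Nat.cast_sum]; exact sum_congr rfl fun x _ => hn x, fun h => ?_⟩
  have h' : ((∑ x, n x : ℕ) : H20.k M) = 0 := (CharP.cast_eq_zero_iff (H20.k M) p _).2 h
  rw [Nat.cast_sum, sum_congr rfl fun x _ => hτn x] at h'
  simp only [conjAt, H22.HZ.tau_cj, sum_const, card_univ, nsmul_eq_mul] at h'
  rcases mul_eq_zero.1 h' with h' | h'
  · exact he ((CharP.cast_eq_zero_iff (H20.k M) p _).1 h')
  · exact hτ (by rwa [H22.HZ.tau_Br χ₀ hPp hqP])

end H20.FAb
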