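import Cfsg.Agent.H20.PrincipalFree
import Cfsg.Agent.H16.VChar
import Cfsg.Agent.H22.ContribBase

/-!
# Generalized characters of a finite abelian `p`-group

`IsGen f`: `f` is an integral combination of linear characters.  Congruences, inverses up to an
integer prime to `p`, and the real twist of a function whose values are units times integers.
-/

set_option autoImplicit false
set_option linter.style.haveILetI false
set_option linter.unusedSectionVars false

open Cfsg Finset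
open scoped ComplexConjugate

namespace H20.FAb

universe u

variable {A : Type u} [CommGroup A] [Fintype A] [Fintype (A →* ℂˣ)]

theorem zpow_finset_sum {G : Type*} [CommGroup G] {ι : Type*} (g : G) (s : Finset ι) (c : ι → ℤ) :
    g ^ (∑ i ∈ s, c i) = ∏ i ∈ s, g ^ c i := by
  classical
  induction s using Finset.induction with
  | empty => simp
  | insert i s hi ih => rw [sum_insert hi, prod_insert hi, zpow_add, ih]

/-- An integral combination of linear characters. -/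
def IsGen (f : A → ℂ) : Prop :=
  ∃ c : (A →* ℂˣ) → ℤ, ∀ a, f a = ∑ ψ, (c ψ : ℂ) * (ψ a : ℂ)

theorem sum_orth (ψ φ : A →* ℂˣ) [DecidableEq (A →* ℂˣ)] :
    ∑ a, (φ a : ℂ) * conj (ψ a : ℂ) = if φ = ψ then (Nat.card A : ℂ) else 0 := by
  rw [← H20.sum_conj_mul_lin]
  exact sum_congr rfl fun a _ => mul_comm _ _

/-- The coefficients. -/
theorem coef_eq {f : A → ℂ} {c : (A →* ℂˣ) → ℤ} (h : ∀ a, f a = ∑ ψ, (c ψ : ℂ) * (ψ a : ℂ))
    (φ : A →* ℂˣ) : ∑ a, f a * conj (φ a : ℂ) = (Nat.card A : ℂ) * c φ := by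
  classical
  simp only [h, sum_mul]
  rw [sum_comm, sum_eq_single φ]
  · simp only [mul_assoc, ← mul_sum, sum_orth, if_true]
    ring
  · intro ψ _ hne
    simp only [mul_assoc, ← mul_sum, sum_orth, if_neg hne, mul_zero]
  · simp

theorem expand (f : A → ℂ) (a : A) :
    (Nat.card A : ℂ) * f a = ∑ ψ : A →* ℂˣ, (∑ x, f x * conj (ψ x : ℂ)) * (ψ a : ℂ) := by
  classical
  simp only [sum_mul, mul_assoc]
  rw [sum_comm]
  simp only [← mul_sum]
  rw [sum_eq_single a]
  · rw [H20.sum_dual_conj_mul mul_comm, if_pos rfl, mul_comm]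
  · intro x _ hne
    rw [H20.sum_dual_conj_mul mul_comm, if_neg (Ne.symm hne), mul_zero]
  · simp

theorem eq_of_coef {f : A → ℂ} {κ : (A →* ℂˣ) → ℂ}
    (h : ∀ ψ : A →* ℂˣ, ∑ x, f x * conj (ψ x : ℂ) = (Nat.card A : ℂ) * κ ψ) (a : A) :
    f a = ∑ ψ, κ ψ * (ψ a : ℂ) := by
  apply mul_left_cancel₀ (Nat.cast_ne_zero.2 (Nat.card_pos (α := A)).ne' : (Nat.card A : ℂ) ≠ 0)
  rw [expand, mul_sum]
  exact sum_congr rfl fun ψ _ => by rw [h]; ring

theorem isGen_lin (φ : A →* ℂˣ) : IsGen (fun a => (φ a : ℂ)) := by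
  classical
  exact ⟨fun ψ => if ψ = φ then 1 else 0, fun a => by simp⟩

theorem IsGen.add {f g : A → ℂ} (hf : IsGen f) (hg : IsGen g) : IsGen (fun a => f a + g a) := by
  obtain ⟨c, hc⟩ := hf
  obtain ⟨d, hd⟩ := hg
  exact ⟨c + d, fun a => by simp [hc a, hd a, add_mul, sum_add_distrib]⟩

theorem IsGen.zsmul {f : A → ℂ} (hf : IsGen f) (n : ℤ) : IsGen (fun a => (n : ℂ) * f a) := by
  obtain ⟨c, hc⟩ := hf
  exact ⟨fun ψ => n * c ψ, fun a => by simp [hc a, mul_sum, mul_assoc]⟩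

theorem isGen_const (n : ℤ) : IsGen (fun _ : A => (n : ℂ)) := by
  have := (isGen_lin (1 : A →* ℂˣ)).zsmul n
  simpa using this

theorem isGen_sum {ι : Type*} (s : Finset ι) (f : ι → A → ℂ) (h : ∀ i ∈ s, IsGen (f i)) :
    IsGen (fun a => ∑ i ∈ s, f i a) := by
  classical
  induction s using Finset.induction with
  | empty => simpa using isGen_const (A := A) 0
  | insert i s hi ih =>
    simp only [sum_insert hi]
    exact (h i (mem_insert_self _ _)).add (ih fun j hj => h j (mem_insert_of_mem hj))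

theorem IsGen.mul {f g : A → ℂ} (hf : IsGen f) (hg : IsGen g) : IsGen (fun a => f a * g a) := by
  obtain ⟨c, hc⟩ := hf
  obtain ⟨d, hd⟩ := hg
  have h : (fun a => f a * g a) = fun a => ∑ ψ, ∑ φ, ((c ψ * d φ : ℤ) : ℂ) * ((ψ * φ) a : ℂ) := by
    funext a
    rw [hc, hd, sum_mul_sum]
    refine sum_congr rfl fun ψ _ => sum_congr rfl fun φ _ => ?_
    simp only [MonoidHom.mul_apply, Units.val_mul, Int.cast_mul]
    ring
  rw [h]
  exact isGen_sum _ _ fun ψ _ => isGen_sum _ _ fun φ _ => (isGen_lin (ψ * φ)).zsmul _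

theorem IsGen.conj {f : A → ℂ} (hf : IsGen f) : IsGen (fun a => conj (f a)) := by
  obtain ⟨c, hc⟩ := hf
  refine ⟨fun ψ => c ψ⁻¹, fun a => ?_⟩
  show (starRingEnd ℂ) (f a) = _
  rw [hc, map_sum]
  refine Fintype.sum_equiv (Equiv.inv _) _ _ fun ψ => ?_
  simp only [Equiv.inv_apply, inv_inv, map_mul, map_intCast, H20.conj_lin]
  rw [MonoidHom.inv_apply, map_inv]

/-- The ring of generalized characters. -/
def genRing : Subring (A → ℂ) where
  carrier := {f | IsGen f}
  zero_mem' := by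
    show IsGen _
    simpa [Pi.zero_def] using isGen_const (A := A) 0
  one_mem' := by
    show IsGen _
    simpa [Pi.one_def] using isGen_const (A := A) 1
  add_mem' := fun {f g} hf hg => IsGen.add hf hg
  mul_mem' := fun {f g} hf hg => IsGen.mul hf hg
  neg_mem' := fun {f} hf => by
    show IsGen _
    simpa [Pi.neg_def] using IsGen.zsmul hf (-1)

theorem isGen_of_isGeneralizedCharacter {f : A → ℂ} (hf : IsGeneralizedCharacter A f) :
    IsGen f := by
  classical
  obtain ⟨χ, η, hχ, hη, rfl⟩ := hf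
  choose n hn using fun ψ : A →* ℂˣ =>
    H12.IsCharacter.classInner_nat hχ (H12.isCharacter_monoidHom ψ)
  choose m hm using fun ψ : A →* ℂˣ =>
    H12.IsCharacter.classInner_nat hη (H12.isCharacter_monoidHom ψ)
  refine ⟨fun ψ => (n ψ : ℤ) - m ψ, fun a => eq_of_coef (fun ψ => ?_) a⟩
  have h1 := hn ψ
  have h2 := hm ψ
  rw [H12.classInner_def, inv_mul_eq_iff_eq_mul₀ (H12.card_ne_zero' (G := A))] at h1 h2
  simp only [Pi.sub_apply, sub_mul, sum_sub_distrib]
  rw [h1, h2]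
  push_cast
  ring

theorem IsGen.isGeneralizedCharacter {f : A → ℂ} (hf : IsGen f) :
    IsGeneralizedCharacter A f := by
  classical
  obtain ⟨c, hc⟩ := hf
  refine ⟨fun a => ∑ ψ : A →* ℂˣ, ((c ψ).toNat : ℂ) * (ψ a : ℂ),
    fun a => ∑ ψ : A →* ℂˣ, ((-c ψ).toNat : ℂ) * (ψ a : ℂ), ?_, ?_, ?_⟩
  · convert H12.IsCharacter.sum univ (fun (ψ : A →* ℂˣ) => ((c ψ).toNat : ℂ) • fun a => (ψ a : ℂ))
      (fun ψ _ => H12.IsCharacter.natCast_smul (H12.isCharacter_monoidHom ψ) _) using 1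
    funext a
    simp [Finset.sum_apply]
  · convert H12.IsCharacter.sum univ (fun (ψ : A →* ℂˣ) => ((-c ψ).toNat : ℂ) • fun a => (ψ a : ℂ))
      (fun ψ _ => H12.IsCharacter.natCast_smul (H12.isCharacter_monoidHom ψ) _) using 1
    funext a
    simp [Finset.sum_apply]
  · funext a
    simp only [Pi.sub_apply, hc, ← sum_sub_distrib, ← sub_mul]
    refine sum_congr rfl fun ψ _ => ?_
    congr 1
    exact_mod_cast (Int.toNat_sub_toNat_neg (c ψ)).symm

theorem isIntegral_apply {f : A → ℂ} (hf : IsGen f) (a : A) : IsIntegral ℤ (f a) := by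
  obtain ⟨c, hc⟩ := hf
  rw [hc]
  refine IsIntegral.sum _ fun ψ _ => (isIntegral_algebraMap (x := c ψ)).mul ?_
  exact IsIntegral.of_pow (orderOf_pos a) (by
    rw [← Units.val_pow_eq_pow_val, ← map_pow, pow_orderOf_eq_one, map_one, Units.val_one]
    exact isIntegral_one)

section PGroup

variable {p : ℕ} [hp : Fact p.Prime] {n : ℕ} (hA : Nat.card A = p ^ n)

theorem lin_pow_card (ψ : A →* ℂˣ) (a : A) : (ψ a : ℂ) ^ Nat.card A = 1 := by
  rw [← Units.val_pow_eq_pow_val, ← map_pow, pow_card_eq_one', map_one, Units.val_one]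

include hA in
theorem lin_pow_eq_one (ψ : A →* ℂˣ) : ψ ^ (p ^ n) = 1 :=
  MonoidHom.ext fun a => by
    rw [MonoidHom.pow_apply, ← map_pow, ← hA, pow_card_eq_one', map_one, MonoidHom.one_apply]

include hA in
/-- The values are congruent to the degree. -/
theorem memIdeal_sub_apply {M : Ideal AlgInt} [M.IsPrime] (hM : IsPModular p M) {f : A → ℂ}
    (hf : IsGen f) (a : A) : MemLocalIdeal M (f a - f 1) := by
  obtain ⟨c, hc⟩ := hf
  rw [hc, hc, ← sum_sub_distrib]
  refine Finset.sum_induction _ (MemLocalIdeal M) (fun _ _ => H20.memIdeal_add) H20.memIdeal_zero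
    fun ψ _ => ?_
  rw [← mul_sub, map_one, Units.val_one]
  exact H20.memIdeal_mul (H20.memRing_intCast _)
    (H22.Contrib.memIdeal_sub_one_of_pow hM (n := n) (hA ▸ lin_pow_card ψ a))

include hA in
theorem exists_pow_eq {f : A → ℂ} (hf : IsGen f) {m : ℤ} (h1 : f 1 = m) :
    ∃ z : A → ℂ, IsGen z ∧ ∀ a, f a ^ p ^ n = (m : ℂ) ^ p ^ n + (p : ℂ) * z a := by
  classical
  obtain ⟨c, hc⟩ := hf
  let e : (A →* ℂˣ) → genRing (A := A) := fun ψ => ⟨_, (isGen_lin ψ).zsmul (c ψ)⟩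
  have key : ∀ s : Finset (A →* ℂˣ), ∃ r : genRing (A := A),
      (∑ ψ ∈ s, e ψ) ^ p ^ n = ((∑ ψ ∈ s, c ψ : ℤ) : genRing (A := A)) ^ p ^ n +
        (p : genRing (A := A)) * r := by
    intro s
    induction s using Finset.induction with
    | empty =>
      exact ⟨0, by simp [zero_pow (pow_ne_zero n hp.out.ne_zero)]⟩
    | insert ψ s hψ ih =>
      obtain ⟨r, hr⟩ := ih
      obtain ⟨r1, hr1⟩ := exists_add_pow_prime_pow_eq hp.out (e ψ) (∑ φ ∈ s, e φ) n
      obtain ⟨r2, hr2⟩ := exists_add_pow_prime_pow_eq hp.out ((c ψ : ℤ) : genRing (A := A))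
        ((∑ φ ∈ s, c φ : ℤ) : genRing (A := A)) n
      have he : e ψ ^ p ^ n = ((c ψ : ℤ) : genRing (A := A)) ^ p ^ n := by
        apply Subtype.ext
        funext a
        simp only [e, SubmonoidClass.coe_pow, Pi.pow_apply, mul_pow]
        rw [← hA, lin_pow_card, mul_one]
        simp
      refine ⟨r + e ψ * (∑ φ ∈ s, e φ) * r1
        - ((c ψ : ℤ) : genRing (A := A)) * ((∑ φ ∈ s, c φ : ℤ) : genRing (A := A)) * r2, ?_⟩
      rw [sum_insert hψ, sum_insert hψ, hr1, he, hr, Int.cast_add, hr2]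
      ring
  obtain ⟨r, hr⟩ := key univ
  refine ⟨r.1, r.2, fun a => ?_⟩
  have h := congrFun (congrArg Subtype.val hr) a
  have hm : (∑ ψ : A →* ℂˣ, c ψ : ℤ) = m := by
    have := (hc 1).symm.trans h1
    simp only [map_one, Units.val_one, mul_one] at this
    exact_mod_cast this
  simp only [SubmonoidClass.coe_pow, Pi.pow_apply, AddSubmonoidClass.coe_finsetSum, Finset.sum_apply,
    e, Subring.coe_add, Subring.coe_mul, Pi.add_apply, Pi.mul_apply, hm, Subring.coe_intCast,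
    Pi.intCast_apply, Subring.coe_natCast, Pi.natCast_apply] at h
  rw [← hc] at h
  exact h

include hA in
/-- A generalized character of degree prime to `p` is invertible up to an integer prime to `p`. -/
theorem exists_inverse {f : A → ℂ} (hf : IsGen f) {m : ℤ} (h1 : f 1 = m)
    (hm : ¬ (p : ℤ) ∣ m) :
    ∃ (E : A → ℂ) (c : ℤ), IsGen E ∧ ¬ (p : ℤ) ∣ c ∧ ∀ a, f a * E a = (c : ℂ) := by
  classical
  obtain ⟨z, hz, hzf⟩ := exists_pow_eq hA hf h1
  choose g hg hgz using fun a : A => isIntegral_apply hz a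
  set g0 : Polynomial ℤ := ∏ a : A, g a with hg0
  have hg0m : g0.Monic := Polynomial.monic_prod_of_monic _ _ fun a _ => hg a
  have hg0z : ∀ a, Polynomial.aeval (z a) g0 = 0 := fun a => by
    rw [hg0, map_prod]
    exact prod_eq_zero (mem_univ a) (by rw [Polynomial.aeval_def]; exact hgz a)
  set N := p ^ n with hN
  set h : Polynomial ℤ :=
    (g0.scaleRoots (p : ℤ)).comp (Polynomial.X - Polynomial.C (m ^ N)) with hh
  have hroot : ∀ a, Polynomial.aeval (f a ^ N) h = 0 := fun a => by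
    rw [hh, Polynomial.aeval_comp, map_sub, Polynomial.aeval_X, Polynomial.aeval_C, hzf,
      show ((m : ℂ) ^ N + (p : ℂ) * z a - algebraMap ℤ ℂ (m ^ N)) =
        algebraMap ℤ ℂ (p : ℤ) * z a by simp]
    exact Polynomial.scaleRoots_aeval_eq_zero (hg0z a)
  have hc0 : ¬ (p : ℤ) ∣ h.coeff 0 := by
    intro hd
    have hp' : Prime (p : ℤ) := Nat.prime_iff_prime_int.1 hp.out
    rw [Polynomial.coeff_zero_eq_eval_zero, hh, Polynomial.eval_comp, Polynomial.eval_sub,
      Polynomial.eval_X, Polynomial.eval_C, zero_sub, Polynomial.eval_eq_sum_range,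
      Polynomial.natDegree_scaleRoots, sum_range_succ] at hd
    rw [Polynomial.coeff_scaleRoots_natDegree, hg0m.leadingCoeff, one_mul,
      dvd_add_right (dvd_sum fun i hi => ?_)] at hd
    · exact hm (hp'.dvd_of_dvd_pow ((dvd_neg).1 (hp'.dvd_of_dvd_pow hd)))
    · refine Dvd.dvd.mul_right ?_ _
      rw [Polynomial.coeff_scaleRoots]
      exact Dvd.dvd.mul_left (dvd_pow_self _ (Nat.sub_ne_zero_of_lt (mem_range.1 hi))) _
  refine ⟨fun a => -(f a ^ (N - 1) * Polynomial.aeval (f a ^ N) h.divX), h.coeff 0, ?_, hc0,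
    fun a => ?_⟩
  · have hR : ∀ y : genRing (A := A), ∀ a : A,
        ((Polynomial.aeval y h.divX : genRing (A := A)) : A → ℂ) a =
          Polynomial.aeval ((y : A → ℂ) a) h.divX := fun y a =>
      (Polynomial.aeval_algHom_apply
        ((Pi.evalRingHom (fun _ : A => ℂ) a).comp (genRing (A := A)).subtype).toIntAlgHom y h.divX).symm
    let F : genRing (A := A) := ⟨f, hf⟩
    have : (-(F ^ (N - 1) * Polynomial.aeval (F ^ N) h.divX) : genRing (A := A)).1 =
        fun a => -(f a ^ (N - 1) * Polynomial.aeval (f a ^ N) h.divX) := by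
      funext a
      simp only [Subring.coe_neg, Subring.coe_mul, SubmonoidClass.coe_pow, Pi.neg_apply,
        Pi.mul_apply, Pi.pow_apply, hR, F]
    rw [← this]
    exact SetLike.coe_mem (-(F ^ (N - 1) * Polynomial.aeval (F ^ N) h.divX) : genRing (A := A))
  · have h0 := hroot a
    conv_lhs at h0 => rw [← Polynomial.X_mul_divX_add h]
    rw [map_add, map_mul, Polynomial.aeval_X, Polynomial.aeval_C,
      add_eq_zero_iff_eq_neg] at h0
    have hN1 : f a ^ N = f a * f a ^ (N - 1) := by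
      rw [← pow_succ', Nat.sub_add_cancel (Nat.one_le_pow _ _ hp.out.pos)]
    rw [mul_neg, ← mul_assoc, ← hN1, h0, neg_neg]
    simp

include hA in
theorem exists_half {m : ℤ} (hm : ¬ (p : ℤ) ∣ m) (ψ1 D : A →* ℂˣ)
    (h : ∀ x, ψ1 x ^ m = ((D x)⁻¹) ^ 2) : ∃ ψ0 : A →* ℂˣ, ψ0 ^ 2 = ψ1 := by
  have hcop : IsCoprime m ((p ^ n : ℕ) : ℤ) := by
    push_cast
    exact (((Nat.prime_iff_prime_int.1 hp.out).coprime_iff_not_dvd).2 hm).symm.pow_right
  obtain ⟨a, b, hab⟩ := hcop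
  let ψ0 : A →* ℂˣ :=
    { toFun := fun x => (D x)⁻¹ ^ a
      map_one' := by simp
      map_mul' := fun x y => by rw [map_mul, mul_inv, mul_zpow] }
  refine ⟨ψ0, MonoidHom.ext fun x => ?_⟩
  rw [MonoidHom.pow_apply]
  show ((D x)⁻¹ ^ a) ^ 2 = ψ1 x
  have h1 : ψ1 x ^ ((p ^ n : ℕ) : ℤ) = 1 := by
    rw [zpow_natCast, ← map_pow, ← hA, pow_card_eq_one', map_one]
  calc ((D x)⁻¹ ^ a) ^ 2 = (((D x)⁻¹) ^ 2) ^ a := by
        rw [← zpow_natCast, ← zpow_natCast (D x)⁻¹ 2, ← zpow_mul, ← zpow_mul, mul_comm]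
    _ = ψ1 x ^ (a * m) := by rw [← h, ← zpow_mul, mul_comm]
    _ = ψ1 x := by
      conv_rhs => rw [← zpow_one (ψ1 x),
        show (1 : ℤ) = a * m + b * ((p ^ n : ℕ) : ℤ) from hab.symm, zpow_add, mul_comm b,
        zpow_mul (ψ1 x) ((p ^ n : ℕ) : ℤ) b, h1, one_zpow, mul_one]

include hA in
/-- A generalized character of degree prime to `p` whose values are units times integers becomes
integer valued after a linear twist. -/
theorem exists_twist {f : A → ℂ} (hf : IsGen f) {m : ℤ} (h1 : f 1 = m) (hm : ¬ (p : ℤ) ∣ m)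
    (hval : ∀ a, ∃ (δ : ℂ) (z : ℤ), IsIntegral ℤ δ ∧ δ * conj δ = 1 ∧ z ≠ 0 ∧ f a = δ * z) :
    ∃ ψ0 : A →* ℂˣ, ∀ (a : A) (δ : ℂ) (z : ℤ), δ * conj δ = 1 → f a = δ * z →
      (ψ0 a : ℂ) * f a = z ∨ (ψ0 a : ℂ) * f a = -z := by
  classical
  obtain ⟨E, c, hE, hc, hEc⟩ := exists_inverse hA hf h1 hm
  have hc0 : (c : ℂ) ≠ 0 := by
    simp only [ne_eq, Int.cast_eq_zero]
    exact fun h => hc (h ▸ dvd_zero _)
  choose δ zz hδi hδ hz0 hfa using hval
  have hint : ∀ a, IsIntegral ℤ (conj (δ a)) := fun a =>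
    (hδi a).map (starRingEnd ℂ).toIntAlgHom
  set u : A → ℂ := fun a => conj (δ a) * conj (δ a) with hu
  have hconj : ∀ a, conj (f a) = u a * f a := fun a => by
    calc conj (f a) = conj (δ a) * (zz a : ℂ) * (δ a * conj (δ a)) := by
          rw [hfa, hδ, map_mul, map_intCast, mul_one]
      _ = u a * f a := by rw [hu, hfa]; ring
  obtain ⟨d, hd⟩ := (hf.conj.mul hE : IsGen fun a => conj (f a) * E a)
  have hcu : ∀ φ : A →* ℂˣ, (c : ℂ) * ∑ a, u a * conj (φ a : ℂ) = (Nat.card A : ℂ) * d φ := by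
    intro φ
    rw [← coef_eq hd φ, mul_sum]
    exact sum_congr rfl fun a _ => by rw [hconj, mul_assoc (u a), hEc]; ring
  have hκ : ∀ φ : A →* ℂˣ, ∃ k : ℤ, ∑ a, u a * conj (φ a : ℂ) = (Nat.card A : ℂ) * k := by
    intro φ
    have hI : IsIntegral ℤ (∑ a, u a * conj (φ a : ℂ)) :=
      IsIntegral.sum _ fun a _ => ((hint a).mul (hint a)).mul
        ((isIntegral_apply (isGen_lin φ) a).map (starRingEnd ℂ).toIntAlgHom)
    have heq : ∑ a, u a * conj (φ a : ℂ) =
        (((Nat.card A * d φ : ℤ) : ℚ) / (c : ℚ) : ℚ) := by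
      push_cast
      rw [eq_div_iff hc0, ← hcu]
      ring
    rw [heq] at hI
    obtain ⟨z, hz⟩ := H12.exists_int_of_isIntegral_rat hI
    have hcq : (c : ℚ) ≠ 0 := by exact_mod_cast hc0
    have hz' : c * z = (Nat.card A : ℤ) * d φ := by
      rw [eq_div_iff hcq] at hz
      rw [mul_comm]
      exact_mod_cast hz
    have hcop : IsCoprime c ((Nat.card A : ℕ) : ℤ) := by
      rw [hA]
      push_cast
      exact (((Nat.prime_iff_prime_int.1 hp.out).coprime_iff_not_dvd).2 hc).symm.pow_right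
    obtain ⟨k, hk⟩ := hcop.dvd_of_dvd_mul_left ⟨z, hz'.symm⟩
    refine ⟨k, mul_left_cancel₀ hc0 ?_⟩
    rw [hcu, hk]
    push_cast
    ring
  choose κ hκ using hκ
  have hexp : ∀ a, u a = ∑ φ, (κ φ : ℂ) * (φ a : ℂ) := eq_of_coef hκ
  have hsq : ∑ φ, κ φ * κ φ = 1 := by
    have h2 : ∑ a, u a * conj (u a) = (Nat.card A : ℂ) := by
      have : ∀ a, u a * conj (u a) = 1 := fun a => by
        simp only [hu, map_mul, Complex.conj_conj]
        linear_combination (δ a * conj (δ a) + 1) * hδ a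
      simp [this, Nat.card_eq_fintype_card]
    have h3 : ∑ a, u a * conj (u a) = (Nat.card A : ℂ) * ∑ φ, ((κ φ * κ φ : ℤ) : ℂ) := by
      conv_lhs => arg 2; ext a; arg 2; rw [hexp a]
      simp only [map_sum, map_mul, map_intCast, mul_sum]
      rw [sum_comm]
      refine sum_congr rfl fun φ _ => ?_
      rw [sum_congr rfl fun a _ => mul_left_comm (u a) (κ φ : ℂ) _, ← mul_sum, hκ]
      push_cast
      ring
    rw [h2] at h3
    have h4 := mul_left_cancel₀ (Nat.cast_ne_zero.2 (Nat.card_pos (α := A)).ne')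
      ((mul_one _).trans h3)
    exact_mod_cast h4.symm
  obtain ⟨ψ1, hψ1⟩ : ∃ ψ1 : A →* ℂˣ, κ ψ1 ≠ 0 := by
    by_contra hne
    push Not at hne
    simp [hne] at hsq
  have hone : κ ψ1 * κ ψ1 = 1 ∧ ∀ φ, φ ≠ ψ1 → κ φ = 0 := by
    have hle : 1 ≤ κ ψ1 * κ ψ1 := by
      nlinarith [Int.one_le_abs hψ1, abs_mul_abs_self (κ ψ1)]
    have hsum := sum_erase_add univ (fun φ => κ φ * κ φ) (mem_univ ψ1)
    have hnn : 0 ≤ ∑ φ ∈ univ.erase ψ1, κ φ * κ φ := sum_nonneg fun φ _ => mul_self_nonneg _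
    refine ⟨by linarith [hsum, hsq], fun φ hne => ?_⟩
    have h0 : ∑ φ ∈ univ.erase ψ1, κ φ * κ φ = 0 := by linarith [hsum, hsq]
    exact mul_self_eq_zero.1 ((sum_eq_zero_iff_of_nonneg fun φ _ => mul_self_nonneg _).1 h0 φ
      (mem_erase.2 ⟨hne, mem_univ _⟩))
  have hu1 : ∀ a, u a = (κ ψ1 : ℂ) * (ψ1 a : ℂ) := fun a => by
    rw [hexp, sum_eq_single ψ1 (fun φ _ hne => by rw [hone.2 φ hne, Int.cast_zero, zero_mul])
      (by simp)]
  have hm0 : (m : ℂ) ≠ 0 := by
    simp only [ne_eq, Int.cast_eq_zero]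
    exact fun h => hm (h ▸ dvd_zero _)
  have hk1 : (κ ψ1 : ℂ) = 1 := by
    have h := hconj 1
    rw [h1, hu1, map_intCast, map_one, Units.val_one, mul_one] at h
    exact mul_right_cancel₀ hm0 (h.symm.trans (one_mul _).symm)
  replace hconj : ∀ a, conj (f a) = (ψ1 a : ℂ) * f a := fun a => by
    rw [hconj, hu1, hk1, one_mul]
  -- the determinant
  obtain ⟨cf, hcf⟩ := id hf
  have hshift : ∀ φ : A →* ℂˣ, cf φ⁻¹ = cf (ψ1⁻¹ * φ) := by
    intro φ
    have h2 : ∑ a, conj (f a) * conj (φ a : ℂ) = (Nat.card A : ℂ) * cf φ⁻¹ := by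
      have := congrArg (starRingEnd ℂ) (coef_eq hcf φ⁻¹)
      simp only [map_sum, map_mul, Complex.conj_conj, map_intCast, Complex.conj_natCast] at this
      rw [← this]
      refine sum_congr rfl fun a _ => ?_
      rw [H20.conj_lin, MonoidHom.inv_apply, map_inv]
    have h3 : ∑ a, conj (f a) * conj (φ a : ℂ) = (Nat.card A : ℂ) * cf (ψ1⁻¹ * φ) := by
      rw [← coef_eq hcf]
      refine sum_congr rfl fun a _ => ?_
      rw [hconj, MonoidHom.mul_apply, Units.val_mul, map_mul, MonoidHom.inv_apply, ← map_inv,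
        ← H20.conj_lin, Complex.conj_conj]
      ring
    have := mul_left_cancel₀ (Nat.cast_ne_zero.2 (Nat.card_pos (α := A)).ne') (h2.symm.trans h3)
    exact_mod_cast this
  let D : A →* ℂˣ :=
    { toFun := fun x => ∏ φ : A →* ℂˣ, φ x ^ cf φ
      map_one' := by simp
      map_mul' := fun x y => by
        rw [← prod_mul_distrib]
        exact prod_congr rfl fun φ _ => by rw [map_mul, mul_zpow] }
  have hm' : ∑ φ, cf φ = m := by
    have := (hcf 1).symm.trans h1
    simp only [map_one, Units.val_one, mul_one] at this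
    exact_mod_cast this
  have hkey : ∀ x, ψ1 x ^ m = ((D x)⁻¹) ^ 2 := fun x => by
    have hDi : ∏ φ : A →* ℂˣ, φ x ^ cf φ⁻¹ = (D x)⁻¹ := by
      show _ = (∏ φ : A →* ℂˣ, φ x ^ cf φ)⁻¹
      rw [← prod_inv_distrib]
      refine Fintype.prod_equiv (Equiv.inv _) _ _ fun φ => ?_
      simp [MonoidHom.inv_apply]
    have hDs : ∏ φ : A →* ℂˣ, φ x ^ cf (ψ1⁻¹ * φ) = ψ1 x ^ m * D x := by
      show _ = ψ1 x ^ m * ∏ φ : A →* ℂˣ, φ x ^ cf φ
      rw [← hm', zpow_finset_sum, ← prod_mul_distrib]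
      refine (Fintype.prod_equiv (Equiv.mulLeft ψ1) _ _ fun φ => ?_).symm
      simp [MonoidHom.mul_apply, mul_zpow, show ψ1⁻¹ * (ψ1 * φ) = φ from inv_mul_cancel_left ψ1 φ]
    have h := hDi.symm.trans ((prod_congr rfl fun φ _ => by rw [hshift φ]).trans hDs)
    rw [pow_two]
    exact eq_mul_inv_iff_mul_eq.2 h.symm
  obtain ⟨ψ0, hψ0⟩ := exists_half hA hm ψ1 D hkey
  refine ⟨ψ0, fun a d z hd hfd => ?_⟩
  set w := (ψ0 a : ℂ) * f a with hw
  have hψn : (ψ0 a : ℂ) * conj (ψ0 a : ℂ) = 1 := by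
    rw [H20.conj_lin, ← Units.val_mul, ← map_mul, mul_inv_cancel, map_one, Units.val_one]
  have hwr : conj w = w := by
    rw [hw, map_mul, hconj, ← hψ0, MonoidHom.pow_apply, Units.val_pow_eq_pow_val]
    linear_combination ((ψ0 a : ℂ) * f a) * hψn
  have hww : (w - z) * (w + z) = 0 := by
    have h2 : w * conj w = (z : ℂ) * z := by
      rw [hw, map_mul, hfd, map_mul, map_intCast]
      linear_combination (conj d * d * z * z) * hψn + ((z : ℂ) * z) * hd
    rw [hwr] at h2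
    linear_combination h2
  rcases mul_eq_zero.1 hww with h | h
  · exact Or.inl (sub_eq_zero.1 h)
  · exact Or.inr (eq_neg_of_add_eq_zero_left h)

end PGroup

end H20.FAb
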