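import Cfsg.Agent.H20.FreeAbelian.GenChar

/-!
# Gluing generalized characters along the lattice of subgroups
-/

set_option autoImplicit false
set_option linter.style.haveILetI false
set_option linter.unusedSectionVars false

open Cfsg Finset

namespace H20.FAb

universe u

section Lattice

variable {L : Type*} [Fintype L] [SemilatticeSup L] [OrderBot L]

theorem exists_moebius [DecidableEq L] [DecidableLE L] :
    ∃ μ : L → ℤ, ∀ y : L, ∑ x ∈ univ.filter (fun x => x ≤ y), μ x = if y = ⊥ then 1 else 0 := by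
  classical
  let μ : L → ℤ := (wellFounded_lt (α := L)).fix fun y IH =>
    (if y = ⊥ then 1 else 0) -
      ∑ x ∈ (univ.filter (fun x => x < y)).attach, IH x.1 (mem_filter.1 x.2).2
  refine ⟨μ, fun y => ?_⟩
  have h : μ y = (if y = ⊥ then 1 else 0) - ∑ x ∈ univ.filter (fun x => x < y), μ x := by
    rw [← sum_attach]
    exact (wellFounded_lt (α := L)).fix_eq _ y
  have hs : univ.filter (fun x => x ≤ y) = insert y (univ.filter (fun x => x < y)) := by
    ext x; simp [le_iff_eq_or_lt]
  rw [hs, sum_insert (by simp), h]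
  ring

/-- Joins with a fixed nontrivial element take every value with total weight zero. -/
theorem sum_moebius_sup [DecidableEq L] [DecidableLE L] {μ : L → ℤ}
    (hμ : ∀ y : L, ∑ x ∈ univ.filter (fun x => x ≤ y), μ x = if y = ⊥ then 1 else 0)
    {a : L} (ha : a ≠ ⊥) (c : L) : ∑ x ∈ univ.filter (fun x => x ⊔ a = c), μ x = 0 := by
  classical
  induction c using (wellFounded_lt (α := L)).induction with
  | _ c IH =>
    by_cases hac : a ≤ c
    · have hc : c ≠ ⊥ := fun h => ha (le_bot_iff.1 (h ▸ hac))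
      have h := hμ c
      rw [if_neg hc, ← sum_fiberwise_of_maps_to (g := fun x => x ⊔ a)
        (t := univ.filter (fun d => d ≤ c))] at h
      · rw [sum_eq_single_of_mem c (by simp)] at h
        · rw [← h]
          refine sum_congr ?_ fun _ _ => rfl
          ext x
          simp only [mem_filter, mem_univ, true_and]
          exact ⟨fun e => ⟨e ▸ le_sup_left, e⟩, fun e => e.2⟩
        · intro d hd hne
          have hlt : d < c := lt_of_le_of_ne (mem_filter.1 hd).2 hne
          rw [← IH d hlt]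
          refine sum_congr ?_ fun _ _ => rfl
          ext x
          simp only [mem_filter, mem_univ, true_and]
          exact ⟨fun e => e.2, fun e => ⟨(le_sup_left.trans e.le).trans hlt.le, e⟩⟩
      · intro x hx
        exact mem_filter.2 ⟨mem_univ _, sup_le (mem_filter.1 hx).2 hac⟩
    · rw [sum_eq_zero]
      intro x hx
      exact absurd ((mem_filter.1 hx).2 ▸ le_sup_right) hac

/-- Inversion: the values at an atom-like point from the joins with it. -/
theorem exists_inversion : ∃ w : L → ℤ, w ⊥ = 0 ∧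
    ∀ (M : L → ℤ) (a : L), a ≠ ⊥ → ∑ x, w x * M (x ⊔ a) = M a := by
  classical
  obtain ⟨μ, hμ⟩ := exists_moebius (L := L)
  have h0 : μ ⊥ = 1 := by
    have h := hμ ⊥
    rwa [if_pos rfl, show univ.filter (fun x : L => x ≤ ⊥) = {⊥} by ext x; simp,
      sum_singleton] at h
  refine ⟨fun x => if x = ⊥ then 0 else -μ x, if_pos rfl, fun M a ha => ?_⟩
  have key : ∑ x, μ x * M (x ⊔ a) = 0 := by
    rw [← sum_fiberwise univ (fun x => x ⊔ a)]
    refine sum_eq_zero fun c _ => ?_
    rw [sum_congr rfl (g := fun x => μ x * M c) fun x hx => by rw [(mem_filter.1 hx).2],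
      ← sum_mul, sum_moebius_sup hμ ha, zero_mul]
  calc ∑ x, (if x = ⊥ then 0 else -μ x) * M (x ⊔ a)
      = ∑ x, ((if x = ⊥ then M a else 0) - μ x * M (x ⊔ a)) := sum_congr rfl fun x _ => by
        by_cases h : x = ⊥
        · subst h; simp [h0]
        · simp [h]
    _ = M a := by rw [sum_sub_distrib, key, sum_ite_eq' univ ⊥]; simp

end Lattice

variable {A : Type u} [CommGroup A] [Fintype A] [Fintype (A →* ℂˣ)]

/-- If the translates `s ↦ M (Q ⊔ ⟨s⟩)` are generalized characters, so is `s ↦ M ⟨s⟩` after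
changing its value at the identity. -/
theorem exists_glue (M : Subgroup A → ℤ)
    (h : ∀ Q : Subgroup A, Q ≠ ⊥ → IsGen fun s => (M (Q ⊔ Subgroup.zpowers s) : ℂ)) :
    ∃ F : A → ℂ, IsGen F ∧ ∀ u : A, u ≠ 1 → F u = (M (Subgroup.zpowers u) : ℂ) := by
  classical
  haveI : Fintype (Subgroup A) := Fintype.ofFinite _
  obtain ⟨w, hw0, hw⟩ := exists_inversion (L := Subgroup A)
  refine ⟨fun s => ∑ Q : Subgroup A, (w Q : ℂ) * (M (Q ⊔ Subgroup.zpowers s) : ℂ), ?_, ?_⟩
  · refine isGen_sum univ (fun Q s => (w Q : ℂ) * (M (Q ⊔ Subgroup.zpowers s) : ℂ)) fun Q _ => ?_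
    by_cases hQ : Q = ⊥
    · subst hQ
      simpa [hw0] using isGen_const (A := A) 0
    · exact (h Q hQ).zsmul _
  · intro u hu
    have := hw M (Subgroup.zpowers u) (by simpa using hu)
    show ∑ Q : Subgroup A, (w Q : ℂ) * (M (Q ⊔ Subgroup.zpowers u) : ℂ) = _
    exact_mod_cast this

end H20.FAb
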