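import Cfsg.Agent.H20.FreeAbelian.Main
import Cfsg.Agent.H20.Homocyclic

/-!
# `2`-blocks with defect group of type `(2^m, 2^m)`
-/

set_option autoImplicit false
set_option linter.style.haveILetI false
set_option linter.unusedSectionVars false

open Cfsg
open scoped MonoidAlgebra

namespace H20.FAb

universe u

/-- An element of odd order modulo the centraliser fixing a nontrivial element centralises. -/
theorem fix_imp_cent {G : Type u} [Group G] [Finite G] {P T : Subgroup G} {m : ℕ} (hm : 1 ≤ m)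
    (e : P ≃* Multiplicative (ZMod (2 ^ m) × ZMod (2 ^ m)))
    (hTN : T ≤ Subgroup.normalizer (P : Set G))
    (hodd : Odd ((Subgroup.centralizer (P : Set G)).relIndex T)) :
    ((Subgroup.centralizer (P : Set G)).relIndex T = 1 ∨
        (Subgroup.centralizer (P : Set G)).relIndex T = 3) ∧
      ∀ g ∈ T, ∀ x ∈ P, x ≠ 1 → g * x * g⁻¹ = x → g ∈ Subgroup.centralizer (P : Set G) := by
  classical
  set C := Subgroup.centralizer (P : Set G) with hC
  set a : T →* Equiv.Perm (Homocyclic.Invs P) :=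
    (Homocyclic.act P).comp (Subgroup.inclusion hTN) with ha
  set φ : T →* MulAut P := P.normalizerMonoidHom.comp (Subgroup.inclusion hTN) with hφ
  have hkerφ : φ.ker = C.subgroupOf T := by
    rw [hφ, ← MonoidHom.comap_ker, Subgroup.normalizerMonoidHom_ker]
    ext x
    simp [Subgroup.mem_subgroupOf, hC]
  have hcomm : ∀ x y : P, x * y = y * x := fun x y => e.injective (by rw [map_mul, map_mul, mul_comm])
  have hP2 : IsPGroup 2 P := IsPGroup.of_card (n := m + m) (by
    rw [Nat.card_congr (e.toEquiv.trans Multiplicative.toAdd), Nat.card_prod, Nat.card_zmod,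
      pow_add])
  have hker : a.ker = C.subgroupOf T := by
    refine le_antisymm (fun n hn => hkerφ.le ?_) (fun n hn => ?_)
    · rw [MonoidHom.mem_ker]
      have hodd' : Odd (Nat.card φ.range) := by
        rwa [← Subgroup.index_ker, hkerφ]
      have hk : φ n ^ Nat.card φ.range = 1 := by
        have := pow_card_eq_one' (x := (⟨φ n, n, rfl⟩ : φ.range))
        simpa [Subtype.ext_iff] using this
      refine MulEquiv.ext fun z => ?_
      obtain ⟨j, hj⟩ := IsPGroup.iff_orderOf.1 hP2 z
      refine Homocyclic.eq_self_of_fix_invs hcomm _ hodd' hk (fun w hw => ?_) j z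
        (hj ▸ pow_orderOf_eq_one z)
      exact congrArg Subtype.val
        (Equiv.congr_fun (MonoidHom.mem_ker.1 hn) (⟨w, hw⟩ : Homocyclic.Invs P))
    · have h1 := hkerφ.ge hn
      rw [MonoidHom.mem_ker] at h1 ⊢
      show Homocyclic.permInvs P (φ n) = 1
      rw [h1, map_one]
  have h3 := Homocyclic.card_invs hm e
  have hidx : C.relIndex T = Nat.card a.range := by
    rw [Subgroup.relIndex, ← hker, Subgroup.index_ker]
  haveI : Fintype (Homocyclic.Invs P) := Fintype.ofFinite _
  have he : C.relIndex T = 1 ∨ C.relIndex T = 3 := by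
    have h6 : C.relIndex T ∣ 6 := by
      rw [hidx]
      refine (Subgroup.card_subgroup_dvd_card _).trans (dvd_of_eq ?_)
      rw [Nat.card_eq_fintype_card, Fintype.card_perm, ← Nat.card_eq_fintype_card, h3]
      rfl
    have hle := Nat.le_of_dvd (by norm_num) h6
    generalize C.relIndex T = r at *
    interval_cases r <;> simp_all (config := { decide := true })
  refine ⟨he, fun g hg x hx hx1 hfix => ?_⟩
  obtain ⟨j, hj⟩ := IsPGroup.iff_orderOf.1 hP2 ⟨x, hx⟩
  rcases j with _ | j
  · rw [pow_zero, orderOf_eq_one_iff] at hj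
    exact absurd (congrArg Subtype.val hj) hx1
  set w : P := ⟨x, hx⟩ ^ 2 ^ j with hw
  have hw2 : orderOf w = 2 := by
    rw [hw, orderOf_pow_of_dvd (by positivity) (hj ▸ pow_dvd_pow 2 (by omega)), hj, pow_succ,
      Nat.mul_div_cancel_left _ (by positivity)]
  have hgw : a ⟨g, hg⟩ ⟨w, hw2⟩ = ⟨w, hw2⟩ := by
    refine Subtype.ext (Subtype.ext ?_)
    show g * (w : G) * g⁻¹ = w
    have hc : Commute g x := mul_inv_eq_iff_eq_mul.1 hfix
    rw [hw, Subgroup.coe_pow, (hc.pow_right _).eq, mul_inv_cancel_right]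
  have hpow : a ⟨g, hg⟩ ^ 3 = 1 := by
    have h := pow_card_eq_one' (x := (⟨_, ⟨g, hg⟩, rfl⟩ : a.range))
    rw [← hidx] at h
    have h' : a ⟨g, hg⟩ ^ C.relIndex T = 1 := by simpa [Subtype.ext_iff] using h
    rcases he with h1 | h1 <;> rw [h1] at h'
    · rw [pow_one] at h'; rw [h', one_pow]
    · exact h'
  have hin : (⟨g, hg⟩ : T) ∈ a.ker := by
    rw [MonoidHom.mem_ker]
    rcases Homocyclic.perm_three h3 _ hpow with h | h
    · exact h
    · refine Equiv.ext fun v => ?_
      have hfix' : ∀ i : ℕ, (a ⟨g, hg⟩ ^ i) ⟨w, hw2⟩ = ⟨w, hw2⟩ := fun i => by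
        induction i with
        | zero => rfl
        | succ i ih => rw [pow_succ, Equiv.Perm.mul_apply, hgw, ih]
      obtain ⟨i, hi⟩ := h ⟨w, hw2⟩ v
      rw [hfix'] at hi
      rw [← hi, hgw]
      rfl
  rw [hker, Subgroup.mem_subgroupOf] at hin
  exact hin

/-- The invariants of a block with defect group of type `(2^m, 2^m)`. -/
theorem homocyclic_invariants {G : Type u} [Group G] [Finite G] (M : Ideal AlgInt)
    (hM : IsPModular 2 M) (B : Set (IrrCharacter G)) (hB : IsPBlock M B) (D : Subgroup G)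
    (hD : IsDefectGroup 2 M B D) (m : ℕ) (hm : 1 ≤ m)
    (hiso : Nonempty (D ≃* Multiplicative (ZMod (2 ^ m) × ZMod (2 ^ m)))) :
    (blockRank 2 B = 1 ∧ Nat.card B = 4 ^ m) ∨
      (blockRank 2 B = 3 ∧ 3 * Nat.card B = 4 ^ m + 8) := by
  classical
  obtain ⟨e⟩ := hiso
  haveI hMp : M.IsPrime := hM.2.1.isPrime
  haveI : Fact (Nat.Prime 2) := ⟨Nat.prime_two⟩
  haveI := H20.k_charP (p := 2) hM
  haveI := H23.isAlgClosed_k hM.2.1
  haveI : Fintype G := Fintype.ofFinite G
  haveI : ∀ R : Subgroup G, Fintype R := fun R => Fintype.ofFinite R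
  obtain ⟨f₀, hmax⟩ := H23.exists_maxPair_defect (p := 2) hB hM hD
  have hcard : Nat.card D = 4 ^ m := by
    rw [Nat.card_congr (e.toEquiv.trans Multiplicative.toAdd), Nat.card_prod, Nat.card_zmod,
      ← mul_pow]
    norm_num
  have hab : ∀ a ∈ D, ∀ b ∈ D, a * b = b * a := fun a ha b hb =>
    congrArg Subtype.val (e.injective (by rw [map_mul, map_mul, mul_comm]) :
      (⟨a, ha⟩ : D) * ⟨b, hb⟩ = ⟨b, hb⟩ * ⟨a, ha⟩)
  set T := H23.stab D f₀ with hT
  obtain ⟨S⟩ : Nonempty (Sylow 2 T) := inferInstance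
  have hodd : Odd ((Subgroup.centralizer (D : Set G)).relIndex T) := by
    have hle := H19.AbelianLocal.pGroup_le_cent hB hab hmax (S.2.map T.subtype)
      (Subgroup.map_subtype_le _)
    rw [Nat.odd_iff, ← Nat.two_dvd_ne_zero, Subgroup.relIndex]
    intro h
    refine S.not_dvd_index (h.trans (Subgroup.index_dvd_of_le fun y hy => ?_))
    exact Subgroup.mem_subgroupOf.2 (hle ⟨y, hy, rfl⟩)
  obtain ⟨he, hfree⟩ := fix_imp_cent (T := T) hm e (fun t ht => (H23.mem_stab.1 ht).1) hodd
  have hD1 : D ≠ ⊥ := by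
    intro h
    subst h
    rw [Subgroup.card_bot] at hcard
    exact absurd hcard.symm (Nat.one_lt_pow (by omega) (by norm_num)).ne'
  obtain ⟨t, hk, ht, -, -, h3⟩ := counts hM hB hab hmax hfree hD1
  rw [hcard] at ht
  rcases h3 (by rcases he with h | h <;> rw [hT] at h <;> omega) with h | ⟨-, -, h13, -⟩
  · rcases he with he | he <;> rw [hT] at he <;> rw [he] at h ht
    · exact Or.inl ⟨h, by omega⟩
    · exact Or.inr ⟨h, by omega⟩
  · exfalso
    have h2 : 2 ∣ 13 := by
      rw [← h13, hcard]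
      exact dvd_pow (by norm_num) (by omega)
    norm_num at h2

end H20.FAb
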