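import Cfsg.Agent.H20.FreeAbelian.Scalars
import Cfsg.Agent.H19.StarSums

/-!
# The lattice of stars of a block with abelian defect group and free inertial action
-/

set_option autoImplicit false
set_option linter.style.haveILetI false
set_option linter.unusedSectionVars false

open Cfsg Finset
open scoped MonoidAlgebra ComplexConjugate

namespace H20.FAb

universe u

variable {M : Ideal AlgInt} [hMp : M.IsPrime] {G : Type u} [Group G] [Fintype G]
variable {p : ℕ} [hp : Fact p.Prime] [CharP (H20.k M) p] [IsAlgClosed (H20.k M)]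
variable [∀ R : Subgroup G, Fintype R]
variable {B : Set (IrrCharacter G)} {P : Subgroup G} {f₀ : (H20.k M)[G]}

/-- Characters outside the block do not see its sections. -/
theorem pairC_eq_zero_of_notMem (hM : IsPModular p M) (hB : IsPBlock M B)
    (hmax : H23.IsMax p (H23.eB M B) P f₀) {u : G} {b : (H20.k M)[G]}
    (hb : H23.Le p (Subgroup.zpowers u, b) (P, f₀)) (χ ψ : IrrCharacter G) (hψ : ψ ∉ B) :
    H23.pairC p u b χ ψ = 0 := by
  classical
  have hbp := hb.pair_left p hmax.1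
  have hin := (H23.Le.inBlk_iff p hb (H23.cidem_eB hB)).1 hmax.2.1
  rw [H23.pairC]
  refine mul_eq_zero_of_right _ (sum_eq_zero fun g _ => ?_)
  split_ifs with hg
  · subst hg
    rw [H23.T_eq_zero_of_not_inBlk hM (H20.isPBlock_blockOf ψ) (H20.mem_blockOf_self ψ)
      (H23.mem_Bls.2 hbp.2) (fun hin' => ?_), map_zero, mul_zero]
    have h := H23.inBlk_unique p hbp (H23.isBlk_eB hB) (H23.isBlk_eB (H20.isPBlock_blockOf ψ))
      hin hin'
    rw [H23.eB_injective hB (H20.isPBlock_blockOf ψ) h] at hψ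
    exact hψ (H20.mem_blockOf_self ψ)
  · rfl

/-- Every character of the block is seen by every section. -/
theorem pairC_self_ne_zero (hM : IsPModular p M) (hB : IsPBlock M B)
    (hab : ∀ a ∈ P, ∀ b ∈ P, a * b = b * a) (hmax : H23.IsMax p (H23.eB M B) P f₀) {u : G}
    (hu : u ∈ P) {b : (H20.k M)[G]} (hb : H23.Le p (Subgroup.zpowers u, b) (P, f₀))
    {ψ : IrrCharacter G} (hψ : ψ ∈ B) : H23.pairC p u b ψ ψ ≠ 0 := by
  classical
  haveI := Fintype.ofFinite (Subgroup.centralizer ({u} : Set G))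
  have hj := H23.exists_orderOf_of_mem hmax.1.1 hu
  obtain ⟨β, hind, hβb, x, -, hx, hge⟩ := H23.exists_section hM hB hmax hj hb
  have hcard := H20.card_defectGroup hM hB (H23.isDefectGroup_of_isMax hB hmax)
  have hd : blockDefect p β = blockDefect p B := by
    apply Nat.pow_right_injective hp.out.two_le
    refine le_antisymm ?_ ?_
    · show p ^ blockDefect p β ≤ p ^ blockDefect p B
      rw [hx, ← hcard]
      exact Subgroup.card_le_of_le inf_le_left
    · refine le_trans ?_ hge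
      show p ^ blockDefect p B ≤ _
      rw [← hcard, inf_eq_left.2 (le_cent_zpowers hab hu)]
  have hpos := H19.StarSums.nrm_pos hM hj hind hd hψ
  rw [← hβb, H23.pairC_eq hj _ (H23.centralizer_zpowers u).symm hind.1]
  intro h
  have h2 := H19.StarSums.classInner_part_self (p := p) u β ψ
  have h3 : H22.Contrib.part p u β ψ =
      pRegularPart p (blockPart β (fun c : Subgroup.centralizer ({u} : Set G) =>
        (ψ : G → ℂ) (u * (c : G)))) := by
    rw [H22.Contrib.part, H22.Sub.regMap_apply]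
    rfl
  rw [h3, h] at h2
  exact hpos.ne' (by exact_mod_cast h2.symm)

open scoped Classical in
/-- Integral columns with Gram matrix `e J + I`. -/
theorem exists_lattice (hM : IsPModular p M) (hB : IsPBlock M B)
    (hab : ∀ a ∈ P, ∀ b ∈ P, a * b = b * a) (hmax : H23.IsMax p (H23.eB M B) P f₀)
    (hfree : ∀ g ∈ H23.stab P f₀, ∀ x ∈ P, x ≠ 1 → g * x * g⁻¹ = x →
      g ∈ Subgroup.centralizer (P : Set G)) (hP1 : P ≠ ⊥) [Fintype B] :
    ∃ (ι : Type u) (_ : Fintype ι) (v : ι → B → ℤ),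
      Fintype.card ι * Fintype.card (Cos p P f₀) + 1 = Nat.card P ∧
      (∀ i j, ∑ x, v i x * v j x =
        (Fintype.card (Cos p P f₀) : ℤ) + if i = j then 1 else 0) ∧
      (∀ i, ∑ x, v i x * (charDegree (x.1 : G → ℂ) : ℤ) = 0) ∧
      ∀ x, ∃ i, v i x ≠ 0 := by
  classical
  obtain ⟨χ₀, hχ₀, bu, μ, c, hbu, hpc, hgen, hμ, hd⟩ :=
    exists_scalars hM hB hab hmax hfree hP1
  haveI := H20.finite_dual (A := P)
  haveI : Fintype (P →* ℂˣ) := Fintype.ofFinite _
  obtain ⟨R, hR1, hRrep, hRall, hRcard⟩ := exists_reps hab hfree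
  choose! d hdi hdμ hdp using hd
  set n : ℕ := Fintype.card (Cos p P f₀) with hn
  have hn0 : (n : ℂ) ≠ 0 := Nat.cast_ne_zero.2 Fintype.card_ne_zero
  have hc0 : (c : ℂ) ≠ 0 := by
    simp only [ne_eq, Int.cast_eq_zero]
    exact fun h => hpc (h ▸ dvd_zero _)
  have hP0 : (Nat.card P : ℂ) ≠ 0 := Nat.cast_ne_zero.2 Nat.card_pos.ne'
  let lam : (P →* ℂˣ) → G → ℂ := fun r => extendByZero P
    (fun y : P => (eta (p := p) (f₀ := f₀) r y - (n : ℂ)) * μ y)
  have hlamP : ∀ r (y : P), lam r (y : G) = (eta (p := p) (f₀ := f₀) r y - (n : ℂ)) * μ y :=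
    fun r y => H14.extendByZero_of_mem P _ y.2
  have hlam1 : ∀ r, lam r 1 = 0 := fun r => by
    rw [show lam r 1 = _ from hlamP r 1, eta_one, sub_self, zero_mul]
  have hst : ∀ r, H23.Stable p P f₀ (lam r) := fun r => by
    refine stable_of_invariant hB hab hmax fun t ht y hy => ?_
    have he : t * y * t⁻¹ = ((cnj (⟨t, ht⟩⁻¹ : H23.stab P f₀) ⟨y, hy⟩ : P) : G) := by
      simp [coe_cnj]
    rw [he, show lam r _ = _ from hlamP r (cnj _ ⟨y, hy⟩), show lam r y = _ from hlamP r ⟨y, hy⟩,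
      eta_stable]
    by_cases h1 : (⟨y, hy⟩ : P) = 1
    · simp [h1]
    · rw [hμ _ _ h1]
  set S : (P →* ℂˣ) → G → ℂ := fun r => H23.starFn p (H23.hStar p P f₀ (lam r)) χ₀ with hS
  have hSgen : ∀ r, IsGeneralizedCharacter G (S r) := fun r =>
    H23.isGeneralizedCharacter_starFn hM (H23.hInv_hStar (hst r))
      (H23.hLocal_hStar hB hmax (hst r) (by simp only [hlamP]; exact hgen r)) χ₀
  have hint : ∀ r (ψ : IrrCharacter G), ∃ z : ℤ, classInner (S r) (ψ : G → ℂ) = z := by
    intro r ψ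
    obtain ⟨α, β, hα, hβ, he⟩ := hSgen r
    obtain ⟨a, ha⟩ := H12.IsCharacter.classInner_nat hα (H12.isCharacter_irr ψ)
    obtain ⟨b, hb⟩ := H12.IsCharacter.classInner_nat hβ (H12.isCharacter_irr ψ)
    exact ⟨(a : ℤ) - b, by rw [he, H12.classInner_sub_left, ha, hb]; push_cast; rfl⟩
  -- the weights
  set w : IrrCharacter G → P → ℂ := fun ψ y => if y = 1 then 0 else conj (d y ψ) with hw
  have hwi : ∀ ψ y, IsIntegral ℤ (w ψ y) := fun ψ y => by
    simp only [hw]
    split_ifs with h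
    · exact isIntegral_zero
    · exact (hdi y h ψ).map (starRingEnd ℂ).toIntAlgHom
  have hwμ : ∀ (ψ : IrrCharacter G) (y : P), y ≠ 1 → (c : ℂ) * w ψ y =
      (Nat.card P : ℂ) * (μ y * H23.pairC p (y : G) (bu y) χ₀ ψ) := fun ψ y hy => by
    rw [show w ψ y = conj (d y ψ) from if_neg hy]
    linear_combination (-conj (d y ψ)) * hdμ y hy - μ y * hdp y hy χ₀ ψ
  have hwinv : ∀ ψ (t : H23.stab P f₀) (y : P), w ψ (cnj t y) = w ψ y := by
    intro ψ t y
    by_cases hy : y = 1
    · subst hy; simp [hw]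
    · have hy' : cnj t y ≠ 1 := fun h => hy (by rw [← cnj_cnj_inv t y, h, map_one])
      apply mul_left_cancel₀ hc0
      rw [hwμ ψ _ hy', hwμ ψ y hy, hμ t y hy]
      congr 2
      have hconj : (cnj t y : G) = ((t⁻¹ : H23.stab P f₀) : G) * (y : G) *
          ((t⁻¹ : H23.stab P f₀) : G)⁻¹ := by simp [coe_cnj]
      have hle : H23.Le p (Subgroup.zpowers (cnj t y : G),
          H23.cj ((t⁻¹ : H23.stab P f₀) : G) (bu y)) (P, f₀) := by
        have h := (hbu y).cj p ((t⁻¹ : H23.stab P f₀) : G)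
        rwa [H23.cjS_zpowers, ← hconj, H23.cjS_eq_self (t⁻¹).2.1, (t⁻¹).2.2] at h
      rw [H23.le_unique p hmax.1 (hbu (cnj t y)) hle, hconj, H23.pairC_cj]
  set X : (P →* ℂˣ) → IrrCharacter G → ℂ :=
    fun r ψ => (Nat.card P : ℂ)⁻¹ * ∑ y : P, ((r y : ℂ) - 1) * w ψ y with hX
  have hval : ∀ r (ψ : IrrCharacter G), classInner (S r) (ψ : G → ℂ) = (c : ℂ) * X r ψ := by
    intro r ψ
    apply mul_left_cancel₀ hn0
    rw [← starFn_const (p := p) (M := M) ψ, hS,
      classInner_starFn_free hM hB hab hmax hfree (hst r) (hlam1 r) _ hInv_one χ₀ ψ bu hbu]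
    simp only [map_one, mul_one, hlamP]
    calc ∑ y : P, (eta (p := p) (f₀ := f₀) r y - (n : ℂ)) * μ y *
          H23.pairC p (y : G) (bu y) χ₀ ψ
        = (Nat.card P : ℂ)⁻¹ * ((c : ℂ) *
            ∑ y : P, (eta (p := p) (f₀ := f₀) r y - (n : ℂ)) * w ψ y) := by
          rw [mul_sum, mul_sum]
          refine sum_congr rfl fun y _ => ?_
          by_cases hy : y = 1
          · subst hy; rw [eta_one]; ring
          · rw [mul_left_comm (c : ℂ), hwμ ψ y hy]
            field_simp
      _ = _ := by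
          rw [sum_eta_sub_mul r (w ψ) (hwinv ψ), hX]
          ring
  have hXint : ∀ r (ψ : IrrCharacter G), ∃ z : ℤ, X r ψ = z := by
    intro r ψ
    obtain ⟨z, hz⟩ := hint r ψ
    have hI : IsIntegral ℤ ((Nat.card P : ℂ) * X r ψ) := by
      rw [hX]
      simp only [← mul_assoc, mul_inv_cancel₀ hP0, one_mul]
      refine IsIntegral.sum _ fun y _ => (IsIntegral.sub ?_ isIntegral_one).mul (hwi ψ y)
      refine IsIntegral.of_pow (n := Nat.card P) Nat.card_pos ?_
      rw [← Units.val_pow_eq_pow_val, ← map_pow, pow_card_eq_one', map_one, Units.val_one]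
      exact isIntegral_one
    have heq : (Nat.card P : ℂ) * X r ψ = (((Nat.card P * z : ℤ) : ℚ) / (c : ℚ) : ℚ) := by
      push_cast
      rw [eq_div_iff hc0, ← hz, hval]
      ring
    rw [heq] at hI
    obtain ⟨k, hk⟩ := H12.exists_int_of_isIntegral_rat hI
    have hcq : (c : ℚ) ≠ 0 := by exact_mod_cast hc0
    have hk' : c * k = (Nat.card P : ℤ) * z := by
      rw [eq_div_iff hcq] at hk
      rw [mul_comm]
      exact_mod_cast hk
    obtain ⟨m, hm⟩ := IsPGroup.iff_card.1 hmax.1.1
    have hcop : IsCoprime c ((Nat.card P : ℕ) : ℤ) := by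
      rw [hm]
      push_cast
      exact (((Nat.prime_iff_prime_int.1 hp.out).coprime_iff_not_dvd).2 hpc).symm.pow_right
    obtain ⟨a, ha⟩ := hcop.dvd_of_dvd_mul_left ⟨k, hk'.symm⟩
    refine ⟨a, mul_left_cancel₀ hc0 ?_⟩
    rw [← hval, hz, ha]
    push_cast
    rfl
  choose v hv using hXint
  have hout : ∀ r ψ, ψ ∉ B → v r ψ = 0 := by
    intro r ψ hψ
    have h : X r ψ = 0 := by
      rw [hX]
      refine mul_eq_zero_of_right _ (sum_eq_zero fun y _ => ?_)
      by_cases hy : y = 1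
      · simp [hw, hy]
      · have h1 := hwμ ψ y hy
        rw [pairC_eq_zero_of_notMem hM hB hmax (hbu y) χ₀ ψ hψ, mul_zero, mul_zero] at h1
        rw [(mul_eq_zero.1 h1).resolve_left hc0, mul_zero]
    rw [hv] at h
    exact_mod_cast h
  have hsumB : ∀ f : IrrCharacter G → ℤ, (∀ ψ, ψ ∉ B → f ψ = 0) → ∑ x : B, f x.1 = ∑ ψ, f ψ := by
    intro f hf
    rw [← Finset.sum_subtype (univ.filter fun ψ : IrrCharacter G => ψ ∈ B) (fun ψ => by simp) f,
      sum_filter_of_ne]
    intro ψ _ h
    by_contra h'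
    exact h (hf ψ h')
  refine ⟨↥R, inferInstance, fun r x => v r.1 x.1, by rw [Fintype.card_coe]; exact hRcard,
    fun r s => ?_, fun r => ?_, fun x => ?_⟩
  · -- the Gram matrix
    rw [hsumB (fun ψ => v r.1 ψ * v s.1 ψ) fun ψ hψ => by simp [hout r.1 ψ hψ]]
    have hcf : ∀ r', IsClassFunction G (S r') := fun r' => by
      obtain ⟨α, β, hα, hβ, he⟩ := hSgen r'
      rw [he]
      intro a b
      simp only [Pi.sub_apply, H12.IsCharacter.isClassFunction hα a b,
        H12.IsCharacter.isClassFunction hβ a b]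
    have h1 := H12.classInner_eq_sum_mul (hcf r.1) (hcf s.1)
    simp only [hval, hv, map_mul, map_intCast] at h1
    have h2 : (n : ℂ) * classInner (S r.1) (S s.1) =
        (n : ℂ) * ((c : ℂ) * c * ((n : ℂ) + if r = s then 1 else 0)) := by
      rw [hS, classInner_starFn_free hM hB hab hmax hfree (hst r.1) (hlam1 r.1) _
        (H23.hInv_hStar (hst s.1)) χ₀ χ₀ bu hbu]
      have hterm : ∀ y : P, lam r.1 (y : G) * conj (H23.hStar p P f₀ (lam s.1) (y : G) (bu y)) *
          H23.pairC p (y : G) (bu y) χ₀ χ₀ = (c : ℂ) * c * (Nat.card P : ℂ)⁻¹ *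
          ((eta (p := p) (f₀ := f₀) r.1 y - (n : ℂ)) *
            conj (eta (p := p) (f₀ := f₀) s.1 y - (n : ℂ))) := by
        intro y
        rw [H23.hStar_below (hst s.1) (hbu y), hlamP, hlamP]
        by_cases hy : y = 1
        · subst hy; rw [eta_one]; ring
        · have e1 := hdp y hy χ₀ χ₀
          have e2 : conj (μ y * d y χ₀) = (c : ℂ) := by rw [hdμ y hy, map_intCast]
          rw [map_mul] at e2
          have e3 : μ y * conj (μ y) * H23.pairC p (y : G) (bu y) χ₀ χ₀ =
              (c : ℂ) * c * (Nat.card P : ℂ)⁻¹ := by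
            rw [eq_mul_inv_iff_mul_eq₀ hP0]
            linear_combination (μ y * conj (μ y)) * e1 +
              (conj (μ y) * conj (d y χ₀)) * hdμ y hy + (c : ℂ) * e2
          rw [map_mul, ← e3]
          ring
      rw [sum_congr rfl fun y _ => hterm y, ← mul_sum,
        sum_eta_mul_conj hab hfree (hR1 _ r.2) (hR1 _ s.2) (hRrep _ r.2 _ s.2)]
      simp only [Subtype.coe_inj, ← hn]
      field_simp
      ring
    have h3 := mul_left_cancel₀ hn0 h2
    rw [h1] at h3
    have h4 : ((∑ ψ, v r.1 ψ * v s.1 ψ : ℤ) : ℂ) =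
        (((n : ℤ) + if r = s then 1 else 0 : ℤ) : ℂ) := by
      apply mul_left_cancel₀ (mul_ne_zero hc0 hc0)
      push_cast
      rw [← h3, mul_sum]
      exact sum_congr rfl fun ψ _ => by ring
    exact_mod_cast h4
  · -- orthogonal to the degrees
    rw [hsumB (fun ψ => v r.1 ψ * (charDegree (ψ : G → ℂ) : ℤ))
      fun ψ hψ => by simp [hout r.1 ψ hψ]]
    have hcf : IsClassFunction G (S r.1) := by
      obtain ⟨α, β, hα, hβ, he⟩ := hSgen r.1
      rw [he]
      intro a b
      simp only [Pi.sub_apply, H12.IsCharacter.isClassFunction hα a b,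
        H12.IsCharacter.isClassFunction hβ a b]
    have h1 := H20.classFunction_eq_sum_apply hcf 1
    rw [show S r.1 1 = _ from H23.starFn_apply_one hM hB hmax (hst r.1) hχ₀, hlam1, zero_mul] at h1
    simp only [hval, hv, H22.irr_one_eq_charDegree] at h1
    have h2 : ((∑ ψ, v r.1 ψ * (charDegree (ψ : G → ℂ) : ℤ) : ℤ) : ℂ) = 0 := by
      apply mul_left_cancel₀ hc0
      push_cast
      rw [mul_zero, mul_sum]
      refine Eq.trans ?_ h1.symm
      exact sum_congr rfl fun ψ _ => by ring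
    exact_mod_cast h2
  · -- every character occurs
    by_contra hall
    push Not at hall
    have hfix : ∀ r : P →* ℂˣ, ∑ y : P, ((r y : ℂ) - 1) * w x.1 y = 0 := by
      intro r
      by_cases hr : r = 1
      · subst hr; simp
      obtain ⟨r0, hr0, t, rfl⟩ := hRall r hr
      have h1 : X r0 x.1 = 0 := by rw [hv, hall ⟨r0, hr0⟩, Int.cast_zero]
      rw [hX] at h1
      refine Eq.trans ?_ ((mul_eq_zero.1 h1).resolve_left (inv_ne_zero hP0))
      refine Fintype.sum_equiv ⟨cnj t, cnj t⁻¹, cnj_cnj_inv t, cnj_inv_cnj t⟩ _ _ fun y => ?_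
      show _ = ((r0 (cnj t y) : ℂ) - 1) * w x.1 (cnj t y)
      rw [hwinv, twist_apply]
    obtain ⟨a, ha⟩ := Subgroup.ne_bot_iff_exists_ne_one.1 hP1
    have hwa : w x.1 a = 0 := by
      apply mul_left_cancel₀ hP0
      rw [mul_zero]
      calc (Nat.card P : ℂ) * w x.1 a
          = ∑ y : P, (∑ r : P →* ℂˣ, conj (r a : ℂ) * (r y : ℂ)) * w x.1 y := by
            simp only [H20.sum_dual_conj_mul (A := P) (fun a b => Subtype.ext (hab a a.2 b b.2)),
              ite_mul, zero_mul, sum_ite_eq', mem_univ, if_true]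
        _ = ∑ r : P →* ℂˣ, conj (r a : ℂ) * ∑ y : P, (r y : ℂ) * w x.1 y := by
            simp only [sum_mul, mul_sum, mul_assoc]
            rw [sum_comm]
        _ = ∑ r : P →* ℂˣ, conj (r a : ℂ) * ∑ y : P, w x.1 y := by
            refine sum_congr rfl fun r _ => ?_
            congr 1
            have h := hfix r
            simp only [sub_mul, one_mul, sum_sub_distrib, sub_eq_zero] at h
            exact h
        _ = 0 := by
            rw [← sum_mul, ← map_sum,
              H20.sum_dual_ne_one (A := P) (fun a b => Subtype.ext (hab a a.2 b b.2)) ha, map_zero,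
              zero_mul]
    rw [show w x.1 a = conj (d a x.1) from if_neg ha, map_eq_zero] at hwa
    refine pairC_self_ne_zero hM hB hab hmax a.2 (hbu a) x.2 ?_
    apply mul_left_cancel₀ hP0
    rw [hdp a ha x.1 x.1, hwa, zero_mul, mul_zero]

end H20.FAb
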