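import Cfsg.Agent.H20.FreeAbelian.Section
import Cfsg.Agent.H19.AbelianLocal
import Cfsg.Agent.H23.PPower

/-!
# The local blocks of a block with abelian defect group and free inertial action
-/

set_option autoImplicit false
set_option linter.style.haveILetI false
set_option linter.unusedSectionVars false

open Cfsg Finset
open scoped MonoidAlgebra ComplexConjugate

namespace H20.FAb

universe u

variable {M : Ideal AlgInt} [hMp : M.IsPrime] {G : Type u} [Group G] [Fintype G]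
variable {p : ℕ} [hp : Fact p.Prime] [CharP (H20.k M) p] [IsAlgClosed (H20.k M)]

local notation "kG" => MonoidAlgebra (H20.k M) G

/-- The centraliser of a subgroup. -/
abbrev Cz {G : Type u} [Group G] (R : Subgroup G) : Subgroup G :=
  Subgroup.centralizer (R : Set G)

theorem mk_inclusion {K H : Subgroup G} [Fintype K] [Fintype H] (h : K ≤ H) {a : kG}
    (ha : H23.Supp K a) :
    mk M (Subgroup.inclusion h) (H23.res K a) = H23.res H a := by
  ext x
  rw [H23.coeff_res]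
  by_cases hx : (x : G) ∈ K
  · exact Finsupp.mapDomain_apply (Subgroup.inclusion_injective h) (H23.res K a).coeff ⟨x, hx⟩
  · rw [ha _ hx]
    exact Finsupp.mapDomain_of_notMem_range (H23.res K a).coeff x (by
      rintro ⟨k, rfl⟩
      exact hx k.2)

theorem isMax_of_card (hM : IsPModular p M) {B : Set (IrrCharacter G)} (hB : IsPBlock M B)
    {D : Subgroup G} (hD : IsDefectGroup p M B D) {R : Subgroup G} {g : kG}
    (hg : H23.IsPair p R g) (hin : H23.InBlk (H23.eB M B) R g)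
    (hcard : Nat.card D ≤ Nat.card R) : H23.IsMax p (H23.eB M B) R g := by
  obtain ⟨S, e, hS, hle⟩ := H23.exists_max p (H23.cidem_eB hB) hg hin
  have hSD : Nat.card S = Nat.card D :=
    (H20.card_defectGroup hM hB (H23.isDefectGroup_of_isMax hB hS)).trans
      (H20.card_defectGroup hM hB hD).symm
  have hRS : R = S := Subgroup.eq_of_le_of_card_ge (hle.le p) (hSD.le.trans hcard)
  subst hRS
  have hge : g = e := congrArg Prod.snd (hle.eq_of_eq p rfl)
  rw [hge]
  exact hS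

variable [∀ R : Subgroup G, Fintype R]
variable {B : Set (IrrCharacter G)} {P : Subgroup G} {f₀ : (H20.k M)[G]}

/-- The local block at `R` with its Brauer character. -/
structure Loc (p : ℕ) [Fact p.Prime] (M : Ideal AlgInt) [M.IsPrime] [CharP (H20.k M) p]
    [IsAlgClosed (H20.k M)] {G : Type u} [Group G] [Fintype G] [∀ R : Subgroup G, Fintype R]
    (P : Subgroup G) (f₀ : (H20.k M)[G]) (R : Subgroup G) where
  /-- The block. -/
  β : Set (IrrCharacter (Cz R))
  hβ : IsPBlock M β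
  nsub : H23.NSub p (R, H23.eG M (Cz R) β) (P, f₀)
  nil : IsNilpotentBlock p M β
  max : H23.IsMax p (H23.eB M β) (P.subgroupOf (Cz R)) (H23.res (Cz R) f₀)
  /-- A character of height zero. -/
  θ : IrrCharacter (Cz R)
  mem : θ ∈ β
  height : blockHeight p β (θ : (Cz R) → ℂ) = 0
  reg : ∀ η ∈ β, ∀ g : Cz R, ¬ p ∣ orderOf g → (η : (Cz R) → ℂ) g = (θ : (Cz R) → ℂ) g
  norm : (Nat.card P : ℂ) * ((Nat.card (Cz R) : ℂ)⁻¹ *
    ∑ c ∈ (univ : Finset (Cz R)).filter (fun c => ¬ p ∣ orderOf c),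
      (θ : (Cz R) → ℂ) c * conj ((θ : (Cz R) → ℂ) c)) = 1

theorem nonempty_loc (hM : IsPModular p M) (hB : IsPBlock M B)
    (hab : ∀ a ∈ P, ∀ b ∈ P, a * b = b * a) (hmax : H23.IsMax p (H23.eB M B) P f₀)
    (hfree : ∀ g ∈ H23.stab P f₀, ∀ x ∈ P, x ≠ 1 → g * x * g⁻¹ = x →
      g ∈ Subgroup.centralizer (P : Set G))
    {R : Subgroup G} (hR : R ≤ P) (hR1 : R ≠ ⊥) : Nonempty (Loc p M P f₀ R) := by
  classical
  obtain ⟨c, hc, rfl⟩ := H23.exists_of_isPair hmax.1
  have hPp : IsPGroup p P := hmax.1.1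
  obtain ⟨β, hβ⟩ := H19.AbelianLocal.exists_inducedIn hM hPp hab hR hc.2
  have hle := H19.AbelianLocal.le_of_inducedIn hM hPp hab hR hβ
  have hPC : P ≤ Cz R := (H19.AbelianLocal.le_centralizer hab).trans (H23.centralizer_anti hR)
  have hPN : P ≤ Subgroup.normalizer (R : Set G) :=
    hPC.trans (Subgroup.centralizer_le_normalizer _)
  obtain ⟨f', hf'⟩ := H23.exists_nsub p hmax.1 hR hPN
  obtain rfl := H23.le_unique p hmax.1 (Relation.ReflTransGen.single hf') hle
  have hnil : IsNilpotentBlock p M β := by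
    refine (H19.AbelianLocal.local_nilpotent_iff hM hB hab hmax hR hβ).2 ?_
    rintro t ⟨ht, htR⟩
    obtain ⟨x, hx, hx1⟩ := (Subgroup.ne_bot_iff_exists_ne_one).1 hR1 |>.elim
      fun a ha => (⟨a.1, a.2, fun h => ha (Subtype.ext h)⟩ : ∃ x, x ∈ R ∧ x ≠ 1)
    exact hfree t ht x (hR hx) hx1
      (mul_inv_eq_iff_eq_mul.2 (Subgroup.mem_centralizer_iff.1 htR x hx).symm)
  have hD := H19.AbelianLocal.isDefectGroup_local hM hB hab hmax hR hβ
  set f₀ := H23.eG M (Subgroup.centralizer (P : Set G)) c with hf₀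
  have hpair : H23.IsPair p (P.subgroupOf (Cz R)) (H23.res (Cz R) f₀) := by
    refine ⟨hPp.comap_of_injective (Cz R).subtype (Cz R).subtype_injective, ?_⟩
    rw [H23.centralizer_subgroupOf hPC]
    exact H23.isBlk_res (H23.centralizer_anti hR) hmax.1.2
  have hin : H23.InBlk (H23.eB M β) (P.subgroupOf (Cz R)) (H23.res (Cz R) f₀) := by
    show _ * _ = _
    rw [show H23.eB M β = H23.res (Cz R) (H23.eG M (Cz R) β) from (H23.res_eG β).symm,
      H23.res_Br hPC, ← H23.res_mul (hmax.1.2.cidem.supp.mono (H23.centralizer_anti hR))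
        ((H23.supp_Br P _).mono (H23.centralizer_anti hR))]
    exact congrArg _ hf'.mul
  have hmaxl := isMax_of_card hM hβ.2.1 hD hpair hin le_rfl
  obtain ⟨θ, hθ, h0, hreg, hnorm⟩ := exists_theta hM hnil hmaxl
    (fun x hx y hy => Subtype.ext (hab x hx y hy))
  rw [H23.card_subgroupOf hPC] at hnorm
  exact ⟨⟨β, hβ.2.1, hf', hnil, hmaxl, θ, hθ, h0, hreg, by convert hnorm using 4⟩⟩

/-- The value of the character of a smaller local block on a section. -/
theorem exists_local_delta (hM : IsPModular p M) (hab : ∀ a ∈ P, ∀ b ∈ P, a * b = b * a)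
    (hmax : H23.IsMax p (H23.eB M B) P f₀) {Q R : Subgroup G} (LQ : Loc p M P f₀ Q)
    (LR : Loc p M P f₀ R) {s : G} (hs : s ∈ P) (hQR : R = Q ⊔ Subgroup.zpowers s)
    (hQP : Q ≤ P) (hKH : Cz R ≤ Cz Q) (hsH : s ∈ Cz Q) :
    ∃ δ : ℂ, IsIntegral ℤ δ ∧ δ * conj δ = 1 ∧
      ∀ a : (H20.k M)[Cz R], a * a = a → a * H20.eRed M LR.β = a →
        ∃ n : ℕ, H23.T LR.θ 1 a = n ∧
          H23.T LQ.θ ⟨s, hsH⟩ (mk M (Subgroup.inclusion hKH) a) = δ * n := by
  classical
  have hRP : R ≤ P := hQR ▸ sup_le hQP (Subgroup.zpowers_le.2 hs)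
  have hsR : s ∈ R := hQR ▸ Subgroup.mem_sup_right (Subgroup.mem_zpowers s)
  have hPC : ∀ {S : Subgroup G}, S ≤ P → P ≤ Cz S := fun hS =>
    (H19.AbelianLocal.le_centralizer hab).trans (H23.centralizer_anti hS)
  set H := Cz Q with hH
  set K := Cz R with hK
  set s' : H := ⟨s, hsH⟩ with hs'
  have hsK : s ∈ K := hPC hRP hs
  have hz : (⟨s, hsK⟩ : K) ∈ Subgroup.center K := Subgroup.mem_center_iff.2 fun k =>
    Subtype.ext (Subgroup.mem_centralizer_iff.1 k.2 s hsR).symm
  have hzs : Subgroup.zpowers s' = (Subgroup.zpowers s).subgroupOf H := by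
    ext x
    simp only [Subgroup.mem_subgroupOf, Subgroup.mem_zpowers_iff, Subtype.ext_iff,
      Subgroup.coe_zpow, hs']
  have hcent : Subgroup.centralizer (Subgroup.zpowers s' : Set H) = K.subgroupOf H := by
    rw [hzs, H23.centralizer_subgroupOf (Subgroup.zpowers_le.2 hsH)]
    ext x
    simp only [Subgroup.mem_subgroupOf, hK, hQR]
    refine ⟨fun hx => ?_, fun hx => H23.centralizer_anti le_sup_right hx⟩
    rw [Subgroup.mem_centralizer_iff]
    intro y hy
    have h1 : Q ⊔ Subgroup.zpowers s ≤ Subgroup.centralizer ({(x : G)} : Set G) := by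
      refine sup_le (fun q hq => ?_) fun q hq => ?_ <;>
        rw [Subgroup.mem_centralizer_singleton_iff]
      · exact Subgroup.mem_centralizer_iff.1 x.2 q hq
      · exact Subgroup.mem_centralizer_iff.1 hx q hq
    exact Subgroup.mem_centralizer_singleton_iff.1 (h1 hy)
  have hrange : (Subgroup.inclusion hKH).range =
      Subgroup.centralizer (Subgroup.zpowers s' : Set H) := by
    rw [hcent]
    ext x
    rw [Subgroup.mem_subgroupOf]
    exact ⟨fun ⟨k, hk⟩ => hk ▸ k.2, fun hx => ⟨⟨x, hx⟩, Subtype.ext rfl⟩⟩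
  obtain ⟨δ, hδ⟩ := exists_delta hM (Subgroup.inclusion hKH) hz (s := s') rfl LR.hβ LR.θ LR.reg
  obtain ⟨hint, hidem, -⟩ := hδ LQ.θ
  refine ⟨δ LQ.θ, hint, ?_, hidem⟩
  -- the pair at `s`
  set bs : (H20.k M)[H] := mk M (Subgroup.inclusion hKH) (H20.eRed M LR.β) with hbs
  have hbs' : bs = H23.res H (H23.eG M K LR.β) := by
    rw [hbs, ← H23.res_eG, mk_inclusion hKH (H23.supp_eG _ _)]
  have hPH : P ≤ H := hPC hQP
  have hns : H23.NSub p (Subgroup.zpowers s', bs) (P.subgroupOf H, H23.res H f₀) := by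
    refine ⟨⟨LQ.max.1.1.to_le ?_, ?_⟩, LQ.max.1, ?_, ?_, ?_, ?_⟩
    · exact Subgroup.zpowers_le.2 hs
    · show H23.IsBlk (Subgroup.centralizer (Subgroup.zpowers s' : Set H)) bs
      rw [hcent, hbs']
      exact H23.isBlk_res hKH (H23.isBlk_eG LR.hβ)
    · exact Subgroup.zpowers_le.2 hs
    · refine fun x hx => Subgroup.centralizer_le_normalizer _ ?_
      rw [hcent]
      exact Subgroup.mem_subgroupOf.2 (hPC hRP hx)
    · intro x hx g
      show bs.coeff (x * g * x⁻¹) = bs.coeff g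
      rw [hbs', H23.coeff_res, H23.coeff_res]
      exact LR.nsub.fix x hx g
    · show H23.res H f₀ * H23.Br (P.subgroupOf H) bs = H23.res H f₀
      rw [hbs', H23.res_Br hPH, ← H23.res_mul
        (hmax.1.2.cidem.supp.mono (H23.centralizer_anti hQP))
        ((H23.supp_Br P _).mono (H23.centralizer_anti hQP))]
      exact congrArg _ LR.nsub.mul
  have hex : ∀ y : P.subgroupOf H, ∃ b, H23.Le p (Subgroup.zpowers (y : H), b)
      (P.subgroupOf H, H23.res H f₀) := fun y =>
    H23.exists_le p LQ.max.1 (Subgroup.zpowers_le.2 y.2)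
  choose bu hbu using hex
  set y : P.subgroupOf H := ⟨s', hs⟩ with hy
  have hby : bu y = bs := H23.le_unique p LQ.max.1 (hbu y) (Relation.ReflTransGen.single hns)
  have hw := H23.weightC_eq_one hM LQ.hβ LQ.max
    (H23.innerOnElements_of_nilpotent LQ.nil LQ.max) LQ.mem LQ.height bu hbu y
  rw [hby, H23.weightC] at hw
  obtain ⟨j, hj⟩ := IsPGroup.iff_orderOf.1 LQ.max.1.1 y
  rw [← Subgroup.orderOf_coe] at hj
  have hinter : P.subgroupOf H ⊓ Subgroup.centralizer (Subgroup.zpowers (y : H) : Set H) =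
      P.subgroupOf H := by
    rw [inf_eq_left]
    intro x hx
    show x ∈ Subgroup.centralizer (Subgroup.zpowers s' : Set H)
    rw [hcent]
    exact Subgroup.mem_subgroupOf.2 (hPC hRP hx)
  have hpair := pairC_eq_delta (p := p) (Subgroup.inclusion hKH)
    (Subgroup.inclusion_injective hKH) ⟨j, hj⟩ hrange LR.θ δ (fun Θ c hc => (hδ Θ).2.2 c hc)
    LQ.θ LQ.θ
  rw [hinter, H23.card_subgroupOf hPH, show ((y : H) : H) = s' from rfl, hpair] at hw
  calc δ LQ.θ * conj (δ LQ.θ) = δ LQ.θ * conj (δ LQ.θ) * ((Nat.card P : ℂ) *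
        ((Nat.card K : ℂ)⁻¹ * ∑ c ∈ (univ : Finset K).filter (fun c => ¬ p ∣ orderOf c),
          (LR.θ : K → ℂ) c * conj ((LR.θ : K → ℂ) c))) := by rw [LR.norm, mul_one]
    _ = 1 := by rw [← hw]; ring

/-- The value of a character of `G` on the section of an element of the defect group. -/
theorem exists_global_delta (hM : IsPModular p M) (hab : ∀ a ∈ P, ∀ b ∈ P, a * b = b * a)
    {u : G} (hu : u ∈ P) (hPp : IsPGroup p P) (L : Loc p M P f₀ (Subgroup.zpowers u)) :
    ∃ δ : IrrCharacter G → ℂ, ∀ χ : IrrCharacter G, IsIntegral ℤ (δ χ) ∧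
      (∀ a : (H20.k M)[Cz (Subgroup.zpowers u)], a * a = a → a * H20.eRed M L.β = a →
        ∃ n : ℕ, H23.T L.θ 1 a = n ∧
          H23.T χ u (mk M (Cz (Subgroup.zpowers u)).subtype a) = δ χ * n) ∧
      ∀ ψ : IrrCharacter G, (Nat.card P : ℂ) *
        H23.pairC p u (H23.eG M (Cz (Subgroup.zpowers u)) L.β) χ ψ = δ χ * conj (δ ψ) := by
  classical
  set K := Cz (Subgroup.zpowers u) with hK
  have hPK : P ≤ K :=
    (H19.AbelianLocal.le_centralizer hab).trans (H23.centralizer_anti (Subgroup.zpowers_le.2 hu))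
  have hz : (⟨u, hPK hu⟩ : K) ∈ Subgroup.center K := Subgroup.mem_center_iff.2 fun k =>
    Subtype.ext (Subgroup.mem_centralizer_iff.1 k.2 u (Subgroup.mem_zpowers u)).symm
  obtain ⟨j, hj⟩ := H23.exists_orderOf_of_mem hPp hu
  obtain ⟨δ, hδ⟩ := exists_delta hM K.subtype hz (s := u) rfl L.hβ L.θ L.reg
  refine ⟨δ, fun χ => ⟨(hδ χ).1, (hδ χ).2.1, fun ψ => ?_⟩⟩
  have he : H23.eG M K L.β = mk M K.subtype (H20.eRed M L.β) := by
    rw [← H23.res_eG L.β]
    exact (H23.emb_res (H23.supp_eG _ _)).symm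
  rw [he, pairC_eq_delta (p := p) K.subtype K.subtype_injective ⟨j, hj⟩ K.range_subtype L.θ δ
    (fun Θ c hc => (hδ Θ).2.2 c hc)]
  calc (Nat.card P : ℂ) * (δ χ * conj (δ ψ) * ((Nat.card K : ℂ)⁻¹ *
        ∑ c ∈ (univ : Finset K).filter (fun c => ¬ p ∣ orderOf c),
          (L.θ : K → ℂ) c * conj ((L.θ : K → ℂ) c)))
      = δ χ * conj (δ ψ) * ((Nat.card P : ℂ) * ((Nat.card K : ℂ)⁻¹ *
        ∑ c ∈ (univ : Finset K).filter (fun c => ¬ p ∣ orderOf c),
          (L.θ : K → ℂ) c * conj ((L.θ : K → ℂ) c))) := by ring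
    _ = δ χ * conj (δ ψ) := by rw [L.norm, mul_one]

end H20.FAb
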