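import Cfsg.Agent.H20.FreeAbelian.Exclusion13

/-!
# Blocks with an abelian defect group and free inertial action
-/

set_option autoImplicit false
set_option linter.style.haveILetI false

open Cfsg
open scoped MonoidAlgebra

namespace H20.FAb

universe u

/-- The counting, in terms of the number of orbits. -/
theorem main {G : Type u} [Group G] [Finite G] (p : ℕ) [Fact p.Prime] (M : Ideal AlgInt)
    (hM : IsPModular p M) (B : Set (IrrCharacter G)) (hB : IsPBlock M B) (P : Subgroup G)
    (hPD : IsDefectGroup p M B P) (hP1 : P ≠ ⊥) (hPab : ∀ x ∈ P, ∀ y ∈ P, x * y = y * x)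
    (c : Set (IrrCharacter (Subgroup.centralizer (P : Set G))))
    (hc : IsInducedBlock M (Subgroup.centralizer (P : Set G)) c B) (T : Subgroup G)
    (hT : ∀ g : G, g ∈ T ↔ (g ∈ Subgroup.normalizer (P : Set G) ∧
      StabilizesBlock (Subgroup.centralizer (P : Set G)) c g))
    (hfree : ∀ g ∈ T, ∀ x ∈ P, x ≠ 1 → g * x * g⁻¹ = x →
      g ∈ Subgroup.centralizer (P : Set G)) :
    ∃ t : ℕ, Nat.card B = blockRank p B + t ∧
      t * (Subgroup.centralizer (P : Set G)).relIndex T + 1 = Nat.card P ∧
      1 ≤ (Subgroup.centralizer (P : Set G)).relIndex T ∧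
      blockRank p B ≤ (Subgroup.centralizer (P : Set G)).relIndex T ∧
      ((Subgroup.centralizer (P : Set G)).relIndex T ≤ 3 →
        blockRank p B = (Subgroup.centralizer (P : Set G)).relIndex T) := by
  classical
  haveI hMp : M.IsPrime := hM.2.1.isPrime
  haveI := H20.k_charP (p := p) hM
  haveI := H23.isAlgClosed_k hM.2.1
  haveI : Fintype G := Fintype.ofFinite G
  haveI : ∀ R : Subgroup G, Fintype R := fun R => Fintype.ofFinite R
  set f₀ := H23.eG M (Subgroup.centralizer (P : Set G)) c with hf₀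
  have hmax := H19.AbelianLocal.isMax_cent hM hB hPD hPab hc
  obtain rfl : T = H23.stab P f₀ :=
    Subgroup.ext fun g => (hT g).trans (H19.AbelianLocal.mem_stab_iff hc.1 g).symm
  obtain ⟨t, hk, ht, hl1, hl, h3⟩ := counts hM hB hPab hmax hfree hP1
  refine ⟨t, hk, ht, le_trans hl1 hl, hl, fun he => ?_⟩
  rcases h3 he with h | ⟨he3, hl1', hP13, hk5⟩
  · exact h
  · exact (exclusion13 hM hB hmax he3 hl1' hP13 hk5).elim

end H20.FAb
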