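import Cfsg.Agent.H20.FreeAbelian.Family
import Cfsg.Agent.H20.PrincipalFree

/-!
# Linear characters of a defect group under a free inertial action
-/

set_option autoImplicit false
set_option linter.style.haveILetI false
set_option linter.unusedSectionVars false

open Cfsg Finset
open scoped MonoidAlgebra ComplexConjugate

namespace H20.FAb

universe u

variable {M : Ideal AlgInt} [hMp : M.IsPrime] {G : Type u} [Group G] [Fintype G]
variable {p : ℕ} [hp : Fact p.Prime] [CharP (H20.k M) p] [IsAlgClosed (H20.k M)]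
variable [∀ R : Subgroup G, Fintype R]
variable {P : Subgroup G} {f₀ : (H20.k M)[G]}

/-- Conjugation of `P` by the inverse of an element of the stabiliser. -/
def cnj (t : H23.stab P f₀) : P →* P :=
  MonoidHom.mk' (fun y => ⟨(t : G)⁻¹ * (y : G) * (t : G), by
      simpa using (Subgroup.mem_normalizer_iff.1 (inv_mem t.2.1) (y : G)).1 y.2⟩)
    fun a b => Subtype.ext (by simp [mul_assoc])

theorem coe_cnj (t : H23.stab P f₀) (y : P) : (cnj t y : G) = (t : G)⁻¹ * (y : G) * (t : G) := rfl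

theorem cnj_mul (t t' : H23.stab P f₀) (y : P) : cnj (t * t') y = cnj t' (cnj t y) :=
  Subtype.ext (by simp [coe_cnj, mul_assoc])

theorem cnj_one (y : P) : cnj (1 : H23.stab P f₀) y = y := Subtype.ext (by simp [coe_cnj])

theorem cnj_inv_cnj (t : H23.stab P f₀) (y : P) : cnj t (cnj t⁻¹ y) = y := by
  rw [← cnj_mul, inv_mul_cancel, cnj_one]

theorem cnj_cnj_inv (t : H23.stab P f₀) (y : P) : cnj t⁻¹ (cnj t y) = y := by
  rw [← cnj_mul, mul_inv_cancel, cnj_one]

theorem cnj_eq_of_mem (t c : H23.stab P f₀) (hc : (c : G) ∈ Subgroup.centralizer (P : Set G))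
    (y : P) : cnj (t * c) y = cnj t y := by
  rw [cnj_mul]
  refine Subtype.ext ?_
  rw [coe_cnj c, mul_assoc, Subgroup.mem_centralizer_iff.1 hc _ (cnj t y).2, inv_mul_cancel_left]

theorem cnj_out_mk (t : H23.stab P f₀) (y : P) :
    cnj (((QuotientGroup.mk t : Cos p P f₀)).out) y = cnj t y := by
  obtain ⟨c, hc⟩ := QuotientGroup.mk_out_eq_mul
    ((Subgroup.centralizer (P : Set G)).subgroupOf (H23.stab P f₀)) t
  rw [hc]
  exact cnj_eq_of_mem t c (Subgroup.mem_subgroupOf.1 c.2) y

/-- Sums over the cosets are stable. -/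
theorem sum_cos_stable (φ : P → ℂ) (t : H23.stab P f₀) (y : P) :
    ∑ x : Cos p P f₀, φ (cnj x.out (cnj t y)) = ∑ x : Cos p P f₀, φ (cnj x.out y) := by
  refine Fintype.sum_equiv (MulAction.toPerm t) _ _ fun x => ?_
  rw [MulAction.toPerm_apply, show t • x = (QuotientGroup.mk (t * x.out) : Cos p P f₀) by
    conv_lhs => rw [← QuotientGroup.out_eq' x]
    rfl, cnj_out_mk, cnj_mul]

/-- The twist of a linear character. -/
def twist (lam : P →* ℂˣ) (t : H23.stab P f₀) : P →* ℂˣ := lam.comp (cnj t)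

theorem twist_apply (lam : P →* ℂˣ) (t : H23.stab P f₀) (y : P) :
    twist lam t y = lam (cnj t y) := rfl

theorem twist_twist (lam : P →* ℂˣ) (t t' : H23.stab P f₀) :
    twist (twist lam t) t' = twist lam (t' * t) :=
  MonoidHom.ext fun y => by rw [twist_apply, twist_apply, twist_apply, cnj_mul]

theorem twist_one (lam : P →* ℂˣ) : twist lam (1 : H23.stab P f₀) = lam :=
  MonoidHom.ext fun y => by rw [twist_apply, cnj_one]

theorem twist_ne_one {lam : P →* ℂˣ} (h : lam ≠ 1) (t : H23.stab P f₀) : twist lam t ≠ 1 :=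
  fun h' => h (MonoidHom.ext fun y => by
    have := DFunLike.congr_fun h' (cnj t⁻¹ y)
    rw [twist_apply, cnj_inv_cnj] at this
    exact this.trans rfl)

/-- The action on the nontrivial linear characters is free. -/
theorem mem_cent_of_twist_eq (hab : ∀ a ∈ P, ∀ b ∈ P, a * b = b * a)
    (hfree : ∀ g ∈ H23.stab P f₀, ∀ x ∈ P, x ≠ 1 → g * x * g⁻¹ = x →
      g ∈ Subgroup.centralizer (P : Set G))
    {lam : P →* ℂˣ} (hlam : lam ≠ 1) {t : H23.stab P f₀} (h : twist lam t = lam) :
    (t : G) ∈ Subgroup.centralizer (P : Set G) := by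
  by_contra hC
  let φ : P →* P := MonoidHom.mk' (fun y => cnj t y * y⁻¹) fun a b => by
    rw [map_mul, mul_inv_rev]
    refine Subtype.ext ?_
    simp only [Subgroup.coe_mul, Subgroup.coe_inv]
    have e1 : (b : G)⁻¹ * (a : G)⁻¹ = (a : G)⁻¹ * (b : G)⁻¹ :=
      hab _ (P.inv_mem b.2) _ (P.inv_mem a.2)
    have e2 : (cnj t b : G) * (a : G)⁻¹ = (a : G)⁻¹ * (cnj t b : G) :=
      hab _ (cnj t b).2 _ (P.inv_mem a.2)
    rw [e1, mul_assoc, ← mul_assoc (cnj t b : G), e2]
    group
  have hinj : Function.Injective φ := (injective_iff_map_eq_one φ).2 fun y hy => by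
    by_contra hy1
    apply hC
    have h1 : (t : G)⁻¹ * (y : G) * (t : G) = y := by
      have := congrArg Subtype.val hy
      simp only [φ, MonoidHom.mk'_apply, Subgroup.coe_mul, Subgroup.coe_inv, Subgroup.coe_one,
        coe_cnj, mul_inv_eq_one] at this
      exact this
    refine hfree _ t.2 y y.2 (fun h => hy1 (Subtype.ext h)) ?_
    conv_lhs => rw [← h1]
    group
  obtain ⟨y, hy⟩ : ∃ y, lam y ≠ 1 := by
    by_contra hne
    push Not at hne
    exact hlam (MonoidHom.ext fun y => hne y)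
  obtain ⟨z, rfl⟩ := Finite.surjective_of_injective hinj y
  apply hy
  rw [show φ z = cnj t z * z⁻¹ from rfl, map_mul, ← twist_apply, h, ← map_mul, mul_inv_cancel,
    map_one]

theorem twist_out_injective (hab : ∀ a ∈ P, ∀ b ∈ P, a * b = b * a)
    (hfree : ∀ g ∈ H23.stab P f₀, ∀ x ∈ P, x ≠ 1 → g * x * g⁻¹ = x →
      g ∈ Subgroup.centralizer (P : Set G))
    {lam : P →* ℂˣ} (hlam : lam ≠ 1) {x x' : Cos p P f₀}
    (h : twist lam x.out = twist lam x'.out) : x = x' := by
  rw [← QuotientGroup.out_eq' x, ← QuotientGroup.out_eq' x']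
  refine QuotientGroup.eq.2 (Subgroup.mem_subgroupOf.2 ?_)
  refine mem_cent_of_twist_eq hab hfree hlam (t := (x.out)⁻¹ * x'.out) ?_
  rw [← twist_twist, ← h, twist_twist, inv_mul_cancel, twist_one]

/-- The orbit sum of a linear character. -/
noncomputable def eta (lam : P →* ℂˣ) (y : P) : ℂ :=
  ∑ x : Cos p P f₀, (lam (cnj x.out y) : ℂ)

theorem eta_stable (lam : P →* ℂˣ) (t : H23.stab P f₀) (y : P) :
    eta (p := p) (f₀ := f₀) lam (cnj t y) = eta (p := p) (f₀ := f₀) lam y :=
  sum_cos_stable (fun z => (lam z : ℂ)) t y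

theorem eta_one (lam : P →* ℂˣ) :
    eta (p := p) (f₀ := f₀) lam (1 : P) = (Fintype.card (Cos p P f₀) : ℂ) := by
  simp [eta]

/-- Against an invariant function the orbit sum is a multiple of the character. -/
theorem sum_eta_sub_mul (lam : P →* ℂˣ) (w : P → ℂ)
    (hw : ∀ (t : H23.stab P f₀) (y : P), w (cnj t y) = w y) :
    ∑ y : P, (eta (p := p) (f₀ := f₀) lam y - (Fintype.card (Cos p P f₀) : ℂ)) * w y =
      (Fintype.card (Cos p P f₀) : ℂ) * ∑ y : P, ((lam y : ℂ) - 1) * w y := by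
  have key : ∀ x : Cos p P f₀, ∑ y : P, ((lam (cnj x.out y) : ℂ) - 1) * w y =
      ∑ y : P, ((lam y : ℂ) - 1) * w y := fun x => by
    refine Fintype.sum_equiv ⟨cnj x.out, cnj x.out⁻¹, cnj_cnj_inv _, cnj_inv_cnj _⟩ _ _ fun y => ?_
    show _ = ((lam (cnj x.out y) : ℂ) - 1) * w (cnj x.out y)
    rw [hw]
  calc ∑ y : P, (eta (p := p) (f₀ := f₀) lam y - (Fintype.card (Cos p P f₀) : ℂ)) * w y
      = ∑ y : P, ∑ x : Cos p P f₀, ((lam (cnj x.out y) : ℂ) - 1) * w y := by
        refine sum_congr rfl fun y _ => ?_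
        rw [← sum_mul, sum_sub_distrib, sum_const, card_univ, nsmul_eq_mul, mul_one, eta]
    _ = _ := by rw [sum_comm, sum_congr rfl fun x _ => key x, sum_const, card_univ, nsmul_eq_mul]

open scoped Classical in
theorem sum_eta_mul_conj (hab : ∀ a ∈ P, ∀ b ∈ P, a * b = b * a)
    (hfree : ∀ g ∈ H23.stab P f₀, ∀ x ∈ P, x ≠ 1 → g * x * g⁻¹ = x →
      g ∈ Subgroup.centralizer (P : Set G))
    {lam mu : P →* ℂˣ} (hlam : lam ≠ 1) (hmu : mu ≠ 1)
    (hrep : ∀ t : H23.stab P f₀, twist lam t = mu → lam = mu) :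
    ∑ y : P, (eta (p := p) (f₀ := f₀) lam y - (Fintype.card (Cos p P f₀) : ℂ)) *
        conj (eta (p := p) (f₀ := f₀) mu y - (Fintype.card (Cos p P f₀) : ℂ)) =
      (Nat.card P : ℂ) * (Fintype.card (Cos p P f₀) : ℂ) *
        ((if lam = mu then 1 else 0) + (Fintype.card (Cos p P f₀) : ℂ)) := by
  classical
  set n : ℕ := Fintype.card (Cos p P f₀) with hn
  have hsum : ∀ {ν : P →* ℂˣ}, ν ≠ 1 → ∑ y : P, eta (p := p) (f₀ := f₀) ν y = 0 := by
    intro ν hν
    simp only [eta]
    rw [sum_comm]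
    refine sum_eq_zero fun x _ => ?_
    have := H20.sum_lin (twist ν x.out)
    rw [if_neg (twist_ne_one hν _)] at this
    simpa [twist_apply] using this
  have hmain : ∑ y : P, eta (p := p) (f₀ := f₀) lam y * conj (eta (p := p) (f₀ := f₀) mu y) =
      (Nat.card P : ℂ) * n * (if lam = mu then 1 else 0) := by
    simp only [eta, map_sum, sum_mul_sum]
    rw [sum_comm]
    have hin : ∀ x : Cos p P f₀, ∑ y : P, ∑ x' : Cos p P f₀,
        (lam (cnj x.out y) : ℂ) * conj (mu (cnj x'.out y) : ℂ) =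
        if lam = mu then (Nat.card P : ℂ) else 0 := by
      intro x
      rw [sum_comm]
      have hone : ∀ x' : Cos p P f₀,
          ∑ y : P, (lam (cnj x.out y) : ℂ) * conj (mu (cnj x'.out y) : ℂ) =
          if twist lam x.out = twist mu x'.out then (Nat.card P : ℂ) else 0 := fun x' => by
        rw [← H20.sum_conj_mul_lin]
        exact sum_congr rfl fun y _ => by rw [twist_apply, twist_apply, mul_comm]
      simp only [hone]
      by_cases h : lam = mu
      · subst h
        rw [if_pos rfl, sum_eq_single x (fun x' _ hne => if_neg fun h' =>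
          hne (twist_out_injective hab hfree hlam h').symm) (by simp), if_pos rfl]
      · rw [if_neg h]
        refine sum_eq_zero fun x' _ => if_neg fun h' => h (hrep ((x'.out)⁻¹ * x.out) ?_)
        rw [← twist_twist, h', twist_twist, inv_mul_cancel, twist_one]
    rw [sum_congr rfl fun x _ => hin x, sum_const, card_univ, nsmul_eq_mul, ← hn]
    split_ifs <;> ring
  have hexp : ∀ y : P, (eta (p := p) (f₀ := f₀) lam y - (n : ℂ)) *
      conj (eta (p := p) (f₀ := f₀) mu y - (n : ℂ)) =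
      eta (p := p) (f₀ := f₀) lam y * conj (eta (p := p) (f₀ := f₀) mu y) -
        (n : ℂ) * eta (p := p) (f₀ := f₀) lam y - (n : ℂ) * conj (eta (p := p) (f₀ := f₀) mu y) +
        (n : ℂ) * n := fun y => by
    rw [map_sub, Complex.conj_natCast]; ring
  rw [sum_congr rfl fun y _ => hexp y, sum_add_distrib, sum_sub_distrib, sum_sub_distrib, ← mul_sum,
    ← mul_sum, ← map_sum, hsum hlam, hsum hmu, hmain, map_zero, mul_zero, sub_zero, sub_zero,
    sum_const, card_univ, nsmul_eq_mul, ← Nat.card_eq_fintype_card]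
  ring

/-- Representatives of the orbits on the nontrivial linear characters. -/
theorem exists_reps [Fintype (P →* ℂˣ)] (hab : ∀ a ∈ P, ∀ b ∈ P, a * b = b * a)
    (hfree : ∀ g ∈ H23.stab P f₀, ∀ x ∈ P, x ≠ 1 → g * x * g⁻¹ = x →
      g ∈ Subgroup.centralizer (P : Set G)) :
    ∃ R : Finset (P →* ℂˣ), (∀ r ∈ R, r ≠ 1) ∧
      (∀ r ∈ R, ∀ r' ∈ R, ∀ t : H23.stab P f₀, twist r t = r' → r = r') ∧
      (∀ lam : P →* ℂˣ, lam ≠ 1 → ∃ r ∈ R, ∃ t : H23.stab P f₀, twist r t = lam) ∧
      R.card * Fintype.card (Cos p P f₀) + 1 = Nat.card P := by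
  classical
  let S : Setoid (P →* ℂˣ) :=
    { r := fun a b => ∃ t : H23.stab P f₀, twist a t = b
      iseqv := ⟨fun a => ⟨1, twist_one a⟩, fun {a b} ⟨t, ht⟩ => ⟨t⁻¹, by
          rw [← ht, twist_twist, inv_mul_cancel, twist_one]⟩,
        fun {a b c} ⟨t, ht⟩ ⟨t', ht'⟩ => ⟨t' * t, by rw [← twist_twist, ht, ht']⟩⟩ }
  set rep : (P →* ℂˣ) → (P →* ℂˣ) := fun a => (Quotient.mk S a).out with hrepd
  have hrel : ∀ a, ∃ t : H23.stab P f₀, twist (rep a) t = a := fun a =>
    (Quotient.exact (s := S) (Quotient.out_eq (Quotient.mk S a)) : _)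
  have hrep1 : ∀ a, a ≠ 1 → rep a ≠ 1 := fun a ha h => ha (by
    obtain ⟨t, ht⟩ := hrel a
    rw [h] at ht
    rw [← ht]
    exact MonoidHom.ext fun y => rfl)
  have hrepeq : ∀ a b, (∃ t : H23.stab P f₀, twist a t = b) → rep a = rep b := fun a b h =>
    congrArg Quotient.out (Quotient.sound (s := S) h)
  have hidem : ∀ a, rep (rep a) = rep a := fun a => hrepeq _ _ (hrel a)
  set N := (univ : Finset (P →* ℂˣ)).erase 1 with hN
  refine ⟨N.image rep, ?_, ?_, ?_, ?_⟩
  · intro r hr
    obtain ⟨a, ha, rfl⟩ := mem_image.1 hr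
    exact hrep1 a (mem_erase.1 ha).1
  · intro r hr r' hr' t ht
    obtain ⟨a, -, rfl⟩ := mem_image.1 hr
    obtain ⟨b, -, rfl⟩ := mem_image.1 hr'
    rw [← hidem a, ← hidem b]
    exact hrepeq _ _ ⟨t, ht⟩
  · intro lam hlam
    exact ⟨rep lam, mem_image_of_mem _ (mem_erase.2 ⟨hlam, mem_univ _⟩), hrel lam⟩
  · have hfib : ∀ r ∈ N.image rep, (N.filter fun a => rep a = r).card =
        Fintype.card (Cos p P f₀) := by
      intro r hr
      obtain ⟨a, ha, rfl⟩ := mem_image.1 hr
      have hne := hrep1 a (mem_erase.1 ha).1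
      have hset : N.filter (fun b => rep b = rep a) =
          univ.image fun x : Cos p P f₀ => twist (rep a) x.out := by
        ext b
        simp only [mem_filter, mem_image, mem_univ, true_and, hN, mem_erase, and_true]
        constructor
        · rintro ⟨-, hb⟩
          obtain ⟨t, ht⟩ := hrel b
          refine ⟨QuotientGroup.mk t, ?_⟩
          rw [← ht, hb]
          exact MonoidHom.ext fun y => by rw [twist_apply, twist_apply, cnj_out_mk]
        · rintro ⟨x, rfl⟩
          exact ⟨twist_ne_one hne _, (hrepeq _ _ ⟨x.out, rfl⟩).symm.trans (hidem a)⟩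
      rw [hset, card_image_of_injective _ fun x x' h => twist_out_injective hab hfree hne h,
        card_univ]
    have h := card_eq_sum_card_fiberwise (f := rep) (s := N) (t := N.image rep)
      fun a ha => mem_image_of_mem _ ha
    rw [sum_congr rfl hfib, sum_const, smul_eq_mul] at h
    have hd : Fintype.card (P →* ℂˣ) = Nat.card P := by
      exact_mod_cast H20.card_dual (A := P) fun a b => Subtype.ext (hab a a.2 b b.2)
    rw [← h, hN, card_erase_of_mem (mem_univ _), card_univ, hd]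
    have : 0 < Nat.card P := Nat.card_pos
    omega

end H20.FAb
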