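import Cfsg.Agent.H20.FreeAbelian.Sign
import Cfsg.Agent.H20.FreeAbelian.Glue
import Cfsg.Agent.H20.FreeAbelian.Pairs
import Cfsg.Agent.H20.FreeAbelian.Twist

/-!
# A generalized character cancelling the multiplicities
-/

set_option autoImplicit false
set_option linter.style.haveILetI false
set_option linter.unusedSectionVars false

open Cfsg Finset
open scoped MonoidAlgebra ComplexConjugate

namespace H20.FAb

universe u

variable {M : Ideal AlgInt} [hMp : M.IsPrime] {G : Type u} [Group G] [Fintype G]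
variable {p : ℕ} [hp : Fact p.Prime] [CharP (H20.k M) p] [IsAlgClosed (H20.k M)]
variable [∀ R : Subgroup G, Fintype R]
variable {B : Set (IrrCharacter G)} {P : Subgroup G} {f₀ : (H20.k M)[G]}

theorem not_dvd_card_cos (hab : ∀ a ∈ P, ∀ b ∈ P, a * b = b * a) (hPp : IsPGroup p P)
    (hfree : ∀ g ∈ H23.stab P f₀, ∀ x ∈ P, x ≠ 1 → g * x * g⁻¹ = x →
      g ∈ Subgroup.centralizer (P : Set G)) (hP1 : P ≠ ⊥) :
    ¬ p ∣ Fintype.card (Cos p P f₀) := by
  classical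
  haveI := H20.finite_dual (A := P)
  haveI := Fintype.ofFinite (P →* ℂˣ)
  obtain ⟨R, -, -, -, hcard⟩ := exists_reps hab hfree
  obtain ⟨n, hn⟩ := IsPGroup.iff_card.1 hPp
  intro h
  have h1 := (Subgroup.one_lt_card_iff_ne_bot _).2 hP1
  have hn0 : n ≠ 0 := fun h0 => by rw [hn, h0, pow_zero] at h1; omega
  have hd : p ∣ R.card * Fintype.card (Cos p P f₀) + 1 := by
    rw [hcard, hn]; exact dvd_pow_self p hn0
  exact hp.out.not_dvd_one ((Nat.dvd_add_right (h.mul_left _)).1 hd)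

set_option maxHeartbeats 1600000 in
/-- The data of the construction. -/
theorem exists_scalars (hM : IsPModular p M) (hB : IsPBlock M B)
    (hab : ∀ a ∈ P, ∀ b ∈ P, a * b = b * a) (hmax : H23.IsMax p (H23.eB M B) P f₀)
    (hfree : ∀ g ∈ H23.stab P f₀, ∀ x ∈ P, x ≠ 1 → g * x * g⁻¹ = x →
      g ∈ Subgroup.centralizer (P : Set G)) (hP1 : P ≠ ⊥) :
    ∃ χ₀ ∈ B, ∃ (bu : P → (H20.k M)[G]) (μ : P → ℂ) (c : ℤ),
      (∀ y : P, H23.Le p (Subgroup.zpowers (y : G), bu y) (P, f₀)) ∧ ¬ (p : ℤ) ∣ c ∧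
      (∀ lam : P →* ℂˣ, IsGeneralizedCharacter P
        fun y => (eta (p := p) (f₀ := f₀) lam y - (Fintype.card (Cos p P f₀) : ℂ)) * μ y) ∧
      (∀ (t : H23.stab P f₀) (y : P), y ≠ 1 → μ (cnj t y) = μ y) ∧
      ∀ y : P, y ≠ 1 → ∃ d : IrrCharacter G → ℂ, (∀ ψ, IsIntegral ℤ (d ψ)) ∧
        μ y * d χ₀ = (c : ℂ) ∧
        ∀ χ ψ : IrrCharacter G,
          (Nat.card P : ℂ) * H23.pairC p (y : G) (bu y) χ ψ = d χ * conj (d ψ) := by
  classical
  letI : CommGroup P :=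
    { (inferInstance : Group P) with mul_comm := fun a b => Subtype.ext (hab a a.2 b b.2) }
  haveI := H20.finite_dual (A := P)
  haveI : Fintype (P →* ℂˣ) := Fintype.ofFinite _
  have hPp : IsPGroup p P := hmax.1.1
  obtain ⟨n, hn⟩ := IsPGroup.iff_card.1 hPp
  obtain ⟨χ₀, hχ₀, hexp⟩ := H22.exists_height_zero (p := p) (H20.block_nonempty hB)
  have h0 : blockHeight p B (χ₀ : G → ℂ) = 0 := Nat.sub_eq_zero_of_le hexp.le
  obtain ⟨q, hqq, hqP, -, hq, hτ⟩ := exists_source hM hB hmax hχ₀ h0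
  obtain ⟨n0, hn0, hpn0⟩ := exists_degree hqq hqP hPp χ₀ hτ
    (not_dvd_card_cos hab hPp hfree hP1)
  let L : ∀ R : Subgroup G, R ≤ P → R ≠ ⊥ → Loc p M P f₀ R := fun R h1 h2 =>
    (nonempty_loc hM hB hab hmax hfree h1 h2).some
  -- the multiplicities
  have hmex : ∀ Q : Subgroup P, ∃ z : ℤ, ∀ (R : Subgroup G) (h1 : R ≤ P) (h2 : R ≠ ⊥),
      Q.map P.subtype = R → mR (p := p) q (L R h1 h2) = (z : ℂ) := by
    intro Q
    by_cases hQ : Q = ⊥
    · exact ⟨0, fun R _ h2 h => absurd (by rw [← h, hQ, Subgroup.map_bot]) h2⟩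
    · have h2 : Q.map P.subtype ≠ ⊥ := by
        rwa [Ne, Subgroup.map_eq_bot_iff_of_injective _ P.subtype_injective]
      obtain ⟨k, hk⟩ := mR_nat hqq hqP (Subgroup.map_subtype_le Q)
        (L _ (Subgroup.map_subtype_le Q) h2)
      refine ⟨k, fun R h1 h2' h => ?_⟩
      subst h
      rw [hk]
      push_cast; rfl
  choose m hm using hmex
  -- the family of `χ₀`
  set D0 : P → ℂ := fun y => Dg (p := p) P f₀ q χ₀ (y : G) with hD0
  have hD0gen : IsGen D0 := isGen_of_isGeneralizedCharacter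
    ⟨D0, 0, isCharacter_Dg hqq hqP χ₀, H12.isCharacter_zero, by simp⟩
  have hD01 : D0 1 = ((n0 : ℤ) : ℂ) := by rw [hD0]; simpa using hn0
  have hzp : ∀ u : P, (Subgroup.zpowers u).map P.subtype = Subgroup.zpowers (u : G) := fun u =>
    MonoidHom.map_zpowers _ _
  have hne : ∀ u : P, u ≠ 1 → Subgroup.zpowers (u : G) ≠ ⊥ := fun u hu h =>
    hu (Subtype.ext (Subgroup.zpowers_eq_bot.1 h))
  have hex : ∀ u : P, u ≠ 1 → ∃ δ : IrrCharacter G → ℂ, (∀ χ, IsIntegral ℤ (δ χ)) ∧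
      D0 u = δ χ₀ * (m (Subgroup.zpowers u) : ℂ) ∧ ∀ (b : (H20.k M)[G]),
        H23.Le p (Subgroup.zpowers (u : G), b) (P, f₀) → ∀ χ ψ : IrrCharacter G,
          (Nat.card P : ℂ) * H23.pairC p (u : G) b χ ψ = δ χ * conj (δ ψ) := by
    intro u hu
    obtain ⟨δ, hδ⟩ := exists_global hM hab hPp hqq hqP hq u.2
      (L _ (Subgroup.zpowers_le.2 u.2) (hne u hu))
    refine ⟨δ, fun χ => (hδ χ).1, ?_, fun b hb χ ψ => ?_⟩
    · rw [hD0, ← hm _ _ (Subgroup.zpowers_le.2 u.2) (hne u hu) (hzp u)]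
      exact (hδ χ₀).2.1
    · rw [H23.le_unique p hmax.1 hb (Relation.ReflTransGen.single
        (L _ (Subgroup.zpowers_le.2 u.2) (hne u hu)).nsub)]
      exact (hδ χ).2.2 ψ
  choose! δ hδi hδD hδp using hex
  have hpm : ∀ u : P, u ≠ 1 → ¬ (p : ℤ) ∣ m (Subgroup.zpowers u) := by
    intro u hu hd
    refine hpn0 ?_
    have h1 := memIdeal_sub_apply hn hM hD0gen u
    rw [hD01, hδD u hu] at h1
    have h2 : MemLocalIdeal M (δ u χ₀ * (m (Subgroup.zpowers u) : ℂ)) :=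
      H20.memIdeal_mul (H20.memRing_of_isIntegral (hδi u hu χ₀))
        ((H20.intCast_memIdeal_iff hM _).2 hd)
    have h3 := H20.memIdeal_add h2
      (H20.memIdeal_mul (H20.memRing_intCast (M := M) (-1)) h1)
    rw [show δ u χ₀ * (m (Subgroup.zpowers u) : ℂ) + ((-1 : ℤ) : ℂ) *
      (δ u χ₀ * (m (Subgroup.zpowers u) : ℂ) - ((n0 : ℤ) : ℂ)) = ((n0 : ℤ) : ℂ) by
        push_cast; ring] at h3
    exact_mod_cast (H20.intCast_memIdeal_iff hM _).1 h3
  -- the local families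
  have hloc : ∀ Q : Subgroup P, Q ≠ ⊥ → ¬ (p : ℤ) ∣ m Q → ∀ r : ℤ, ¬ (p : ℤ) ∣ r →
      (p : ℤ) ∣ m Q ^ 2 - r ^ 2 →
      IsGen (fun s : P => (nrm p r (m (Q ⊔ Subgroup.zpowers s)) : ℂ)) ∧
        ∀ s : P, ¬ (p : ℤ) ∣ m (Q ⊔ Subgroup.zpowers s) ∧
          (p : ℤ) ∣ m (Q ⊔ Subgroup.zpowers s) ^ 2 - r ^ 2 := by
    intro Q hQ hmQ r hr hmr
    have hR0 : Q.map P.subtype ≠ ⊥ := by
      rwa [Ne, Subgroup.map_eq_bot_iff_of_injective _ P.subtype_injective]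
    have hR0P : Q.map P.subtype ≤ P := Subgroup.map_subtype_le Q
    set LQ := L _ hR0P hR0
    have hPH : P ≤ Cz (Q.map P.subtype) :=
      (H19.AbelianLocal.le_centralizer hab).trans (H23.centralizer_anti hR0P)
    set f : P → ℂ := fun y => Dl (p := p) q LQ ⟨(y : G), hPH y.2⟩ with hf
    have hfgen : IsGen f := isGen_of_isGeneralizedCharacter
      ⟨f, 0, isCharacter_Dl hqq hqP hR0P hPH LQ, H12.isCharacter_zero, by simp⟩
    have hf1 : f 1 = (m Q : ℂ) := by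
      rw [hf, ← hm Q _ hR0P hR0 rfl, ← Dl_one LQ]
      rfl
    have hval : ∀ s : P, ∃ δ : ℂ, IsIntegral ℤ δ ∧ δ * conj δ = 1 ∧
        f s = δ * (m (Q ⊔ Subgroup.zpowers s) : ℂ) := by
      intro s
      have hmap : (Q ⊔ Subgroup.zpowers s).map P.subtype =
          Q.map P.subtype ⊔ Subgroup.zpowers (s : G) := by rw [Subgroup.map_sup, hzp]
      have h1 : Q.map P.subtype ⊔ Subgroup.zpowers (s : G) ≤ P :=
        sup_le hR0P (Subgroup.zpowers_le.2 s.2)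
      have h2 : Q.map P.subtype ⊔ Subgroup.zpowers (s : G) ≠ ⊥ := fun h =>
        hR0 (le_bot_iff.1 (h ▸ le_sup_left))
      rw [← hm _ _ h1 h2 hmap]
      exact Dl_value hM hab hmax hqq hqP hq hR0P LQ (L _ h1 h2) s.2 rfl (hPH s.2)
    have hz : ∀ s : P, m (Q ⊔ Subgroup.zpowers s) ≠ 0 := by
      intro s h
      obtain ⟨d, -, -, hd⟩ := hval s
      have h1 := memIdeal_sub_apply hn hM hfgen s
      rw [hd, h, hf1, Int.cast_zero, mul_zero, zero_sub, ← Int.cast_neg] at h1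
      exact hmQ ((dvd_neg).1 ((H20.intCast_memIdeal_iff hM _).1 h1))
    obtain ⟨hgen, hsq⟩ := exists_normalised hn hM hfgen hf1 hmQ hr hmr
      (fun s => m (Q ⊔ Subgroup.zpowers s)) hval hz
    refine ⟨hgen, fun s => ⟨fun hd => hr ?_, hsq s⟩⟩
    have h2 := dvd_sub (dvd_pow hd two_ne_zero) (hsq s)
    rw [sub_sub_cancel] at h2
    exact (Nat.prime_iff_prime_int.1 hp.out).dvd_of_dvd_pow h2
  obtain ⟨u₁, hu₁⟩ := Subgroup.ne_bot_iff_exists_ne_one.1 hP1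
  set r : ℤ := m (Subgroup.zpowers u₁) with hr
  have hpr : ¬ (p : ℤ) ∣ r := hpm u₁ hu₁
  have hzne : ∀ u : P, u ≠ 1 → Subgroup.zpowers u ≠ ⊥ := fun u hu h =>
    hu (Subgroup.zpowers_eq_bot.1 h)
  have hcyc : ∀ u : P, u ≠ 1 → (p : ℤ) ∣ m (Subgroup.zpowers u) ^ 2 - r ^ 2 := by
    intro u hu
    have h1 := ((hloc _ (hzne u hu) (hpm u hu) _ (hpm u hu) (by simp)).2 u₁).2
    have h2 := ((hloc _ (hzne u₁ hu₁) (hpm u₁ hu₁) _ (hpm u₁ hu₁) (by simp)).2 u).2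
    rw [sup_comm] at h2
    have := dvd_sub h2 h1
    rw [sub_sub_sub_cancel_left] at this
    exact this
  have hgood : ∀ Q : Subgroup P, Q ≠ ⊥ → ¬ (p : ℤ) ∣ m Q ∧ (p : ℤ) ∣ m Q ^ 2 - r ^ 2 := by
    intro Q hQ
    obtain ⟨u, hu⟩ := Subgroup.ne_bot_iff_exists_ne_one.1 hQ
    have key : ∀ R : Subgroup P, R ≤ Q → R ≠ ⊥ →
        ¬ (p : ℤ) ∣ m R ∧ (p : ℤ) ∣ m R ^ 2 - r ^ 2 →
        ¬ (p : ℤ) ∣ m Q ∧ (p : ℤ) ∣ m Q ^ 2 - r ^ 2 := by
      intro R
      induction R using WellFoundedGT.induction with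
      | _ R ih =>
        intro hRQ hR0 hR
        rcases eq_or_lt_of_le hRQ with rfl | hlt
        · exact hR
        obtain ⟨s, hs, hsR⟩ := SetLike.exists_of_lt hlt
        refine ih (R ⊔ Subgroup.zpowers s) ?_ (sup_le hRQ (Subgroup.zpowers_le.2 hs))
          (fun h => hR0 (le_bot_iff.1 (h ▸ le_sup_left)))
          ((hloc R hR0 hR.1 r hpr hR.2).2 s)
        exact lt_of_le_of_ne le_sup_left fun h =>
          hsR (h ▸ Subgroup.mem_sup_right (Subgroup.mem_zpowers s))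
    refine key (Subgroup.zpowers (u : P)) (Subgroup.zpowers_le.2 u.2) ?_ ?_
    · exact hzne _ fun h => hu (Subtype.ext h)
    · exact ⟨hpm _ fun h => hu (Subtype.ext h), hcyc _ fun h => hu (Subtype.ext h)⟩
  -- gluing and inverting
  obtain ⟨F, hF, hFu⟩ := exists_glue (fun Q => nrm p r (m Q)) fun Q hQ =>
    (hloc Q hQ (hgood Q hQ).1 r hpr (hgood Q hQ).2).1
  obtain ⟨E, c, hE, hc, hDE⟩ := exists_inverse hn hD0gen hD01 (by exact_mod_cast hpn0)
  have hc0 : (c : ℂ) ≠ 0 := by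
    simp only [ne_eq, Int.cast_eq_zero]
    exact fun h => hc (h ▸ dvd_zero _)
  have hD0ne : ∀ y : P, D0 y ≠ 0 := fun y h => hc0 (by rw [← hDE y, h, zero_mul])
  have hbuex : ∀ y : P, ∃ b, H23.Le p (Subgroup.zpowers (y : G), b) (P, f₀) := fun y =>
    H23.exists_le p hmax.1 (Subgroup.zpowers_le.2 y.2)
  choose bu hbu using hbuex
  refine ⟨χ₀, hχ₀, bu, fun y => F y * E y, c, hbu, hc, fun lam => ?_, fun t y hy => ?_,
    fun y hy => ?_⟩
  · refine IsGen.isGeneralizedCharacter (IsGen.mul ?_ (hF.mul hE))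
    have h1 : IsGen (fun y : P => eta (p := p) (f₀ := f₀) lam y) :=
      isGen_sum univ (fun (x : Cos p P f₀) (y : P) => (lam (cnj x.out y) : ℂ)) fun x _ =>
        isGen_lin (lam.comp (cnj x.out))
    simpa [sub_eq_add_neg] using h1.add (isGen_const (-(Fintype.card (Cos p P f₀) : ℤ)))
  · have hy' : cnj t y ≠ 1 := fun h => hy (by rw [← cnj_cnj_inv t y, h, map_one])
    have hconj : (cnj t y : G) = ((t⁻¹ : H23.stab P f₀) : G) * (y : G) *
        ((t⁻¹ : H23.stab P f₀) : G)⁻¹ := by simp [coe_cnj]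
    have hDeq : D0 (cnj t y) = D0 y := by
      simp only [hD0]
      rw [hconj]
      exact Dg_stab χ₀ (inv_mem t.2) y.2
    have hEeq : E (cnj t y) = E y := by
      apply mul_left_cancel₀ (hD0ne y)
      rw [hDE, ← hDeq, hDE]
    have hle : H23.Le p (Subgroup.zpowers (cnj t y : G),
        H23.cj ((t⁻¹ : H23.stab P f₀) : G) (bu y)) (P, f₀) := by
      have h := (hbu y).cj p ((t⁻¹ : H23.stab P f₀) : G)
      rwa [H23.cjS_zpowers, ← hconj, H23.cjS_eq_self (t⁻¹).2.1, (t⁻¹).2.2] at h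
    have hpc := hδp _ hy' _ hle χ₀ χ₀
    rw [hconj, H23.pairC_cj, hδp y hy _ (hbu y) χ₀ χ₀] at hpc
    set m' := m (Subgroup.zpowers (cnj t y)) with hm'
    set m0 := m (Subgroup.zpowers y) with hm0
    have hsq : (m' : ℂ) * m' = (m0 : ℂ) * m0 := by
      have e1 : D0 (cnj t y) * conj (D0 (cnj t y)) = D0 y * conj (D0 y) := by rw [hDeq]
      rw [hδD _ hy', hδD y hy, map_mul, map_mul, map_intCast, map_intCast] at e1
      have hne : δ y χ₀ * conj (δ y χ₀) ≠ 0 := by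
        refine mul_ne_zero ?_ ((map_ne_zero _).2 ?_) <;>
          exact fun h => hD0ne y (by rw [hδD y hy, h, zero_mul])
      apply mul_left_cancel₀ hne
      linear_combination e1 + ((m' : ℂ) * m') * hpc
    have hsqz : m' * m' = m0 * m0 := by exact_mod_cast hsq
    have hFeq : F (cnj t y) = F y := by
      rw [hFu _ hy', hFu y hy]
      rcases mul_self_eq_mul_self_iff.1 hsqz with h | h
      · show (nrm p r m' : ℂ) = (nrm p r m0 : ℂ)
        rw [h]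
      · show (nrm p r m' : ℂ) = (nrm p r m0 : ℂ)
        rw [h, nrm_neg hpr (hgood _ (hzne y hy)).2]
    show F (cnj t y) * E (cnj t y) = F y * E y
    rw [hFeq, hEeq]
  · set m0 := m (Subgroup.zpowers y) with hm0
    obtain ⟨ε, hε, hεM⟩ : ∃ ε : ℤ, (ε = 1 ∨ ε = -1) ∧ nrm p r m0 = ε * m0 := by
      rcases nrm_eq p r m0 with h | h
      · exact ⟨1, Or.inl rfl, by rw [h, one_mul]⟩
      · exact ⟨-1, Or.inr rfl, by rw [h, neg_one_mul]⟩
    refine ⟨fun ψ => (ε : ℂ) * δ y ψ, fun ψ => ?_, ?_, fun χ ψ => ?_⟩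
    · exact (by simpa using isIntegral_algebraMap (R := ℤ) (A := ℂ) (x := ε) :
        IsIntegral ℤ (ε : ℂ)).mul (hδi y hy ψ)
    · show F y * E y * ((ε : ℂ) * δ y χ₀) = (c : ℂ)
      rw [hFu y hy, show (nrm p r (m (Subgroup.zpowers y)) : ℂ) = (ε : ℂ) * m0 by
        rw [← hm0, hεM, Int.cast_mul]]
      have hee : (ε : ℂ) * ε = 1 := by rcases hε with rfl | rfl <;> simp
      have hde := hDE y
      rw [hδD y hy] at hde
      linear_combination (m0 : ℂ) * E y * δ y χ₀ * hee + hde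
    · rw [hδp y hy _ (hbu y) χ ψ, map_mul, map_intCast]
      have hee : (ε : ℂ) * ε = 1 := by rcases hε with rfl | rfl <;> simp
      linear_combination -(δ y χ * conj (δ y ψ)) * hee

end H20.FAb
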