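import Cfsg.Agent.H20.BasicCorner
import Cfsg.Agent.H23.NilpotentBlocks

/-!
# Values on a section with one Brauer character
-/

set_option autoImplicit false
set_option linter.style.haveILetI false
set_option linter.unusedSectionVars false

open Cfsg Finset
open scoped MonoidAlgebra ComplexConjugate

namespace H20.FAb

universe u

variable {M : Ideal AlgInt} [hMp : M.IsPrime]
variable {H K : Type u} [Group H] [Fintype H] [Group K] [Fintype K]

/-- The map of group algebras over `O`. -/
noncomputable abbrev mO (M : Ideal AlgInt) [M.IsPrime] (ι : K →* H) :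
    MonoidAlgebra (H20.O M) K →ₐ[H20.O M] MonoidAlgebra (H20.O M) H :=
  MonoidAlgebra.mapDomainAlgHom (H20.O M) (H20.O M) ι

/-- The map of group algebras over `k`. -/
noncomputable abbrev mk (M : Ideal AlgInt) [M.IsPrime] (ι : K →* H) :
    MonoidAlgebra (H20.k M) K →ₐ[H20.k M] MonoidAlgebra (H20.k M) H :=
  MonoidAlgebra.mapDomainAlgHom (H20.k M) (H20.k M) ι

theorem rd_mO (ι : K →* H) (L : MonoidAlgebra (H20.O M) K) :
    H20.rd (mO M ι L) = mk M ι (H20.rd L) := by
  induction L using MonoidAlgebra.induction_linear with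
  | zero => simp [H20.rd]
  | add x y hx hy => simp only [H20.rd, map_add] at hx hy ⊢; rw [hx, hy]
  | single x r => simp [H20.rd, MonoidAlgebra.mapDomainAlgHom_apply]

theorem mO_gO (ι : K →* H) (k : K) : mO M ι (H23.gO M k) = H23.gO M (ι k) := by
  simp [MonoidAlgebra.mapDomainAlgHom_apply]

theorem chiLin_gO_mO (ι : K →* H) (Θ : IrrCharacter H) (x : H)
    (L : MonoidAlgebra (H20.O M) K) :
    H23.chiLin Θ (H23.gO M x * mO M ι L) =
      ∑ k : K, (L.coeff k : ℂ) * (Θ : H → ℂ) (x * ι k) := by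
  induction L using MonoidAlgebra.induction_linear with
  | zero => simp [H23.chiLin]
  | add a b ha hb =>
    simp only [map_add, mul_add, H23.chiLin_add, ha, hb, MonoidAlgebra.coeff_add,
      Finsupp.add_apply, AddMemClass.coe_add, add_mul, sum_add_distrib]
  | single k r =>
    rw [sum_eq_single k (fun y _ hy => by simp [Ne.symm hy]) (by simp)]
    rw [show mO M ι (MonoidAlgebra.single k r) = MonoidAlgebra.single (ι k) r by
      simp [MonoidAlgebra.mapDomainAlgHom_apply], MonoidAlgebra.single_mul_single, one_mul,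
      H23.chiLin, sum_eq_single (x * ι k) (fun y _ hy => by simp [Ne.symm hy]) (by simp)]
    simp

variable {p : ℕ} [hp : Fact p.Prime] [CharP (H20.k M) p] [IsAlgClosed (H20.k M)]

/-- On the section of `s` the block `β` of `K` acts through one function `θ`. -/
theorem exists_delta (hM : IsPModular p M) (ι : K →* H) {z : K} (hz : z ∈ Subgroup.center K)
    {s : H} (hs : ι z = s) {β : Set (IrrCharacter K)} (hβ : IsPBlock M β) (θ : IrrCharacter K)
    (hθ : ∀ η ∈ β, ∀ g : K, ¬ p ∣ orderOf g → (η : K → ℂ) g = (θ : K → ℂ) g) :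
    ∃ δ : IrrCharacter H → ℂ, ∀ Θ : IrrCharacter H, IsIntegral ℤ (δ Θ) ∧
      (∀ a : (H20.k M)[K], a * a = a → a * H20.eRed M β = a →
        ∃ n : ℕ, H23.T θ 1 a = n ∧ H23.T Θ s (mk M ι a) = δ Θ * n) ∧
      ∀ c : K, ¬ p ∣ orderOf c →
        H23.T Θ (s * ι c) (mk M ι (H20.eRed M β)) = δ Θ * (θ : K → ℂ) c := by
  classical
  choose n hn using fun (Θ : IrrCharacter H) (η : IrrCharacter K) =>
    H12.IsCharacter.classInner_nat (H12.IsCharacter.comp (H12.isCharacter_irr Θ) ι)
      (H12.isCharacter_irr η)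
  set ω : IrrCharacter K → ℂ := fun η => H19.MajorBound.eps z η with hω
  refine ⟨fun Θ => ∑ η ∈ H22.blockFinset β, (n Θ η : ℂ) * ω η, fun Θ => ?_⟩
  set coe : IrrCharacter K → ℂ := fun η => (n Θ η : ℂ) * ω η with hcoe
  have hshift : ∀ k : K, (Θ : H → ℂ) (s * ι k) = ∑ η : IrrCharacter K, coe η * (η : K → ℂ) k := by
    intro k
    have hcl : IsClassFunction K (fun h : K => (Θ : H → ℂ) (ι h)) := fun a b => by
      simp only [map_mul, map_inv]
      exact H12.irr_isClassFunction Θ (ι a) (ι b)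
    rw [← hs, ← map_mul, show (Θ : H → ℂ) (ι (z * k)) = _ from
      H20.classFunction_eq_sum_apply hcl (z * k)]
    refine sum_congr rfl fun η _ => ?_
    rw [show classInner (fun h : K => (Θ : H → ℂ) (ι h)) (η : K → ℂ) = (n Θ η : ℂ) from hn Θ η,
      show z * k = z ^ 1 * k by rw [pow_one], H19.MajorBound.irr_pow_central hz]
    simp only [hcoe, hω]
    ring
  have hlin : ∀ L : MonoidAlgebra (H20.O M) K, H23.chiLin Θ (H23.gO M s * mO M ι L) =
      ∑ η : IrrCharacter K, coe η * H23.chiLin η L := by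
    intro L
    rw [chiLin_gO_mO]
    simp only [hshift, H23.chiLin, mul_sum]
    rw [sum_comm]
    exact sum_congr rfl fun η _ => sum_congr rfl fun k _ => by ring
  have hcomm : ∀ L : MonoidAlgebra (H20.O M) K, Commute (H23.gO M s) (mO M ι L) := by
    intro L
    rw [← hs, ← mO_gO]
    refine Commute.map ?_ _
    rw [H20.commute_single_iff]
    intro y
    rw [show z * y * z⁻¹ = y by rw [← Subgroup.mem_center_iff.1 hz y, mul_inv_cancel_right]]
  have hωint : ∀ η, IsIntegral ℤ (ω η) := fun η => by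
    refine IsIntegral.of_pow (orderOf_pos z) ?_
    have h1 := H19.MajorBound.irr_pow_central hz η (orderOf z) 1
    rw [pow_orderOf_eq_one, one_mul] at h1
    have h2 : ω η ^ orderOf z = 1 :=
      mul_right_cancel₀ (H12.irr_apply_one_ne_zero η) (by rw [one_mul]; exact h1.symm)
    rw [h2]
    exact isIntegral_one
  refine ⟨IsIntegral.sum _ fun η _ => (isIntegral_algebraMap (x := (n Θ η : ℤ))).mul (hωint η) |> fun h => by
    simpa using h, fun a ha haβ => ?_, fun c hc => ?_⟩
  · obtain ⟨L, hL, hLa, hout⟩ := BasicAlg.exists_lift_block hβ ha haβ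
    obtain ⟨m, hm⟩ := BasicAlg.chiLin_idem_nat θ hL
    refine ⟨m, ?_, ?_⟩
    · rw [H23.T_eq θ hL hLa (by rw [show H23.gO M (1 : K) = 1 from rfl]; exact Commute.one_left L),
        show H23.gO M (1 : K) = 1 from rfl, one_mul, hm]
    · rw [H23.T_eq Θ (e := mO M ι L) (by rw [← map_mul, hL]) (by rw [rd_mO, hLa]) (hcomm L), hlin,
        ← sum_subset (subset_univ (H22.blockFinset β)) (fun η _ hη => by
          rw [hout η (fun h => hη (H22.mem_blockFinset.2 h)), mul_zero]), sum_mul]
      refine sum_congr rfl fun η hη => ?_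
      have := BasicAlg.chiLin_eq_of_regular hM hL (H12.irr_isClassFunction η)
        (H12.irr_isClassFunction θ) (hθ η (H22.mem_blockFinset.1 hη))
      rw [show H23.chiLin η L = _ from this, show ∑ g : K, (L.coeff g : ℂ) * (θ : K → ℂ) g =
        H23.chiLin θ L from rfl, hm]
  · obtain ⟨f, hf, hrd, hcl, hco⟩ := H23.exists_lift_eB (M := M) hβ
    have hcf : Commute (H23.gO M (s * ι c)) (mO M ι f) := by
      rw [← H23.gO_mul]
      exact (hcomm f).mul_left (by rw [← mO_gO]; exact (H23.commute_gO_of_isCl hcl c).map _)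
    rw [H23.T_eq Θ (e := mO M ι f) (by rw [← map_mul, hf]) (by rw [rd_mO, hrd]) hcf,
      ← H23.gO_mul, mul_assoc, ← mO_gO, ← map_mul, hlin, sum_mul]
    rw [← sum_subset (subset_univ (H22.blockFinset β)) (fun η _ hη => by
      rw [H23.chiLin_mul_block η hco, if_neg fun h => hη (H22.mem_blockFinset.2 h), mul_zero])]
    refine sum_congr rfl fun η hη => ?_
    rw [H23.chiLin_mul_block η hco, if_pos (H22.mem_blockFinset.1 hη), H23.chiLin_single,
      hθ η (H22.mem_blockFinset.1 hη) c hc]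

/-- The pairing on the section. -/
theorem pairC_eq_delta (ι : K →* H) (hι : Function.Injective ι) {s : H}
    (hsp : ∃ j : ℕ, orderOf s = p ^ j)
    (hr : ι.range = Subgroup.centralizer (Subgroup.zpowers s : Set H))
    {β : Set (IrrCharacter K)} (θ : IrrCharacter K) (δ : IrrCharacter H → ℂ)
    (hδ : ∀ (Θ : IrrCharacter H) (c : K), ¬ p ∣ orderOf c →
        H23.T Θ (s * ι c) (mk M ι (H20.eRed M β)) = δ Θ * (θ : K → ℂ) c)
    (Θ Ψ : IrrCharacter H) :
    H23.pairC p s (mk M ι (H20.eRed M β)) Θ Ψ = δ Θ * conj (δ Ψ) *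
      ((Nat.card K : ℂ)⁻¹ * ∑ c ∈ univ.filter (fun c : K => ¬ p ∣ orderOf c),
        (θ : K → ℂ) c * conj ((θ : K → ℂ) c)) := by
  classical
  set C := Subgroup.centralizer (Subgroup.zpowers s : Set H) with hC
  haveI := Fintype.ofFinite C
  have hmem : ∀ c : K, ι c ∈ C := fun c => hr ▸ ⟨c, rfl⟩
  have hcard : Nat.card C = Nat.card K := by
    rw [← hr]
    exact Nat.card_congr (MonoidHom.ofInjective hι).symm.toEquiv
  have h1 : H23.pairC p s (mk M ι (H20.eRed M β)) Θ Ψ = (Nat.card C : ℂ)⁻¹ *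
      ∑ g ∈ univ.filter (fun g : H => H20.pPart p g = s),
        H23.T Θ g (mk M ι (H20.eRed M β)) * conj (H23.T Ψ g (mk M ι (H20.eRed M β))) := by
    rw [H23.pairC, sum_filter]
  have h2 : ∑ g ∈ univ.filter (fun g : H => H20.pPart p g = s),
      H23.T Θ g (mk M ι (H20.eRed M β)) * conj (H23.T Ψ g (mk M ι (H20.eRed M β))) =
      ∑ c ∈ univ.filter (fun c : K => ¬ p ∣ orderOf c),
        δ Θ * conj (δ Ψ) * ((θ : K → ℂ) c * conj ((θ : K → ℂ) c)) := by
    rw [H23.sum_section hsp C rfl]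
    symm
    refine sum_bij (fun c _ => (⟨ι c, hmem c⟩ : C)) (fun c hc => ?_)
      (fun a _ b _ h => hι (congrArg Subtype.val h)) (fun d hd => ?_) (fun c hc => ?_)
    · simp only [mem_filter, mem_univ, true_and] at hc ⊢
      rwa [← Subgroup.orderOf_coe, orderOf_injective ι hι]
    · obtain ⟨c, hc⟩ : (d : H) ∈ ι.range := hr.symm.le d.2
      simp only [mem_filter, mem_univ, true_and] at hd
      refine ⟨c, ?_, Subtype.ext hc⟩
      simp only [mem_filter, mem_univ, true_and]
      rwa [← orderOf_injective ι hι c, hc, Subgroup.orderOf_coe]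
    · have hc' := (mem_filter.1 hc).2
      rw [hδ Θ c hc', hδ Ψ c hc', map_mul]
      ring
  rw [h1, h2, hcard, ← mul_sum]
  ring

open scoped Classical in
/-- A nilpotent block with abelian defect group has one Brauer character, of norm `1 / |P|`. -/
theorem exists_theta (hM : IsPModular p M) {β : Set (IrrCharacter K)}
    (hnil : IsNilpotentBlock p M β) {P : Subgroup K} {e : (H20.k M)[K]}
    (hmax : H23.IsMax p (H23.eB M β) P e) (hab : ∀ x ∈ P, ∀ y ∈ P, x * y = y * x) :
    ∃ θ ∈ β, blockHeight p β (θ : K → ℂ) = 0 ∧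
      (∀ η ∈ β, ∀ g : K, ¬ p ∣ orderOf g → (η : K → ℂ) g = (θ : K → ℂ) g) ∧
      (Nat.card P : ℂ) * ((Nat.card K : ℂ)⁻¹ * ∑ c ∈ univ.filter (fun c : K => ¬ p ∣ orderOf c),
        (θ : K → ℂ) c * conj ((θ : K → ℂ) c)) = 1 := by
  classical
  obtain ⟨θ, hθ, h0, ψ, -, hrange, hψ⟩ := H23.exists_nilpotent_data hM hnil hmax
  refine ⟨θ, hθ, h0, fun η hη g hg => ?_, ?_⟩
  · obtain ⟨l, rfl⟩ : η ∈ Set.range ψ := hrange ▸ hη
    have hd : charDegree (l : P → ℂ) = 1 := by
      have h1 := H12.irr_apply_one_of_comm (fun a b : P => Subtype.ext (hab a a.2 b b.2)) l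
      rw [H22.irr_one_eq_charDegree] at h1
      exact_mod_cast h1
    rw [(hψ l).2 g hg, hd, Nat.cast_one, one_mul]
  · have hex : ∀ y : P, ∃ b, H23.Le p (Subgroup.zpowers (y : K), b) (P, e) := fun y =>
      H23.exists_le p hmax.1 (Subgroup.zpowers_le.2 y.2)
    choose bu hbu using hex
    have h := H23.weightC_eq_one hM hnil.1 hmax (H23.innerOnElements_of_nilpotent hnil hmax) hθ h0
      bu hbu 1
    have hbot : Subgroup.zpowers ((1 : P) : K) = ⊥ := by simp
    have hb1 : bu 1 = H23.eB M β := by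
      have hp1 := (hbu 1).pair_left p hmax.1
      have hin := (H23.Le.inBlk_iff p (hbu 1) (H23.cidem_eB hnil.1)).1 hmax.2.1
      rw [hbot] at hp1 hin
      have hb := hp1.2
      rw [H23.centralizer_bot_eq_top] at hb
      refine hb.eq_of_mul_ne_zero (H23.isBlk_eB hnil.1) ?_
      have hin' : bu 1 * H23.Br (⊥ : Subgroup K) (H23.eB M β) = bu 1 := hin
      rw [H23.Br_eq_self (by rw [H23.centralizer_bot_eq_top]; exact H23.supp_top _)] at hin'
      rw [hin']
      exact hb.ne_zero
    rw [hb1, H23.weightC, Subgroup.coe_one] at h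
    have htop : Subgroup.centralizer (Subgroup.zpowers (1 : K) : Set K) = ⊤ := by
      rw [Subgroup.zpowers_one_eq_bot, H23.centralizer_bot_eq_top]
    rw [htop, inf_top_eq] at h
    rw [← h, H23.pairC, htop, Nat.card_congr (Subgroup.topEquiv (G := K)).toEquiv]
    congr 2
    rw [sum_filter]
    refine sum_congr rfl fun c _ => ?_
    by_cases hc : p ∣ orderOf c
    · rw [if_neg (not_not.2 hc), if_neg (fun h => H20.pPart_eq_one_iff.1 h hc)]
    · rw [if_pos hc, if_pos (H20.pPart_eq_one_iff.2 hc), H23.T_one_eq_eB hnil.1, if_pos hθ]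

end H20.FAb
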