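import Cfsg.Agent.H20.FreeAbelian.GenChar

/-!
# Sign normalisation of integer valued generalized characters of an abelian `p`-group
-/

set_option autoImplicit false
set_option linter.style.haveILetI false
set_option linter.unusedSectionVars false

open Cfsg Finset
open scoped ComplexConjugate

namespace H20.FAb

universe u

variable {A : Type u} [CommGroup A] [Fintype A] [Fintype (A →* ℂˣ)]

theorem apply_pow_coprime {f : A → ℂ} (hf : IsGen f) {a : A} {z : ℤ} (hz : f a = z) {b : ℕ}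
    (hb : b.Coprime (Nat.card A)) : f (a ^ b) = z := by
  classical
  obtain ⟨c, hc⟩ := hf
  have hN : Nat.card A ≠ 0 := (Nat.card_pos (α := A)).ne'
  haveI : NeZero (Nat.card A) := ⟨hN⟩
  have hζ := Complex.isPrimitiveRoot_exp (Nat.card A) hN
  set ζ : ℂ := Complex.exp (2 * Real.pi * Complex.I / (Nat.card A : ℂ)) with hζd
  choose k hk hke using fun ψ : A →* ℂˣ => hζ.eq_pow_of_pow_eq_one (lin_pow_card ψ a)
  let Q : Polynomial ℤ := ∑ ψ : A →* ℂˣ, Polynomial.C (c ψ) * Polynomial.X ^ k ψ - Polynomial.C z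
  have hev : ∀ x : ℂ, Polynomial.aeval x Q = ∑ ψ : A →* ℂˣ, (c ψ : ℂ) * x ^ k ψ - (z : ℂ) :=
    fun x => by simp [Q]
  have h0 : Polynomial.aeval ζ Q = 0 := by
    rw [hev, ← hz, hc, sub_eq_zero]
    exact sum_congr rfl fun ψ _ => by rw [hke]
  have hd := minpoly.isIntegrallyClosed_dvd (hζ.isIntegral (Nat.pos_of_ne_zero hN)) h0
  rw [hζ.minpoly_eq_pow_coprime hb] at hd
  have h1 : Polynomial.aeval (ζ ^ b) Q = 0 := by
    obtain ⟨R, hR⟩ := hd
    rw [hR, map_mul, minpoly.aeval, zero_mul]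
  rw [hev, sub_eq_zero] at h1
  rw [← h1, hc]
  exact sum_congr rfl fun ψ _ => by
    rw [← pow_mul, mul_comm b, pow_mul, hke, map_pow, Units.val_pow_eq_pow_val]

/-- The coefficients of an integer valued generalized character are Galois invariant. -/
theorem coef_pow_coprime {f : A → ℂ} {c : (A →* ℂˣ) → ℤ}
    (hc : ∀ a, f a = ∑ ψ, (c ψ : ℂ) * (ψ a : ℂ)) (hint : ∀ a, ∃ z : ℤ, f a = z) {b : ℕ}
    (hb : b.Coprime (Nat.card A)) (ψ : A →* ℂˣ) : c (ψ ^ b) = c ψ := by
  classical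
  have h : ∑ a, f a * conj ((ψ ^ b) a : ℂ) = ∑ a, f a * conj (ψ a : ℂ) := by
    refine Fintype.sum_equiv (powCoprime hb.symm) _ _ fun a => ?_
    obtain ⟨z, hz⟩ := hint a
    rw [MonoidHom.pow_apply, hz]
    show _ = f (a ^ b) * conj (ψ (a ^ b) : ℂ)
    rw [apply_pow_coprime ⟨c, hc⟩ hz hb, map_pow]
  rw [coef_eq hc, coef_eq hc] at h
  exact_mod_cast mul_left_cancel₀ (Nat.cast_ne_zero.2 (Nat.card_pos (α := A)).ne') h

section Two

variable {n : ℕ} (hA : Nat.card A = 2 ^ n)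

private theorem four_cases {z : ℂ} (h : z ^ 4 = 1) :
    z = 1 ∨ z = -1 ∨ z = Complex.I ∨ z = -Complex.I := by
  have hI := Complex.I_sq
  have : (z - 1) * ((z + 1) * ((z - Complex.I) * (z + Complex.I))) = 0 := by
    linear_combination h - (z ^ 2 - 1) * hI
  simp only [mul_eq_zero, sub_eq_zero, add_eq_zero_iff_eq_neg] at this
  exact this

private theorem sum_odd_pow {z : ℂ} (h : ℕ) (hz : z ^ (2 * h) = 1) :
    ∑ k ∈ range h, z ^ (2 * k + 1) = if z ^ 2 = 1 then (h : ℂ) * z else 0 := by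
  have e : ∀ k, z ^ (2 * k + 1) = (z ^ 2) ^ k * z := fun k => by rw [pow_succ, pow_mul]
  simp only [e, ← sum_mul]
  split_ifs with h2
  · simp [h2]
  · rw [geom_sum_eq h2, ← pow_mul, hz, sub_self, zero_div, zero_mul]

include hA in
/-- Sum over the generators of a cyclic group of characters. -/
theorem four_dvd_orbit (ψ : A →* ℂˣ) (s t : A) [DecidableEq (A →* ℂˣ)]
    (S : Finset (A →* ℂˣ))
    (hS : ∀ φ, φ ∈ S ↔ Subgroup.zpowers φ = Subgroup.zpowers ψ) :
    ∃ z : ℤ, ∑ φ ∈ S, (1 + (φ s : ℂ)) * (1 + (φ t : ℂ)) = 4 * (z : ℂ) := by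
  have hord : orderOf ψ ∣ 2 ^ n := orderOf_dvd_of_pow_eq_one (lin_pow_eq_one (p := 2) hA ψ)
  obtain ⟨j, hj, hoj⟩ := (Nat.dvd_prime_pow Nat.prime_two).1 hord
  have hfin : IsOfFinOrder ψ := orderOf_pos_iff.1 (hoj ▸ pow_pos two_pos j)
  rcases j with _ | j
  · have h1 : ψ = 1 := orderOf_eq_one_iff.1 (hoj.trans (pow_zero 2))
    have hS1 : S = {1} := by
      ext φ
      rw [hS, mem_singleton, h1, Subgroup.zpowers_one_eq_bot, Subgroup.zpowers_eq_bot]
    refine ⟨1, ?_⟩
    rw [hS1, sum_singleton]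
    norm_num
  have hS' : S = (range (2 ^ j)).image fun k => ψ ^ (2 * k + 1) := by
    ext φ
    rw [hS, mem_image]
    constructor
    · intro h
      have hmem : φ ∈ Subgroup.zpowers ψ := h ▸ Subgroup.mem_zpowers φ
      rw [← hfin.mem_powers_iff_mem_zpowers] at hmem
      obtain ⟨i, hi⟩ := Submonoid.mem_powers_iff _ _ |>.1 hmem
      have ho : orderOf φ = orderOf ψ := by rw [← Nat.card_zpowers, h, Nat.card_zpowers]
      have hm : φ = ψ ^ (i % 2 ^ (j + 1)) := by rw [← hoj, pow_mod_orderOf, hi]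
      set i' := i % 2 ^ (j + 1) with hi'
      have hodd : i' % 2 = 1 := by
        rcases Nat.mod_two_eq_zero_or_one i' with h0 | h1
        · exfalso
          obtain ⟨q, hq⟩ := Nat.dvd_of_mod_eq_zero h0
          have : φ ^ 2 ^ j = 1 := by
            rw [hm, hq]
            exact (pow_mul ψ _ _).symm.trans (orderOf_dvd_iff_pow_eq_one.1
              ⟨q, by rw [hoj, pow_succ]; ring⟩)
          have := Nat.le_of_dvd (by positivity) (orderOf_dvd_of_pow_eq_one this)
          rw [ho, hoj, pow_succ] at this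
          have := Nat.two_pow_pos j
          omega
        · exact h1
      have hlt : i' < 2 ^ (j + 1) := Nat.mod_lt _ (by positivity)
      refine ⟨i' / 2, mem_range.2 (by rw [pow_succ] at hlt; omega), ?_⟩
      rw [show 2 * (i' / 2) + 1 = i' by omega, hm]
    · rintro ⟨k, -, rfl⟩
      have hle : Subgroup.zpowers (ψ ^ (2 * k + 1)) ≤ Subgroup.zpowers ψ :=
        Subgroup.zpowers_le.2 (Subgroup.npow_mem_zpowers ψ _)
      haveI : Finite (Subgroup.zpowers ψ) := hfin.finite_zpowers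
      refine Subgroup.eq_of_le_of_card_ge hle ?_
      rw [Nat.card_zpowers, Nat.card_zpowers, Nat.Coprime.orderOf_pow]
      rw [hoj]
      exact Nat.Coprime.pow_left _ (Nat.prime_two.coprime_iff_not_dvd.2 (by omega))
  rw [hS', sum_image]
  swap
  · intro a ha b hb hab
    simp only [coe_range, Set.mem_Iio] at ha hb
    have := pow_injOn_Iio_orderOf (x := ψ) (show 2 * a + 1 < orderOf ψ by rw [hoj, pow_succ]; omega)
      (show 2 * b + 1 < orderOf ψ by rw [hoj, pow_succ]; omega) hab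
    omega
  simp only [MonoidHom.pow_apply, Units.val_pow_eq_pow_val]
  have hpow : ∀ x : A, (ψ x : ℂ) ^ (2 * 2 ^ j) = 1 := fun x => by
    rw [← pow_succ', ← hoj, ← Units.val_pow_eq_pow_val, ← MonoidHom.pow_apply, pow_orderOf_eq_one,
      MonoidHom.one_apply, Units.val_one]
  set a := (ψ s : ℂ) with ha
  set b := (ψ t : ℂ) with hb
  have hab : (a * b) ^ (2 * 2 ^ j) = 1 := by rw [mul_pow, ha, hb, hpow, hpow, one_mul]
  have hsplit : ∑ k ∈ range (2 ^ j), (1 + a ^ (2 * k + 1)) * (1 + b ^ (2 * k + 1)) =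
      (2 ^ j : ℕ) + ∑ k ∈ range (2 ^ j), a ^ (2 * k + 1) + ∑ k ∈ range (2 ^ j), b ^ (2 * k + 1) +
        ∑ k ∈ range (2 ^ j), (a * b) ^ (2 * k + 1) := by
    simp only [add_mul, mul_add, one_mul, mul_one, mul_pow, sum_add_distrib, sum_const, card_range,
      nsmul_eq_mul]
    ring
  rcases j with _ | _ | j
  · have h2 : ∀ z : ℂ, z ^ (2 * 2 ^ 0) = 1 → z = 1 ∨ z = -1 := fun z hz => by
      simpa using hz
    simp only [pow_zero, range_one, sum_singleton, mul_zero, zero_add, pow_one]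
    rcases h2 a (hpow s) with h | h <;> rcases h2 b (hpow t) with h' | h' <;> rw [h, h']
    · exact ⟨1, by norm_num⟩
    all_goals exact ⟨0, by norm_num⟩
  · have ha4 := four_cases (show a ^ 4 = 1 by simpa using hpow s)
    have hb4 := four_cases (show b ^ 4 = 1 by simpa using hpow t)
    simp only [zero_add, pow_one, sum_range_succ, range_zero, sum_empty, mul_zero, Nat.mul_one]
    rcases ha4 with h | h | h | h <;> rcases hb4 with h' | h' | h' | h' <;> rw [h, h'] <;>
      first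
        | (refine ⟨0, ?_⟩; norm_num [pow_succ, Complex.ext_iff]; done)
        | (refine ⟨1, ?_⟩; norm_num [pow_succ, Complex.ext_iff]; done)
        | (refine ⟨2, ?_⟩; norm_num [pow_succ, Complex.ext_iff])
  · have key : ∀ z : ℂ, z ^ (2 * 2 ^ (j + 2)) = 1 →
        ∃ w : ℤ, ∑ k ∈ range (2 ^ (j + 2)), z ^ (2 * k + 1) = 4 * (w : ℂ) := by
      intro z hz
      rw [sum_odd_pow _ hz]
      split_ifs with h2
      · have : z = 1 ∨ z = -1 := by
          have : (z - 1) * (z + 1) = 0 := by linear_combination h2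
          simpa [sub_eq_zero, add_eq_zero_iff_eq_neg] using this
        rcases this with rfl | rfl
        · exact ⟨2 ^ j, by push_cast; ring⟩
        · exact ⟨-(2 ^ j), by push_cast; ring⟩
      · exact ⟨0, by simp⟩
    obtain ⟨u, hu⟩ := key a (hpow s)
    obtain ⟨v, hv⟩ := key b (hpow t)
    obtain ⟨w, hw⟩ := key (a * b) hab
    refine ⟨2 ^ j + u + v + w, ?_⟩
    rw [hsplit, hu, hv, hw]
    push_cast
    ring

include hA in
theorem four_dvd_square {f : A → ℂ} (hf : IsGen f) {z : A → ℤ} (hz : ∀ a, f a = z a) (s t : A) :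
    (4 : ℤ) ∣ z 1 + z s + z t + z (s * t) := by
  classical
  obtain ⟨c, hc⟩ := id hf
  have hS : ((z 1 + z s + z t + z (s * t) : ℤ) : ℂ) =
      ∑ ψ : A →* ℂˣ, (c ψ : ℂ) * ((1 + (ψ s : ℂ)) * (1 + (ψ t : ℂ))) := by
    push_cast
    rw [← hz, ← hz, ← hz, ← hz, hc, hc, hc, hc, ← sum_add_distrib, ← sum_add_distrib,
      ← sum_add_distrib]
    refine sum_congr rfl fun ψ _ => ?_
    simp only [map_one, Units.val_one, map_mul, Units.val_mul]
    ring
  rw [← sum_fiberwise univ (fun ψ : A →* ℂˣ => Subgroup.zpowers ψ)] at hS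
  have key : ∀ C : Subgroup (A →* ℂˣ), ∃ w : ℤ,
      ∑ φ ∈ univ.filter (fun φ : A →* ℂˣ => Subgroup.zpowers φ = C),
        (c φ : ℂ) * ((1 + (φ s : ℂ)) * (1 + (φ t : ℂ))) = 4 * (w : ℂ) := by
    intro C
    by_cases h : ∃ ψ : A →* ℂˣ, Subgroup.zpowers ψ = C
    · obtain ⟨ψ, rfl⟩ := h
      obtain ⟨w, hw⟩ := four_dvd_orbit hA ψ s t
        (univ.filter (fun φ : A →* ℂˣ => Subgroup.zpowers φ = Subgroup.zpowers ψ))
        (fun φ => by simp)
      refine ⟨c ψ * w, ?_⟩
      rw [sum_congr rfl (g := fun φ : A →* ℂˣ => (c ψ : ℂ) * ((1 + (φ s : ℂ)) * (1 + (φ t : ℂ))))]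
      · rw [← mul_sum, hw]
        push_cast
        ring
      intro φ hφ
      rw [mem_filter] at hφ
      have hfin : IsOfFinOrder ψ := isOfFinOrder_iff_pow_eq_one.2
        ⟨_, pow_pos two_pos n, lin_pow_eq_one (p := 2) hA ψ⟩
      have hmem : φ ∈ Subgroup.zpowers ψ := hφ.2 ▸ Subgroup.mem_zpowers φ
      rw [← hfin.mem_powers_iff_mem_zpowers] at hmem
      obtain ⟨i, rfl⟩ := Submonoid.mem_powers_iff _ _ |>.1 hmem
      rcases Nat.even_or_odd i with hi | hi
      · have ho : orderOf (ψ ^ i) = orderOf ψ := by rw [← Nat.card_zpowers, hφ.2, Nat.card_zpowers]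
        rw [hfin.orderOf_pow] at ho
        have hp2 := (Nat.dvd_prime_pow Nat.prime_two).1
          (orderOf_dvd_of_pow_eq_one (x := ψ) (n := 2 ^ n) (lin_pow_eq_one (p := 2) hA ψ))
        obtain ⟨j, -, hj⟩ := hp2
        rcases j with _ | j
        · have h1 : ψ = 1 := orderOf_eq_one_iff.1 (hj.trans (pow_zero 2))
          subst h1
          rw [show (1 : A →* ℂˣ) ^ i = 1 from MonoidHom.ext fun x => by simp]
        · exfalso
          have hg : 2 ∣ Nat.gcd (orderOf ψ) i :=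
            Nat.dvd_gcd (hj ▸ dvd_pow_self 2 (Nat.succ_ne_zero j)) hi.two_dvd
          have hd : orderOf ψ ≤ orderOf ψ / 2 := by
            calc orderOf ψ = orderOf ψ / Nat.gcd (orderOf ψ) i := ho.symm
              _ ≤ orderOf ψ / 2 := Nat.div_le_div_left
                (Nat.le_of_dvd (Nat.gcd_pos_of_pos_left _ hfin.orderOf_pos) hg) two_pos
          have := hfin.orderOf_pos
          omega
      · rw [coef_pow_coprime hc (fun a => ⟨z a, hz a⟩) (b := i)
          (hA ▸ (Nat.Coprime.pow_right n (Nat.coprime_two_right.2 hi))) ψ]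
    · refine ⟨0, ?_⟩
      rw [sum_eq_zero]
      · simp
      intro φ hφ
      exact absurd ⟨φ, (mem_filter.1 hφ).2⟩ h
  choose w hw using key
  simp only [hw, ← mul_sum, ← Int.cast_sum] at hS
  exact ⟨_, by exact_mod_cast hS⟩

end Two

/-- An integer normalised by a residue. -/
def nrm (p : ℕ) (r z : ℤ) : ℤ :=
  if (if p = 2 then (4 : ℤ) ∣ z - 1 else (p : ℤ) ∣ z - r) then z else -z

theorem nrm_eq (p : ℕ) (r z : ℤ) : nrm p r z = z ∨ nrm p r z = -z := by
  unfold nrm; split_ifs <;> simp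

theorem nrm_neg {p : ℕ} [hp : Fact p.Prime] {r z : ℤ} (hr : ¬ (p : ℤ) ∣ r)
    (hz : (p : ℤ) ∣ z ^ 2 - r ^ 2) : nrm p r (-z) = nrm p r z := by
  have hp' : Prime (p : ℤ) := Nat.prime_iff_prime_int.1 hp.out
  unfold nrm
  by_cases h2 : p = 2
  · simp only [h2, if_true]
    subst h2
    have hzo : ¬ (2 : ℤ) ∣ z := fun h => hr (by
      refine hp'.dvd_of_dvd_pow (n := 2) ?_
      have h2z : (2 : ℤ) ∣ z ^ 2 := dvd_pow h two_ne_zero
      have := dvd_sub h2z hz
      simpa using this)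
    split_ifs with a b b <;> omega
  · simp only [h2, if_false]
    have h2' : ¬ (p : ℤ) ∣ 2 := fun h => h2 ((Nat.prime_dvd_prime_iff_eq hp.out Nat.prime_two).1
      (by exact_mod_cast h))
    have hsum : ¬ ((p : ℤ) ∣ z - r ∧ (p : ℤ) ∣ -z - r) := fun ⟨a, b⟩ => by
      have := dvd_add a b
      rw [show z - r + (-z - r) = -(2 * r) by ring, dvd_neg] at this
      exact (hp'.dvd_or_dvd this).elim h2' hr
    have hor : (p : ℤ) ∣ z - r ∨ (p : ℤ) ∣ -z - r := by
      rw [show z ^ 2 - r ^ 2 = (z - r) * (z + r) by ring] at hz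
      rcases hp'.dvd_or_dvd hz with h | h
      · exact Or.inl h
      · exact Or.inr (by rw [show -z - r = -(z + r) by ring, dvd_neg]; exact h)
    split_ifs with a b b
    · exact absurd ⟨b, a⟩ hsum
    · rfl
    · exact neg_neg z
    · exact (hor.elim b a).elim

section Normal

variable {p : ℕ} [hp : Fact p.Prime] {n : ℕ} (hA : Nat.card A = p ^ n)

include hA in
theorem dvd_sub_one_value {M : Ideal AlgInt} [M.IsPrime] (hM : IsPModular p M) {f : A → ℂ}
    (hf : IsGen f) {a : A} {z w : ℤ} (ha : f a = z) (h1 : f 1 = w) : (p : ℤ) ∣ z - w := by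
  have h := memIdeal_sub_apply hA hM hf a
  rw [ha, h1, ← Int.cast_sub] at h
  exact (H20.intCast_memIdeal_iff hM _).1 h

include hA in
/-- After a linear twist and a sign the values are the normalised integers. -/
theorem exists_normalised {M : Ideal AlgInt} [M.IsPrime] (hM : IsPModular p M) {f : A → ℂ}
    (hf : IsGen f) {m : ℤ} (h1 : f 1 = m) (hm : ¬ (p : ℤ) ∣ m) {r : ℤ} (hr : ¬ (p : ℤ) ∣ r)
    (hmr : (p : ℤ) ∣ m ^ 2 - r ^ 2) (z : A → ℤ)
    (hval : ∀ a, ∃ δ : ℂ, IsIntegral ℤ δ ∧ δ * conj δ = 1 ∧ f a = δ * (z a : ℂ))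
    (hz : ∀ a, z a ≠ 0) :
    IsGen (fun a => (nrm p r (z a) : ℂ)) ∧ ∀ a, (p : ℤ) ∣ z a ^ 2 - r ^ 2 := by
  classical
  have hval' : ∀ a, ∃ (δ : ℂ) (w : ℤ), IsIntegral ℤ δ ∧ δ * conj δ = 1 ∧ w ≠ 0 ∧ f a = δ * w :=
    fun a => (hval a).imp fun δ h => ⟨z a, h.1, h.2.1, hz a, h.2.2⟩
  obtain ⟨ψ0, hψ0⟩ := exists_twist hA hf h1 hm hval'
  have hD : ∀ a, ∃ w : ℤ, (ψ0 a : ℂ) * f a = w ∧ (w = z a ∨ w = -z a) := fun a => by
    obtain ⟨δ, -, h2, h3⟩ := hval a
    rcases hψ0 a δ (z a) h2 h3 with h | h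
    · exact ⟨z a, h, Or.inl rfl⟩
    · exact ⟨-z a, by rw [h, Int.cast_neg], Or.inr rfl⟩
  choose w hw hwz using hD
  set g : A → ℂ := fun a => (ψ0 a : ℂ) * f a with hg
  have hgen : IsGen g := (isGen_lin ψ0).mul hf
  have hw1 : w 1 = m := by
    have := hw 1
    rw [map_one, Units.val_one, one_mul, h1] at this
    exact_mod_cast this.symm
  have hcong : ∀ a, (p : ℤ) ∣ w a - m := fun a =>
    dvd_sub_one_value hA hM hgen (hw a) (show g 1 = (m : ℂ) by rw [← hw1]; exact hw 1)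
  have hsq : ∀ a, (p : ℤ) ∣ z a ^ 2 - r ^ 2 := fun a => by
    have h : z a ^ 2 = w a ^ 2 := by rcases hwz a with e | e <;> rw [e] <;> ring
    rw [h, show w a ^ 2 - r ^ 2 = (w a - m) * (w a + m) + (m ^ 2 - r ^ 2) by ring]
    exact dvd_add (Dvd.dvd.mul_right (hcong a) _) hmr
  refine ⟨?_, hsq⟩
  have hnz : ∀ a, nrm p r (z a) = nrm p r (w a) := fun a => by
    rcases hwz a with e | e <;> rw [e]
    exact (nrm_neg hr (hsq a)).symm
  simp only [hnz]
  by_cases h2 : p = 2
  · subst h2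
    have hodd : ∀ a, ¬ (2 : ℤ) ∣ w a := fun a h => hm (by
      have := dvd_sub h (hcong a)
      simpa using this)
    have key := fun s t => four_dvd_square (n := n) hA hgen (z := w) hw s t
    let σ : A → ℂˣ := fun a => if (4 : ℤ) ∣ w a - w 1 then 1 else -1
    have hσmul : ∀ a b, σ (a * b) = σ a * σ b := by
      intro a b
      have h0 := hodd 1; have ha := hodd a; have hb := hodd b; have hab := hodd (a * b)
      have := key a b
      simp only [σ]
      split_ifs <;> first | (exfalso; omega) | simp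
    let σh : A →* ℂˣ := MonoidHom.mk' σ hσmul
    obtain ⟨ε, hε, hεd⟩ : ∃ ε : ℤ, (ε = 1 ∨ ε = -1) ∧ (4 : ℤ) ∣ ε * w 1 - 1 := by
      have := hodd 1
      by_cases h : (4 : ℤ) ∣ w 1 - 1
      · exact ⟨1, Or.inl rfl, by omega⟩
      · exact ⟨-1, Or.inr rfl, by omega⟩
    have : (fun a => (nrm 2 r (w a) : ℂ)) = fun a => (ε : ℂ) * ((σh a : ℂ) * g a) := by
      funext a
      have := hodd a
      have := hodd 1
      simp only [hg, hw, σh, MonoidHom.mk'_apply, σ, nrm, if_true]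
      rcases hε with rfl | rfl <;>
      · split_ifs <;>
          simp only [Units.val_one, Units.val_neg, Int.cast_one, Int.cast_neg, one_mul, neg_mul,
            neg_neg, mul_neg] <;>
          exfalso <;> omega
    rw [this]
    exact (((isGen_lin σh).mul hgen)).zsmul ε
  · have hp' : Prime (p : ℤ) := Nat.prime_iff_prime_int.1 hp.out
    have h2' : ¬ (p : ℤ) ∣ 2 := fun h => h2 ((Nat.prime_dvd_prime_iff_eq hp.out Nat.prime_two).1
      (by exact_mod_cast h))
    have hfac : (p : ℤ) ∣ m - r ∨ (p : ℤ) ∣ m + r :=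
      hp'.dvd_or_dvd (by rw [show (m - r) * (m + r) = m ^ 2 - r ^ 2 by ring]; exact hmr)
    obtain ⟨ε, hεd⟩ : ∃ ε : ℤ, ∀ a, nrm p r (w a) = ε * w a := by
      rcases hfac with h | h
      · refine ⟨1, fun a => ?_⟩
        have : (p : ℤ) ∣ w a - r := by
          rw [show w a - r = (w a - m) + (m - r) by ring]; exact dvd_add (hcong a) h
        simp [nrm, h2, this]
      · refine ⟨-1, fun a => ?_⟩
        have hn : ¬ (p : ℤ) ∣ w a - r := fun e => by
          have := dvd_sub (dvd_add (hcong a) h) e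
          rw [show w a - m + (m + r) - (w a - r) = 2 * r by ring] at this
          exact (hp'.dvd_or_dvd this).elim h2' hr
        simp [nrm, h2, hn]
    have : (fun a => (nrm p r (w a) : ℂ)) = fun a => (ε : ℂ) * g a := by
      funext a
      rw [hεd, Int.cast_mul, hg]
      exact congrArg _ (hw a).symm
    rw [this]
    exact hgen.zsmul ε

end Normal

end H20.FAb
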