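import Cfsg.Agent.H20.FreeAbelian.Local
import Cfsg.Agent.H22.HeightZero
import Cfsg.Agent.H23.Points
import Cfsg.Agent.H23.RelTr

/-!
# A source idempotent and the characters of the defect group it gives
-/

set_option autoImplicit false
set_option linter.style.haveILetI false
set_option linter.unusedSectionVars false
set_option linter.deprecated false

open Cfsg Finset
open scoped MonoidAlgebra ComplexConjugate

namespace H20.FAb

universe u

variable {M : Ideal AlgInt} [hMp : M.IsPrime] {G : Type u} [Group G] [Fintype G]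
variable {p : ℕ} [hp : Fact p.Prime] [CharP (H20.k M) p] [IsAlgClosed (H20.k M)]

local notation "kG" => MonoidAlgebra (H20.k M) G

theorem Br_sup (A C : Subgroup G) (a : kG) :
    H23.Br A (H23.Br C a) = H23.Br (C ⊔ A) a := by
  ext x
  by_cases hA : x ∈ Subgroup.centralizer (A : Set G)
  · rw [H23.coeff_Br_of_mem _ hA]
    by_cases hC : x ∈ Subgroup.centralizer (C : Set G)
    · rw [H23.coeff_Br_of_mem _ hC, H23.coeff_Br_of_mem]
      rw [Subgroup.mem_centralizer_iff]
      intro y hy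
      have h1 : C ⊔ A ≤ Subgroup.centralizer ({x} : Set G) := by
        refine sup_le (fun q hq => ?_) fun q hq => ?_ <;>
          rw [Subgroup.mem_centralizer_singleton_iff]
        · exact Subgroup.mem_centralizer_iff.1 hC q hq
        · exact Subgroup.mem_centralizer_iff.1 hA q hq
      exact Subgroup.mem_centralizer_singleton_iff.1 (h1 hy)
    · rw [H23.coeff_Br_of_notMem _ hC,
        H23.coeff_Br_of_notMem _ fun h => hC (H23.centralizer_anti le_sup_left h)]
  · rw [H23.coeff_Br_of_notMem _ hA,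
      H23.coeff_Br_of_notMem _ fun h => hA (H23.centralizer_anti le_sup_right h)]

theorem exists_lift_sub {E : Subgroup G} {a : kG} (ha : a * a = a) (hfix : H23.IsFix E a) :
    ∃ e : MonoidAlgebra (H20.O M) G, e * e = e ∧ H20.rd e = a ∧
      ∀ y ∈ E, Commute (H23.gO M y) e := by
  set a' : MonoidAlgebra (H20.O M) G :=
    H20.ofFun fun x => Function.surjInv H20.red_surjective (a.coeff x) with ha'
  have hrd : H20.rd a' = a := by
    ext x
    simp [a', Function.surjInv_eq H20.red_surjective]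
  obtain ⟨e, he, her, -, -, hz⟩ := H23.exists_idem_lift a' (by rw [hrd, ha])
  refine ⟨e, he, her.trans hrd, fun y hy => hz _ ?_⟩
  rw [H20.commute_single_iff]
  intro x
  simp only [a', H20.coeff_ofFun, hfix y hy x]

theorem isCharacter_T (χ : IrrCharacter G) (E : Subgroup G) {a : kG} (ha : a * a = a)
    (hfix : H23.IsFix E a) : IsCharacter E (fun y : E => H23.T χ (y : G) a) := by
  obtain ⟨e, he, her, hc⟩ := exists_lift_sub ha hfix
  convert H23.isCharacter_chiLin χ E he hc using 1
  funext y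
  exact H23.T_eq χ he her (hc y y.2)

theorem redC_T_one (χ : IrrCharacter G) {a : kG} (ha : a * a = a) :
    ∃ n : ℕ, H23.T χ 1 a = n ∧ (n : H20.k M) = H22.HZ.tau χ a := by
  obtain ⟨e, he, her, hc⟩ := exists_lift_sub (E := (⊥ : Subgroup G)) ha
    (fun x hx g => by rw [Subgroup.mem_bot.1 hx]; simp)
  obtain ⟨n, hn⟩ := BasicAlg.chiLin_idem_nat χ he
  have hT : H23.T χ 1 a = H23.chiLin χ e := by
    rw [H23.T_eq χ he her (hc 1 (Subgroup.one_mem _)), show H23.gO M (1 : G) = 1 from rfl, one_mul]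
  refine ⟨n, hT.trans hn, ?_⟩
  rw [H22.HZ.tau, ← H20.redC_natCast (M := M) n, ← hn, H23.chiLin, H20.redC_sum univ (fun g : G => (e.coeff g : ℂ) * (χ : G → ℂ) g) fun g _ =>
    H20.memRing_mul (e.coeff g).2 (H20.memRing_irr χ g)]
  refine sum_congr rfl fun g _ => ?_
  rw [H20.redC_mul (e.coeff g).2 (H20.memRing_irr χ g), H20.redC_coe, ← her, H20.coeff_rd]

variable {B : Set (IrrCharacter G)} {P : Subgroup G} {f₀ : (H20.k M)[G]}

/-- The Brauer images of `q` lie in the pairs below `(P, f₀)`. -/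
def Coh (p : ℕ) [Fact p.Prime] [CharP (H20.k M) p] (P : Subgroup G)
    (f₀ q : (H20.k M)[G]) : Prop :=
  ∀ (R : Subgroup G) (b : (H20.k M)[G]), H23.Le p (R, b) (P, f₀) →
    H23.Br R q * b = H23.Br R q

theorem coh_cj {q : kG} (hq : Coh p P f₀ q) {x : G} (hx : x ∈ H23.stab P f₀) :
    Coh p P f₀ (H23.cj x q) := by
  intro R b hb
  have h := hb.cj p x⁻¹
  rw [H23.cjS_eq_self (inv_mem hx).1, (inv_mem hx).2] at h
  have h' := congrArg (H23.cj x) (hq _ _ h)
  rwa [map_mul, H23.Br_cj, H23.cjS_cjS, mul_inv_cancel, H23.cjS_one, H23.cj_cancel_inv] at h'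

theorem isFix_cj_stab {q : kG} (hq : H23.IsFix P q) {x : G}
    (hx : x ∈ Subgroup.normalizer (P : Set G)) : H23.IsFix P (H23.cj x q) := by
  have h := hq.cj x
  rwa [show Subgroup.map _ P = P from H23.cjS_eq_self hx] at h

theorem exists_source (hM : IsPModular p M) (hB : IsPBlock M B)
    (hmax : H23.IsMax p (H23.eB M B) P f₀) {χ₀ : IrrCharacter G} (hχ : χ₀ ∈ B)
    (h0 : blockHeight p B (χ₀ : G → ℂ) = 0) :
    ∃ q : kG, q * q = q ∧ H23.IsFix P q ∧ q * H23.eB M B = q ∧ Coh p P f₀ q ∧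
      H22.HZ.tau χ₀ (H23.Br P q) ≠ 0 := by
  classical
  have hPD : IsDefectGroup p M B P := H23.isDefectGroup_of_isMax hB hmax
  have hPp : IsPGroup p P := hmax.1.1
  set E := H23.eB M B with hE
  obtain ⟨y, hy, hS⟩ := id hPD
  have hyC : y ∈ Subgroup.centralizer (P : Set G) := H20.IsSylC.mem_centralizer hS
  have hreg : ¬ p ∣ orderOf y :=
    H20.regular_of_coeff_ne_zero hM hB ((H20.isDefectClass_iff hB y).1 hy).1
  have hcE := H23.cidem_eB (M := M) hB
  have hEP : H23.IsFix P E := hcE.fix.mono le_top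
  set ys : kG := MonoidAlgebra.single y 1 with hys
  have hysupp : H23.Supp (Subgroup.centralizer (P : Set G)) ys := by
    intro g hg
    rw [hys, MonoidAlgebra.coeff_single, Finsupp.single_apply, if_neg]
    rintro rfl
    exact hg hyC
  have hne : H22.HZ.tau χ₀ (H23.Br P E * ys) ≠ 0 := by
    have hfy := H22.HZ.isFix_of_supp_centralizer hysupp
    have h := H22.HZ.tau_Br χ₀ hPp (hEP.mul hfy)
    rw [H23.Br_mul hPp hEP hfy, H23.Br_eq_self hysupp, H22.HZ.tau_eB_mul hB hχ] at h
    rw [h]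
    have h2 := H20.irr_mul_not_memIdeal hM hB hy hS (Subgroup.one_mem P) hχ h0
    rw [one_mul, ← H20.redC_eq_zero_iff (H20.memRing_irr χ₀ y)] at h2
    convert h2 using 1
    rw [H22.HZ.tau, Finset.sum_eq_single y (fun g _ hg => by
        rw [hys, MonoidAlgebra.coeff_single, Finsupp.single_apply, if_neg (Ne.symm hg), zero_mul])
      (by simp)]
    simp [hys]
  -- the algebra generated by the two
  have hcomm : Commute (H23.Br P E) ys := by
    refine (H20.commute_single_iff _ _).2 (fun g => ?_) |>.symm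
    refine H23.isFix_Br hcE.fix y ⟨Subgroup.mem_top y, ?_⟩ g
    exact Subgroup.centralizer_le_normalizer _ hyC
  let A : Subalgebra (H20.k M) kG := Algebra.adjoin (H20.k M) {H23.Br P E, ys}
  letI : CommRing A := Algebra.adjoinCommRingOfComm (H20.k M) (by
    rintro a (rfl | rfl) b (rfl | rfl)
    exacts [rfl, hcomm.eq, hcomm.eq.symm, rfl])
  let ε : A := ⟨H23.Br P E, Algebra.subset_adjoin (Or.inl rfl)⟩
  let yA : A := ⟨ys, Algebra.subset_adjoin (Or.inr rfl)⟩
  set z : A := ε * yA with hz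
  set a := Nat.totient (orderOf y) with ha
  have ha0 : 0 < a := Nat.totient_pos.2 (orderOf_pos y)
  have hidem : H23.Br P E * H23.Br P E = H23.Br P E := by
    rw [← H23.Br_mul hPp hEP hEP, hcE.idem]
  have hzp : z ^ p ^ a = z := by
    have h1 : ε ^ p ^ a = ε :=
      IsIdempotentElem.pow_eq (Subtype.ext hidem) (pow_ne_zero _ hp.out.ne_zero)
    have h2 : y ^ p ^ a = y := by
      conv_rhs => rw [← pow_one y]
      exact pow_eq_pow_iff_modEq.2 (Nat.ModEq.pow_totient ((hp.out.coprime_iff_not_dvd).2 hreg))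
    rw [hz, mul_pow, h1]
    congr 1
    refine Subtype.ext ?_
    rw [SubmonoidClass.coe_pow]
    show ys ^ p ^ a = ys
    rw [hys, MonoidAlgebra.single_pow, one_pow, h2]
  haveI := Fintype.ofFinite (H23.Pt (H20.k M) A)
  set w : A := ∑ b : H23.Pt (H20.k M) A, b z • H23.ptIdem b with hw
  haveI : CharP A p := charP_of_injective_algebraMap
    (algebraMap (H20.k M) A).injective p
  have hnil : IsNilpotent (z - w) := by
    refine H23.isNilpotent_of_forall_pt (k := H20.k M) _ fun c => ?_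
    rw [map_sub, hw, map_sum, sum_eq_single c (fun b _ hb => by
      rw [map_smul, H23.pt_ptIdem_ne hb.symm, smul_zero]) (by simp), map_smul, H23.pt_ptIdem_self,
      smul_eq_mul, mul_one, sub_self]
  have hwp : w ^ p ^ a = w := by
    rw [hw, sum_pow_char_pow]
    refine sum_congr rfl fun b _ => ?_
    rw [smul_pow, (H23.ptIdem_isIdem b).pow_eq (pow_ne_zero _ hp.out.ne_zero), ← map_pow, hzp]
  have hzw : z = w := by
    obtain ⟨n, hn⟩ := hnil
    have hiter : ∀ j : ℕ, (z - w) ^ p ^ (a * j) = z - w := by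
      intro j
      induction j with
      | zero => simp
      | succ j ih =>
        rw [Nat.mul_succ, pow_add, pow_mul, ih, sub_pow_char_pow, hzp, hwp]
    have hle : n ≤ p ^ (a * n) :=
      le_trans (Nat.le_mul_of_pos_left n ha0) (Nat.lt_pow_self hp.out.one_lt).le
    exact sub_eq_zero.1 ((hiter n).symm.trans (pow_eq_zero_of_le hle hn))
  -- one idempotent does not vanish
  obtain ⟨b, hb⟩ : ∃ b : H23.Pt (H20.k M) A,
      H22.HZ.tau χ₀ ((H23.ptIdem b * ε : A) : kG) ≠ 0 := by
    by_contra hall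
    push Not at hall
    apply hne
    have h1 : H23.Br P E * ys = ((w * ε : A) : kG) := by
      rw [← hzw, hz]
      show _ = H23.Br P E * ys * H23.Br P E
      rw [mul_assoc, ← hcomm.eq, ← mul_assoc, hidem]
    rw [h1, hw, sum_mul]
    simp only [smul_mul_assoc, AddSubmonoidClass.coe_finsetSum, SetLike.val_smul]
    rw [H22.HZ.tau_sum]
    refine sum_eq_zero fun b _ => ?_
    rw [show H22.HZ.tau χ₀ (b z • ((H23.ptIdem b * ε : A) : kG)) =
      b z * H22.HZ.tau χ₀ ((H23.ptIdem b * ε : A) : kG) by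
        simp [H22.HZ.tau, mul_sum, mul_assoc], hall b, mul_zero]
  set j0 : kG := ((H23.ptIdem b * ε : A) : kG) with hj0
  have hj0i : j0 * j0 = j0 := by
    rw [hj0, ← MulMemClass.coe_mul]
    congr 1
    rw [mul_mul_mul_comm, (H23.ptIdem_isIdem b).eq, show ε * ε = ε from Subtype.ext hidem]
  have hj0s : H23.Supp (Subgroup.centralizer (P : Set G)) j0 := by
    have : ∀ x ∈ A, H23.Supp (Subgroup.centralizer (P : Set G)) x := fun x hx => by
      induction hx using Algebra.adjoin_induction with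
      | mem t ht =>
        rcases ht with rfl | rfl
        · exact H23.supp_Br P E
        · exact hysupp
      | algebraMap r =>
        intro g hg
        rw [Algebra.algebraMap_eq_smul_one, MonoidAlgebra.coeff_smul, Finsupp.smul_apply,
          H23.supp_one _ g hg, smul_zero]
      | add _ _ _ _ h1 h2 => exact h1.add h2
      | mul _ _ _ _ h1 h2 => exact h1.mul h2
    exact this _ (SetLike.coe_mem _)
  have hj0E : j0 * H23.Br P E = j0 := by
    rw [hj0, show H23.Br P E = ((ε : A) : kG) from rfl, ← MulMemClass.coe_mul, mul_assoc,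
      show ε * ε = ε from Subtype.ext hidem]
  have hj0f := H22.HZ.isFix_of_supp_centralizer hj0s
  have hEc : E ∈ Subalgebra.center (H20.k M) kG := by
    rw [Subalgebra.mem_center_iff]
    exact fun g => (H23.CIdem.comm hcE.fix hcE.supp (H23.supp_top g)).symm
  have hjE : (j0 * E) * (j0 * E) = j0 * E := by
    rw [mul_assoc, ← mul_assoc E, ← Subalgebra.mem_center_iff.1 hEc j0, mul_assoc j0 E E,
      hcE.idem, ← mul_assoc, hj0i]
  let j : H23.fixSub (H20.k M) (P ⊔ ⊥) := ⟨j0 * E, by
    rw [H23.mem_fixSub, sup_bot_eq]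
    exact hj0f.mul hEP⟩
  obtain ⟨n, qs, hqs, hqj, -, hsum⟩ := H23.exists_decomp (k := H20.k M) j (Subtype.ext hjE)
  have hfixq : ∀ l, H23.IsFix P (qs l : kG) := fun l => H23.IsFix.mono (qs l).2 le_sup_left
  obtain ⟨l, hl⟩ : ∃ l, H22.HZ.tau χ₀ (H23.Br P (qs l : kG)) ≠ 0 := by
    by_contra hall
    push Not at hall
    apply hb
    have h1 : H23.Br P (j0 * E) = j0 := by
      rw [H23.Br_mul hPp hj0f hEP, H23.Br_eq_self hj0s, hj0E]
    show H22.HZ.tau χ₀ j0 = 0
    rw [← h1, show j0 * E = ((j : H23.fixSub (H20.k M) (P ⊔ ⊥)) : kG) from rfl, ← hsum,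
      AddSubmonoidClass.coe_finsetSum, H23.Br_sum, H22.HZ.tau_sum]
    exact sum_eq_zero fun l _ => hall l
  have hBr0 : H23.Br P (qs l : kG) ≠ 0 := fun h => hl (by rw [h]; simp [H22.HZ.tau])
  obtain ⟨f, hf, hcoh⟩ := H23.exists_coherent hPp bot_le (hqs l) hBr0
  have hqE : (qs l : kG) * E = qs l := by
    have h1 : (qs l : kG) * (j0 * E) = qs l := congrArg Subtype.val (hqj l).2
    conv_lhs => rw [← h1]
    rw [mul_assoc, mul_assoc j0, hcE.idem, h1]
  have hin : H23.InBlk E P f := by
    refine (hf.2.prim _ (hcE.Br hPp le_top hEP)).resolve_left fun h0' => hBr0 ?_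
    conv_lhs => rw [← hqE, H23.Br_mul hPp (hfixq l) hEP,
      ← hcoh P le_rfl f Relation.ReflTransGen.refl, mul_assoc, h0', mul_zero]
  have hmax' : H23.IsMax p E P f := isMax_of_card hM hB hPD hf hin le_rfl
  obtain ⟨x, hxP, hxf⟩ := H23.maxPair_conj p (H23.isBlk_eB hB) hmax hmax'
  have hqq : (qs l : kG) * (qs l : kG) = qs l := congrArg Subtype.val (hqs l).idem
  refine ⟨H23.cj x (qs l : kG), by rw [← map_mul, hqq],
    isFix_cj_stab (hfixq l) (H23.mem_normalizer_of_cjS_eq hxP), ?_, ?_, ?_⟩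
  · have hx : H23.cj x E = E := H23.cj_eq_self_of_central hcE.fix x
    conv_lhs => rw [← hx, ← map_mul, hqE]
  · intro R b hb
    have h := hb.cj p x⁻¹
    have hxP' : H23.cjS x⁻¹ P = P := H23.cjS_eq_self
      (inv_mem (H23.mem_normalizer_of_cjS_eq hxP))
    rw [hxP', ← hxf, H23.cj_inv_cancel] at h
    have h' := congrArg (H23.cj x) (hcoh _ (h.le p) _ h)
    rwa [map_mul, H23.Br_cj, H23.cjS_cjS, mul_inv_cancel, H23.cjS_one, H23.cj_cancel_inv] at h'
  · rw [show H23.Br P (H23.cj x (qs l : kG)) = H23.cj x (H23.Br P (qs l : kG)) by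
      rw [H23.Br_cj, hxP], H22.HZ.tau_cj]
    exact hl

end H20.FAb
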