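import Cfsg.Agent.H20.LocalAlgebra

/-!
# A local symmetric algebra with a long central chain

If the commutators of `iAi` have codimension at most five and a nilpotent central element has
nonzero fourth power, the corner is generated by that element, hence commutative.
-/

set_option autoImplicit false
set_option linter.unusedSectionVars false
set_option linter.style.haveILetI false

namespace H20.LocalAlg

universe u v

variable {k : Type u} [Field k] {A : Type v} [Ring A] [Algebra k A]
variable [FiniteDimensional k A] [IsAlgClosed k] {i : A} (hi : H23.IsPrim i)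

include hi in
/-- With codimension five and a central element of nilpotency at least five, the dimension is at
most five. -/
theorem finrank_le_five (τ : A →ₗ[k] k)
    (hτ : ∀ a ∈ corner k i, ∀ b ∈ corner k i, τ (a * b) = τ (b * a))
    (hnd : ∀ a ∈ corner k i, a ≠ 0 → ∃ b ∈ corner k i, τ (a * b) ≠ 0)
    (hcod : Module.finrank k (corner k i) ≤ Module.finrank k (comm k i) + 5)
    {w : A} (hw : w ∈ corner k i) (hc : ∀ a ∈ corner k i, w * a = a * w) (hn : IsNilpotent w)
    (h4 : w ^ 4 ≠ 0) : Module.finrank k (corner k i) ≤ 5 := by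
  classical
  set S := corner k i with hS
  set K := comm k i with hK
  have hKS : K ≤ S := comm_le_corner hi.idem
  have hpowS : ∀ j, w ^ (j + 1) ∈ S := fun j => by
    induction j with
    | zero => rwa [zero_add, pow_one]
    | succ j ih => rw [pow_succ]; exact mul_mem_corner hi.idem ih hw
  have hcp : ∀ (j : ℕ), ∀ a ∈ S, w ^ j * a = a * w ^ j := by
    intro j a ha
    induction j with
    | zero => simp
    | succ j ih => rw [pow_succ, mul_assoc, hc a ha, ← mul_assoc, ih, mul_assoc]
  have hwS : ∀ (j : ℕ), ∀ a ∈ S, w ^ j * a ∈ S := by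
    intro j a ha
    rcases j with _ | j
    · rwa [pow_zero, one_mul]
    · exact mul_mem_corner hi.idem (hpowS j) ha
  have hwK : ∀ (j : ℕ), ∀ a ∈ K, w ^ j * a ∈ K := by
    intro j a ha
    have hle : K ≤ K.comap (LinearMap.mulLeft k (w ^ j)) := by
      refine Submodule.span_le.2 ?_
      rintro _ ⟨x, hx, y, hy, rfl⟩
      show w ^ j * (x * y - y * x) ∈ K
      rw [show w ^ j * (x * y - y * x) = w ^ j * x * y - y * (w ^ j * x) by
        rw [mul_sub, mul_assoc, ← mul_assoc (w ^ j) y, hcp j y hy, mul_assoc]]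
      exact bracket_mem_comm (hwS j x hx) hy
    exact hle ha
  let N : ℕ → Submodule k A := fun j => S.map (LinearMap.mulLeft k (w ^ j)) ⊔ K
  have hN0 : N 0 = S := by
    simp only [N, pow_zero, LinearMap.mulLeft_one, Submodule.map_id]
    exact sup_eq_left.2 hKS
  have hanti : ∀ j, N (j + 1) ≤ N j := by
    intro j
    refine sup_le ?_ le_sup_right
    rintro _ ⟨a, ha, rfl⟩
    refine Submodule.mem_sup_left ⟨w * a, by simpa using hwS 1 a ha, ?_⟩
    show w ^ j * (w * a) = w ^ (j + 1) * a
    rw [pow_succ, mul_assoc]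
  have hanti' : ∀ j r, N (j + r) ≤ N j := by
    intro j r
    induction r with
    | zero => exact le_rfl
    | succ r ih => exact (hanti _).trans ih
  obtain ⟨m, hm⟩ := hn
  have hNm : ∀ j, N (j + m) ≤ K := by
    intro j
    refine sup_le ?_ le_rfl
    rintro _ ⟨a, -, rfl⟩
    show w ^ (j + m) * a ∈ K
    rw [pow_add, hm, mul_zero, zero_mul]
    exact zero_mem _
  have hstat : ∀ j, N j ≤ N (j + 1) → N j ≤ K := by
    intro j hj
    have hr : ∀ r, N j ≤ N (j + r) := by
      intro r
      induction r with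
      | zero => exact le_rfl
      | succ r ih =>
        refine ih.trans (sup_le ?_ le_sup_right)
        rintro _ ⟨a, ha, rfl⟩
        have h1 : w ^ j * a ∈ N (j + 1) := hj (Submodule.mem_sup_left ⟨a, ha, rfl⟩)
        obtain ⟨x, hx, y, hy, hxy⟩ := Submodule.mem_sup.1 h1
        obtain ⟨b, hb, rfl⟩ := hx
        show w ^ (j + r) * a ∈ N (j + (r + 1))
        rw [add_comm j r, pow_add, mul_assoc, ← hxy, mul_add, LinearMap.mulLeft_apply, ← mul_assoc,
          ← pow_add, show r + (j + 1) = j + (r + 1) by omega]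
        exact Submodule.add_mem_sup ⟨b, hb, rfl⟩ (hwK r y hy)
    exact (hr m).trans (hNm j)
  have hτK : ∀ z ∈ K, τ z = 0 := fun z hz => by
    have : K ≤ LinearMap.ker τ := by
      refine Submodule.span_le.2 ?_
      rintro _ ⟨a, ha, b, hb, rfl⟩
      rw [SetLike.mem_coe, LinearMap.mem_ker, map_sub, hτ a ha b hb, sub_self]
    exact this hz
  have hN4 : ¬ N 4 ≤ K := by
    intro h
    obtain ⟨b, hb, hb'⟩ := hnd (w ^ 4) (hpowS 3) h4
    exact hb' (hτK _ (h (Submodule.mem_sup_left ⟨b, hb, rfl⟩)))
  have hlt : ∀ j ≤ 4, N (j + 1) < N j := fun j hj =>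
    lt_of_le_of_ne (hanti j) fun he => hN4 (le_trans
      (by have := hanti' j (4 - j); rwa [Nat.add_sub_cancel' hj] at this) (hstat j he.ge))
  have hdim : Module.finrank k S ≤ Module.finrank k (N 1) + 1 := by
    have h1 := Submodule.finrank_lt_finrank_of_lt (hlt 1 (by omega))
    have h2 := Submodule.finrank_lt_finrank_of_lt (hlt 2 (by omega))
    have h3 := Submodule.finrank_lt_finrank_of_lt (hlt 3 (by omega))
    have h5 := Submodule.finrank_lt_finrank_of_lt (hlt 4 (by omega))
    have h6 : Module.finrank k K ≤ Module.finrank k (N (4 + 1)) :=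
      Submodule.finrank_mono le_sup_right
    rw [show (1 : ℕ) + 1 = 2 from rfl] at h1
    rw [show (2 : ℕ) + 1 = 3 from rfl] at h2
    rw [show (3 : ℕ) + 1 = 4 from rfl] at h3
    omega
  -- the corner is generated by `w` modulo the commutators
  have hN1J : N 1 ≤ rad (k := k) hi := by
    refine sup_le ?_ (comm_le_rad hi)
    rintro _ ⟨a, ha, rfl⟩
    show w ^ 1 * a ∈ rad (k := k) hi
    rw [pow_one]
    exact mul_mem_rad hi ⟨hw, ⟨m, hm⟩⟩ ha
  have hsplit : S ≤ Submodule.span k {i} ⊔ N 1 := by
    have hlt' : N 1 < Submodule.span k {i} ⊔ N 1 := lt_of_le_of_ne le_sup_right fun he =>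
      i_notMem_rad (k := k) hi (hN1J (he ▸ Submodule.mem_sup_left
        (Submodule.mem_span_singleton_self i)))
    have hle : Submodule.span k {i} ⊔ N 1 ≤ S :=
      sup_le ((Submodule.span_singleton_le_iff_mem _ _).2 (self_mem_corner hi.idem))
        (hN0 ▸ hanti 0)
    exact (Submodule.eq_of_le_of_finrank_le hle (hdim.trans
      (Submodule.finrank_lt_finrank_of_lt hlt'))).ge
  set T : Submodule k A := Submodule.span k {x | ∃ j : ℕ, x = w ^ j * i} with hT
  have hgen : ∀ j, N 0 ≤ T ⊔ N j := by
    intro j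
    induction j with
    | zero => exact le_sup_right
    | succ j ih =>
      refine ih.trans (sup_le le_sup_left (sup_le ?_ (le_sup_of_le_right le_sup_right)))
      rintro _ ⟨a, ha, rfl⟩
      obtain ⟨x, hx, y, hy, rfl⟩ := Submodule.mem_sup.1 (hsplit ha)
      obtain ⟨c, rfl⟩ := Submodule.mem_span_singleton.1 hx
      obtain ⟨u, hu, v, hv, rfl⟩ := Submodule.mem_sup.1 hy
      obtain ⟨b, hb, rfl⟩ := hu
      simp only [LinearMap.mulLeft_apply, mul_add, mul_smul_comm, ← mul_assoc, ← pow_add]
      refine Submodule.add_mem_sup (Submodule.smul_mem _ c (Submodule.subset_span ⟨j, rfl⟩)) ?_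
      exact Submodule.add_mem_sup ⟨b, hb, rfl⟩ (hwK j v hv)
  have hST : S ≤ T ⊔ K := by
    rw [← hN0]
    exact (hgen (0 + m)).trans (sup_le_sup_left (hNm 0) _)
  have hTc : ∀ t ∈ T, ∀ a ∈ S, t * a = a * t := by
    intro t ht a ha
    induction ht using Submodule.span_induction with
    | mem x hx =>
      obtain ⟨j, rfl⟩ := hx
      obtain ⟨h1, h2⟩ := (mem_corner hi.idem).1 ha
      rw [mul_assoc, h1, hcp j a ha, ← mul_assoc]
      rcases j with _ | j
      · rw [pow_zero, mul_one, h2]
      · rw [mul_assoc, ((mem_corner hi.idem).1 (hpowS j)).2]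
    | zero => simp
    | add x y _ _ hx hy => rw [add_mul, mul_add, hx, hy]
    | smul c x _ hx => rw [smul_mul_assoc, mul_smul_comm, hx]
  have hTS : T ≤ S := Submodule.span_le.2 (by
    rintro _ ⟨j, rfl⟩
    exact hwS j i (self_mem_corner hi.idem))
  obtain ⟨n, hn'⟩ := exists_pow_eq_bot (k := k) hi
  have hdeep : ∀ r, K ≤ rad (k := k) hi ^ (r + 1) := by
    intro r
    induction r with
    | zero => rw [zero_add, pow_one]; exact comm_le_rad hi
    | succ r ih =>
      refine Submodule.span_le.2 ?_
      rintro _ ⟨a, ha, b, hb, rfl⟩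
      obtain ⟨t, ht, x, hx, rfl⟩ := Submodule.mem_sup.1 (hST ha)
      obtain ⟨t', ht', y, hy, rfl⟩ := Submodule.mem_sup.1 (hST hb)
      have e : (t + x) * (t' + y) - (t' + y) * (t + x) = x * y - y * x := by
        simp only [add_mul, mul_add, hTc t ht t' (hTS ht'), hTc t ht y (hKS hy),
          hTc t' ht' x (hKS hx)]
        abel
      show _ ∈ rad (k := k) hi ^ (r + 1 + 1)
      rw [e, pow_succ]
      exact Submodule.sub_mem _ (Submodule.mul_mem_mul (ih hx) (comm_le_rad hi hy))
        (Submodule.mul_mem_mul (ih hy) (comm_le_rad hi hx))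
  have hKbot : K = ⊥ := le_bot_iff.1 (hn' ▸ hdeep n)
  rw [hKbot, finrank_bot, zero_add] at hcod
  exact hcod

end H20.LocalAlg
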